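import Cfsg.Agent.TwoTimesSym.FactsLists

/-!
The finite facts on `S6`.
-/

set_option autoImplicit false
set_option maxRecDepth 8000

namespace Cfsg.Agent.TwoTimesSym

theorem facts6 : PFacts 6 := pfacts_of_lists (by decide +kernel) (by decide +kernel) (by decide +kernel)
  (by decide +kernel) (by decide +kernel) ⟨45, by decide, by decide⟩ (by decide)
  ⟨(Equiv.swap 0 2 * Equiv.swap 0 4) * (Equiv.swap 1 3 * Equiv.swap 1 5), by decide +kernel⟩
  ⟨Equiv.swap 1 2 * Equiv.swap 1 3, by decide +kernel⟩
  (by decide +kernel) (by decide +kernel) (by decide +kernel) (by decide +kernel) (by decide +kernel)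
  (by decide +kernel) (by decide +kernel) (by decide +kernel) (by decide +kernel) (by decide +kernel)
  (by decide +kernel) (by decide +kernel)

end Cfsg.Agent.TwoTimesSym
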