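import Cfsg.Agent.TwoTimesSym.Model

/-!
Basic consequences: `2`-subgroups centralising a conjugate of `t`, the normaliser `L` of `T`, and the
orbit of `t` under it.
-/

set_option autoImplicit false

namespace Cfsg.Agent.TwoTimesSym

open Subgroup

variable {G : Type*} [Group G]

/-- The group `T`. -/
abbrev tG (t u z a k : G) : Subgroup G := closure ({t, u, z, a, k} : Set G)

/-- An elementary abelian subgroup `⟨t, u, z, a⟩`; the other one is `eG t u z k`. -/
abbrev eG (t u z a : G) : Subgroup G := closure ({t, u, z, a} : Set G)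

/-- The normaliser of a subgroup. -/
abbrev nrm (K : Subgroup G) : Subgroup G := Subgroup.normalizer (K : Set G)

theorem nrm_iff [Finite G] {K : Subgroup G} {g : G} : g ∈ nrm K ↔ ∀ x ∈ K, cj g x ∈ K := by
  constructor
  · intro hg x hx
    have hgi := inv_mem hg
    rw [nrm, Subgroup.mem_normalizer_iff] at hgi
    simpa [cj] using (hgi x).1 hx
  · intro h
    rw [← inv_mem_iff, nrm, Subgroup.mem_normalizer_iff]
    have hbij : Function.Bijective fun x : K => (⟨cj g x, h x x.2⟩ : K) :=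
      Finite.injective_iff_bijective.1 fun x y e =>
        Subtype.ext (cj_injective g (congrArg Subtype.val e))
    intro x
    simp only [inv_inv]
    refine ⟨fun hx => h x hx, fun hx => ?_⟩
    obtain ⟨y, hy⟩ := hbij.2 ⟨g⁻¹ * x * g, hx⟩
    have : (y : G) = x := cj_injective g (congrArg Subtype.val hy)
    exact this ▸ y.2

theorem cj_closure [Finite G] {S : Set G} {g : G} (h : ∀ x ∈ S, cj g x ∈ closure S) :
    g ∈ nrm (closure S) := by
  rw [nrm_iff]
  intro x hx
  induction hx using closure_induction with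
  | mem y hy => exact h y hy
  | one => rw [cj_one]; exact one_mem _
  | mul y w _ _ e1 e2 => rw [cj_mul]; exact mul_mem e1 e2
  | inv y _ e1 => rw [cj_inv]; exact inv_mem e1

theorem mem_cent {t g : G} : g ∈ centralizer ({t} : Set G) ↔ g * t = t * g :=
  mem_centralizer_singleton_iff

/-- The subgroup conjugate to `P` by `g`. -/
abbrev cjS (g : G) (P : Subgroup G) : Subgroup G := P.map (MulAut.conj g⁻¹).toMonoidHom

theorem mem_cjS {g x : G} {P : Subgroup G} : x ∈ cjS g P ↔ ∃ y ∈ P, cj g y = x := by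
  simp [cjS, Subgroup.mem_map, cj]

theorem card_cjS (g : G) (P : Subgroup G) : Nat.card (cjS g P) = Nat.card P :=
  Subgroup.card_map_of_injective (MulAut.conj g⁻¹).injective

variable {t u z a k : G}

namespace Hyp

variable (h : Hyp t u z a k)
include h

theorem t_mem : t ∈ tG t u z a k := subset_closure (.inl rfl)
theorem u_mem : u ∈ tG t u z a k := subset_closure (.inr (.inl rfl))
theorem z_mem : z ∈ tG t u z a k := subset_closure (.inr (.inr (.inl rfl)))
theorem a_mem : a ∈ tG t u z a k := subset_closure (.inr (.inr (.inr (.inl rfl))))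
theorem k_mem : k ∈ tG t u z a k := subset_closure (.inr (.inr (.inr (.inr rfl))))

theorem ev_mem (x : TEl) : x.ev t u z a k ∈ tG t u z a k := h.toFrame.mem_T.2 ⟨x, rfl⟩

theorem T_le_cent : tG t u z a k ≤ centralizer ({t} : Set G) := by
  rw [closure_le]
  rintro x (rfl | rfl | rfl | rfl | rfl) <;> rw [SetLike.mem_coe, mem_cent]
  exacts [h.tu, h.tz, h.ta, h.tk]

theorem cen_comm (e i j : Bool) {x : G} (hx : x ∈ tG t u z a k) :
    x * (TEl.cen e i j).ev t u z a k = (TEl.cen e i j).ev t u z a k * x := by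
  obtain ⟨y, rfl⟩ := h.toFrame.mem_T.1 hx
  rw [← h.toFrame.ev_mul, ← h.toFrame.ev_mul]
  congr 1
  clear hx
  revert y e i j
  decide

theorem sq_mem {x : G} (hx : x ∈ tG t u z a k) : x * x = 1 ∨ x * x = z := by
  obtain ⟨y, rfl⟩ := h.toFrame.mem_T.1 hx
  rw [← h.toFrame.ev_mul]
  have key : ∀ y : TEl, y.mul y = TEl.one ∨ y.mul y = TEl.cen false false true := by decide
  rcases key y with e | e
  · exact Or.inl (by rw [e, Frame.ev_one])
  · exact Or.inr (by rw [e, Frame.ev_z])

theorem comm_mem {x y : G} (hx : x ∈ tG t u z a k) (hy : y ∈ tG t u z a k) :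
    x * y = y * x ∨ x * y = y * x * z := by
  obtain ⟨x, rfl⟩ := h.toFrame.mem_T.1 hx
  obtain ⟨y, rfl⟩ := h.toFrame.mem_T.1 hy
  rw [← h.toFrame.ev_mul, ← h.toFrame.ev_mul]
  have key : ∀ x y : TEl, x.mul y = y.mul x ∨ x.mul y = (y.mul x).mul (TEl.cen false false true) := by
    decide
  rcases key x y with e | e
  · exact Or.inl (by rw [e])
  · exact Or.inr (by rw [e, h.toFrame.ev_mul, Frame.ev_z])

theorem z_ne_one : z ≠ 1 := fun e => by
  have := h.inj (TEl.cen false false true) (by rw [Frame.ev_z, e])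
  exact absurd this (by decide)

theorem t_ne_one : t ≠ 1 := fun e => by
  have := h.inj (TEl.cen true false false) (by rw [Frame.ev_t, e])
  exact absurd this (by decide)

theorem ak_ne : a * k ≠ k * a := fun e => h.z_ne_one (by
  have h2 := h.ka
  rw [← e] at h2
  exact mul_eq_left.1 h2.symm)

theorem center_T {x : G} (hx : x ∈ tG t u z a k) (ha : x * a = a * x) (hk : x * k = k * x) :
    ∃ e i j, (TEl.cen e i j).ev t u z a k = x := by
  obtain ⟨y, rfl⟩ := h.toFrame.mem_T.1 hx
  have key : ∀ y : TEl, y.mul ⟨false, true, false, (false, false)⟩ =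
      (⟨false, true, false, (false, false)⟩ : TEl).mul y →
      y.mul ⟨false, false, true, (false, false)⟩ = (⟨false, false, true, (false, false)⟩ : TEl).mul y →
      y = TEl.cen y.e y.c.1 y.c.2 := by decide
  refine ⟨y.e, y.c.1, y.c.2, ?_⟩
  rw [← key y ?_ ?_]
  · apply h.ev_injective
    simpa only [h.toFrame.ev_mul, Frame.ev_a] using ha
  · apply h.ev_injective
    simpa only [h.toFrame.ev_mul, Frame.ev_k] using hk

theorem E1_le : eG t u z a ≤ tG t u z a k :=
  closure_mono (by intro x hx; simp only [Set.mem_insert_iff, Set.mem_singleton_iff] at hx ⊢; tauto)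

theorem E2_le : eG t u z k ≤ tG t u z a k :=
  closure_mono (by intro x hx; simp only [Set.mem_insert_iff, Set.mem_singleton_iff] at hx ⊢; tauto)

theorem E1_sq {x : G} (hx : x ∈ eG t u z a) : x * x = 1 := by
  obtain ⟨y, hy, rfl⟩ := h.toFrame.mem_E1.1 hx
  rw [← h.toFrame.ev_mul]
  have key : ∀ y : TEl, y.q = false → y.mul y = TEl.one := by decide
  rw [key y hy, Frame.ev_one]

theorem E2_sq {x : G} (hx : x ∈ eG t u z k) : x * x = 1 := by
  obtain ⟨y, hy, rfl⟩ := h.toFrame.mem_E2.1 hx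
  rw [← h.toFrame.ev_mul]
  have key : ∀ y : TEl, y.p = false → y.mul y = TEl.one := by decide
  rw [key y hy, Frame.ev_one]

theorem E1_comm {x y : G} (hx : x ∈ eG t u z a) (hy : y ∈ eG t u z a) : x * y = y * x := by
  obtain ⟨x, hx', rfl⟩ := h.toFrame.mem_E1.1 hx
  obtain ⟨y, hy', rfl⟩ := h.toFrame.mem_E1.1 hy
  rw [← h.toFrame.ev_mul, ← h.toFrame.ev_mul]
  have key : ∀ x y : TEl, x.q = false → y.q = false → x.mul y = y.mul x := by decide
  rw [key x y hx' hy']

theorem E2_comm {x y : G} (hx : x ∈ eG t u z k) (hy : y ∈ eG t u z k) : x * y = y * x := by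
  obtain ⟨x, hx', rfl⟩ := h.toFrame.mem_E2.1 hx
  obtain ⟨y, hy', rfl⟩ := h.toFrame.mem_E2.1 hy
  rw [← h.toFrame.ev_mul, ← h.toFrame.ev_mul]
  have key : ∀ x y : TEl, x.p = false → y.p = false → x.mul y = y.mul x := by decide
  rw [key x y hx' hy']

theorem E1_ne_E2 : eG t u z a ≠ eG t u z k := fun e => h.ak_ne (by
  have ha : a ∈ eG t u z k := e ▸ subset_closure (.inr (.inr (.inr rfl)))
  exact h.E2_comm ha (subset_closure (.inr (.inr (.inr rfl)))))

variable [Finite G]

/-- The only elementary abelian subgroups of order `16` of `T`. -/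
theorem elem_sixteen {E : Subgroup G} (hE : E ≤ tG t u z a k) (hc : Nat.card E = 16)
    (hs : ∀ x ∈ E, x * x = 1) : E = eG t u z a ∨ E = eG t u z k := by
  have hcomm : ∀ x ∈ E, ∀ y ∈ E, x * y = y * x := fun x hx y hy => by
    have h1 := hs _ (mul_mem hx hy)
    calc x * y = (x * y)⁻¹ := eq_inv_of_mul_eq_one_left h1
      _ = y⁻¹ * x⁻¹ := mul_inv_rev _ _
      _ = y * x := by rw [inv_eq_of_mul_eq_one_right (hs x hx), inv_eq_of_mul_eq_one_right (hs y hy)]
  have hle : E ≤ eG t u z a ∨ E ≤ eG t u z k := by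
    by_contra hn
    rw [not_or, SetLike.not_le_iff_exists, SetLike.not_le_iff_exists] at hn
    obtain ⟨⟨x, hx, hx1⟩, y, hy, hy2⟩ := hn
    obtain ⟨X, rfl⟩ := h.toFrame.mem_T.1 (hE hx)
    obtain ⟨Y, rfl⟩ := h.toFrame.mem_T.1 (hE hy)
    have hX : X.q = true := by
      by_contra e
      exact hx1 (h.toFrame.mem_E1.2 ⟨X, by simpa using e, rfl⟩)
    have hY : Y.p = true := by
      by_contra e
      exact hy2 (h.toFrame.mem_E2.2 ⟨Y, by simpa using e, rfl⟩)
    have key : ∀ X Y : TEl, X.q = true → Y.p = true → X.mul X = TEl.one → Y.mul Y = TEl.one →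
        X.mul Y = Y.mul X → False := by decide
    refine key X Y hX hY ?_ ?_ ?_ <;> apply h.ev_injective <;>
      simp only [h.toFrame.ev_mul, Frame.ev_one]
    · exact hs _ hx
    · exact hs _ hy
    · exact hcomm _ hx _ hy
  rcases hle with hl | hl
  · exact Or.inl (Subgroup.eq_of_le_of_card_ge hl (by rw [hc, h.card_E1]))
  · exact Or.inr (Subgroup.eq_of_le_of_card_ge hl (by rw [hc, h.card_E2]))

theorem card_dvd_32 {P : Subgroup G} (hP : IsPGroup 2 P) (hle : P ≤ centralizer ({t} : Set G)) :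
    Nat.card P ∣ 32 := by
  obtain ⟨m, hm, hc⟩ := h.card
  obtain ⟨n, hn⟩ := IsPGroup.iff_card.1 hP
  have hd := Subgroup.card_dvd_of_le hle
  rw [hn, hc] at hd
  rw [hn]
  exact (Nat.Coprime.dvd_of_dvd_mul_right
    ((Nat.Prime.coprime_iff_not_dvd Nat.prime_two).2 (Nat.odd_iff.1 hm |> fun e => by omega) |>.pow_left n)
    hd)

/-- A `2`-subgroup of `C(t)` can be moved into `T` inside `C(t)`. -/
theorem exists_cj_into_T {P : Subgroup G} (hP : IsPGroup 2 P) (hle : P ≤ centralizer ({t} : Set G)) :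
    ∃ g, g * t = t * g ∧ ∀ x ∈ P, cj g x ∈ tG t u z a k := by
  classical
  set C := centralizer ({t} : Set G)
  obtain ⟨m, hm, hc⟩ := h.card
  have hTc : Nat.card ((tG t u z a k).subgroupOf C) = 2 ^ (Nat.card C).factorization 2 := by
    have hm0 : m ≠ 0 := by rintro rfl; simp at hm
    have hm2 : m.factorization 2 = 0 := Nat.factorization_eq_zero_of_not_dvd fun hd => by
      obtain ⟨j, rfl⟩ := hm
      omega
    rw [Nat.card_congr (subgroupOfEquivOfLe h.T_le_cent).toEquiv, h.card_T, hc,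
      Nat.factorization_mul (by norm_num) hm0, Finsupp.add_apply, hm2,
      show (32 : ℕ) = 2 ^ 5 by norm_num, Nat.Prime.factorization_pow Nat.prime_two]
    simp
  let S : Sylow 2 C := Sylow.ofCard _ hTc
  have hP' : IsPGroup 2 (P.subgroupOf C) := hP.of_equiv (subgroupOfEquivOfLe hle).symm
  obtain ⟨Q, hQ⟩ := hP'.exists_le_sylow
  obtain ⟨c, hcQ⟩ := MulAction.exists_smul_eq C Q S
  refine ⟨(c : G)⁻¹, ?_, fun x hx => ?_⟩
  · exact (Commute.inv_left (a := (c : G)) (b := t) (mem_cent.1 c.2)).eq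
  · have hxQ : (⟨x, hle hx⟩ : C) ∈ (Q : Subgroup C) := hQ (mem_subgroupOf.2 hx)
    have hmem : c * ⟨x, hle hx⟩ * c⁻¹ ∈ (S : Subgroup C) := by
      rw [← hcQ, Sylow.coe_subgroup_smul, Subgroup.mem_pointwise_smul_iff_inv_smul_mem]
      rw [MulAut.smul_def, show (MulAut.conj c)⁻¹ (c * ⟨x, hle hx⟩ * c⁻¹) = ⟨x, hle hx⟩ by
        simp [mul_assoc]]
      exact hxQ
    have h' : c * ⟨x, hle hx⟩ * c⁻¹ ∈ (tG t u z a k).subgroupOf C := by
      simpa [S, Sylow.coe_ofCard] using hmem
    simpa [cj, mem_subgroupOf] using h'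

/-- A `2`-subgroup centralising a conjugate of `t` can be moved into `T`. -/
theorem transport {y : G} (hy : IsConj t y) {P : Subgroup G} (hP : IsPGroup 2 P)
    (hle : P ≤ centralizer ({y} : Set G)) :
    ∃ g, cj g y = t ∧ ∀ x ∈ P, cj g x ∈ tG t u z a k := by
  obtain ⟨g, hg⟩ := isConj_iff_cj.1 hy
  have hgy : cj g⁻¹ y = t := cj_inv_left hg
  have hle' : cjS g⁻¹ P ≤ centralizer ({t} : Set G) := by
    intro x hx
    obtain ⟨w, hw, rfl⟩ := mem_cjS.1 hx
    rw [mem_cent, ← hgy, ← cj_mul, mem_cent.1 (hle hw), cj_mul]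
  obtain ⟨c, hc, hcT⟩ := h.exists_cj_into_T (hP.map _) hle'
  refine ⟨g⁻¹ * c, ?_, fun x hx => ?_⟩
  · rw [← cj_cj, hgy, cj_eq_self.2 hc]
  · rw [← cj_cj]; exact hcT _ (mem_cjS.2 ⟨x, hx, rfl⟩)

theorem card_le_32 {y : G} (hy : IsConj t y) {P : Subgroup G} (hP : IsPGroup 2 P)
    (hle : P ≤ centralizer ({y} : Set G)) : Nat.card P ≤ 32 := by
  obtain ⟨g, -, hg⟩ := h.transport hy hP hle
  rw [← h.card_T]
  exact Nat.card_le_card_of_injective (fun x : P => (⟨cj g x, hg x x.2⟩ : tG t u z a k))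
    fun _ _ e => Subtype.ext (cj_injective g (congrArg Subtype.val e))

/-- In a `2`-subgroup centralising a conjugate of `t` all nontrivial squares agree. -/
theorem sq_eq {y : G} (hy : IsConj t y) {P : Subgroup G} (hP : IsPGroup 2 P)
    (hle : P ≤ centralizer ({y} : Set G)) {x w : G} (hx : x ∈ P) (hw : w ∈ P)
    (hx1 : x * x ≠ 1) (hw1 : w * w ≠ 1) : x * x = w * w := by
  obtain ⟨g, -, hg⟩ := h.transport hy hP hle
  have hne : ∀ v : G, v ∈ P → v * v ≠ 1 → cj g (v * v) = z := fun v hv hv1 => by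
    rw [cj_mul]
    rcases h.sq_mem (hg v hv) with e | e
    · rw [← cj_mul] at e
      exact absurd (cj_injective g (e.trans (cj_one g).symm)) hv1
    · exact e
  exact cj_injective g ((hne x hx hx1).trans (hne w hw hw1).symm)

/-- In a `2`-subgroup centralising a conjugate of `t` squares agree with commutators. -/
theorem comm_eq {y : G} (hy : IsConj t y) {P : Subgroup G} (hP : IsPGroup 2 P)
    (hle : P ≤ centralizer ({y} : Set G)) {x w v c : G} (hx : x ∈ P) (hw : w ∈ P) (hv : v ∈ P)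
    (hne : x * w = w * x * c) (hc : c ≠ 1) (hv1 : v * v ≠ 1) : v * v = c := by
  obtain ⟨g, -, hg⟩ := h.transport hy hP hle
  have h2 : cj g (v * v) = z := by
    rw [cj_mul]
    rcases h.sq_mem (hg v hv) with e | e
    · rw [← cj_mul] at e
      exact absurd (cj_injective g (e.trans (cj_one g).symm)) hv1
    · exact e
  have h3 : cj g c = z := by
    have e0 := congrArg (cj g) hne
    rw [cj_mul, cj_mul, cj_mul] at e0
    rcases h.comm_mem (hg x hx) (hg w hw) with e | e
    · rw [e] at e0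
      exact absurd (cj_injective g ((mul_eq_left.1 e0.symm).trans (cj_one g).symm)) hc
    · rw [e] at e0
      exact (mul_left_cancel e0).symm
  exact cj_injective g (h2.trans h3.symm)

/-- A `2`-subgroup of order `32` centralising a conjugate of `t` is nonabelian. -/
theorem not_abelian {y : G} (hy : IsConj t y) {P : Subgroup G} (hP : IsPGroup 2 P)
    (hle : P ≤ centralizer ({y} : Set G)) (hc : Nat.card P = 32)
    (hab : ∀ x ∈ P, ∀ w ∈ P, x * w = w * x) : False := by
  obtain ⟨g, -, hg⟩ := h.transport hy hP hle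
  have hb : Function.Bijective fun x : P => (⟨cj g x, hg x x.2⟩ : tG t u z a k) :=
    (Nat.bijective_iff_injective_and_card _).2
      ⟨fun _ _ e => Subtype.ext (cj_injective g (congrArg Subtype.val e)), by rw [hc, h.card_T]⟩
  obtain ⟨x, hx⟩ := hb.2 ⟨a, h.a_mem⟩
  obtain ⟨w, hw⟩ := hb.2 ⟨k, h.k_mem⟩
  apply h.ak_ne
  rw [show a = cj g x from (congrArg Subtype.val hx).symm, show k = cj g w from (congrArg Subtype.val hw).symm,
    ← cj_mul, ← cj_mul, hab x x.2 w w.2]

theorem isPGroup_T : IsPGroup 2 (tG t u z a k) := IsPGroup.of_card (n := 5) (by rw [h.card_T]; norm_num)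

/-- A conjugating element between central elements can be chosen in the normaliser of `T`. -/
theorem adjust {x y g : G} {N : Subgroup G} (hN : tG t u z a k ≤ N) (hg : g ∈ N) (hxy : cj g x = y)
    (hx : tG t u z a k ≤ centralizer ({x} : Set G)) (hy : tG t u z a k ≤ centralizer ({y} : Set G))
    (h32 : ∀ P : Subgroup G, IsPGroup 2 P → P ≤ N ⊓ centralizer ({y} : Set G) → Nat.card P ≤ 32) :
    ∃ l ∈ N ⊓ nrm (tG t u z a k), cj l x = y := by
  classical
  set T := tG t u z a k
  set D := N ⊓ centralizer ({y} : Set G)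
  have hT : T ≤ D := le_inf hN hy
  have hT' : cjS g T ≤ D := by
    intro w hw
    obtain ⟨v, hv, rfl⟩ := mem_cjS.1 hw
    refine mem_inf.2 ⟨?_, ?_⟩
    · exact mul_mem (mul_mem (inv_mem hg) (hN hv)) hg
    · rw [mem_cent, ← hxy, ← cj_mul, mem_cent.1 (hx hv), cj_mul]
  have hbig : ∀ S : Subgroup G, IsPGroup 2 S → Nat.card S = 32 → S ≤ D →
      ∃ R : Sylow 2 D, (R : Subgroup D) = S.subgroupOf D := by
    intro S hS hc hSD
    obtain ⟨R, hR⟩ := (hS.of_equiv (subgroupOfEquivOfLe hSD).symm).exists_le_sylow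
    refine ⟨R, (Subgroup.eq_of_le_of_card_ge hR ?_).symm⟩
    have hm := h32 ((R : Subgroup D).map D.subtype) (R.isPGroup'.map _) (map_subtype_le _)
    rw [Subgroup.card_map_of_injective D.subtype_injective] at hm
    rw [Nat.card_congr (subgroupOfEquivOfLe hSD).toEquiv, hc]
    exact hm
  obtain ⟨R, hR⟩ := hbig T h.isPGroup_T h.card_T hT
  obtain ⟨R', hR'⟩ := hbig (cjS g T) (h.isPGroup_T.map _) (by rw [card_cjS, h.card_T]) hT'
  obtain ⟨d, hd⟩ := MulAction.exists_smul_eq D R' R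
  refine ⟨g * (d : G)⁻¹, mem_inf.2 ⟨mul_mem hg (inv_mem (mem_inf.1 d.2).1), ?_⟩, ?_⟩
  · rw [nrm_iff]
    intro v hv
    have hmem : (⟨cj g v, hT' (mem_cjS.2 ⟨v, hv, rfl⟩)⟩ : D) ∈ (R' : Subgroup D) := by
      rw [hR', mem_subgroupOf]; exact mem_cjS.2 ⟨v, hv, rfl⟩
    have h2 : d * ⟨cj g v, hT' (mem_cjS.2 ⟨v, hv, rfl⟩)⟩ * d⁻¹ ∈ (R : Subgroup D) := by
      rw [← hd, Sylow.coe_subgroup_smul, Subgroup.mem_pointwise_smul_iff_inv_smul_mem, MulAut.smul_def]
      convert hmem using 1
      simp [mul_assoc]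
    rw [hR, mem_subgroupOf] at h2
    rw [← cj_cj]
    simpa [cj] using h2
  · rw [← cj_cj, hxy, cj_eq_self]
    exact (Commute.inv_left (a := (d : G)) (b := y) (mem_cent.1 (mem_inf.1 d.2).2)).eq

theorem cent_inf_nrm : centralizer ({t} : Set G) ⊓ nrm (tG t u z a k) = tG t u z a k := by
  refine le_antisymm (fun g hg => ?_) (le_inf h.T_le_cent Subgroup.le_normalizer)
  exact h.normT g (mem_cent.1 (mem_inf.1 hg).1) (nrm_iff.1 (mem_inf.1 hg).2)

theorem cen_le_cent (e i j : Bool) :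
    tG t u z a k ≤ centralizer ({(TEl.cen e i j).ev t u z a k} : Set G) := fun _ hx =>
  mem_cent.2 (h.cen_comm e i j hx)

/-- Central elements of `T` conjugate in `C(t)` are equal. -/
theorem eq_of_conj_C {e i j e' i' j' : Bool} {g : G} (hg : g * t = t * g)
    (hc : cj g ((TEl.cen e i j).ev t u z a k) = (TEl.cen e' i' j').ev t u z a k) :
    (e, i, j) = (e', i', j') := by
  obtain ⟨l, hl, hle⟩ := h.adjust h.T_le_cent (mem_cent.2 hg) hc (h.cen_le_cent e i j) (h.cen_le_cent e' i' j')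
    (fun P hP hle => Nat.le_of_dvd (by norm_num) (h.card_dvd_32 hP (le_trans hle inf_le_left)))
  rw [h.cent_inf_nrm] at hl
  rw [cj_eq_self.2 (h.cen_comm e i j hl)] at hle
  have := h.ev_inj.1 hle
  simpa [TEl.cen] using this

theorem exists_nrm_cj {g : G} {e i j : Bool} (hg : cj g t = (TEl.cen e i j).ev t u z a k) :
    ∃ l ∈ nrm (tG t u z a k), cj l t = (TEl.cen e i j).ev t u z a k := by
  obtain ⟨l, hl, hle⟩ := h.adjust (le_top) (mem_top g) hg h.T_le_cent (h.cen_le_cent e i j)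
    (fun P hP hle => h.card_le_32 (isConj_iff_cj.2 ⟨g, hg⟩) hP (le_trans hle inf_le_right))
  exact ⟨l, (mem_inf.1 hl).2, hle⟩

theorem cj_z {l : G} (hl : l ∈ nrm (tG t u z a k)) : cj l z = z := by
  rw [nrm_iff] at hl
  have e0 := congrArg (cj l) h.ka
  rw [cj_mul, cj_mul, cj_mul] at e0
  rcases h.comm_mem (hl k h.k_mem) (hl a h.a_mem) with e | e
  · rw [e] at e0
    exact absurd (cj_injective l ((mul_eq_left.1 e0.symm).trans (cj_one l).symm)) h.z_ne_one
  · rw [e] at e0
    exact (mul_left_cancel e0).symm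

theorem cj_cen {l : G} (hl : l ∈ nrm (tG t u z a k)) (e i j : Bool) :
    ∃ e' i' j', (TEl.cen e' i' j').ev t u z a k = cj l ((TEl.cen e i j).ev t u z a k) := by
  have hli : l⁻¹ ∈ nrm (tG t u z a k) := inv_mem hl
  rw [nrm_iff] at hl hli
  have hgen : ∀ x ∈ tG t u z a k, cj l ((TEl.cen e i j).ev t u z a k) * x =
      x * cj l ((TEl.cen e i j).ev t u z a k) := by
    intro x hx
    have : x = cj l (cj l⁻¹ x) := by rw [cj_cj, inv_mul_cancel, cj_by_one]
    rw [this, ← cj_mul, ← cj_mul, h.cen_comm e i j (hli x hx)]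
  exact h.center_T (hl _ (h.ev_mem _)) (hgen a h.a_mem) (hgen k h.k_mem)

end Hyp

end Cfsg.Agent.TwoTimesSym
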