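import Mathlib

/-!
A model for finite `2`-groups generated by five elements whose squares and commutators lie in a
central four group `⟨u, z⟩`, and its evaluation in a group.
-/

set_option autoImplicit false

namespace Cfsg.Agent.TwoTimesSym

/-- Coordinates in the four group `⟨u, z⟩`. -/
abbrev Z2 := Bool × Bool

/-- Addition in `Z2`. -/
def zadd (a b : Z2) : Z2 := (xor a.1 b.1, xor a.2 b.2)

/-- Scalar multiplication in `Z2`. -/
def zsc (c : Bool) (a : Z2) : Z2 := (c && a.1, c && a.2)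

theorem zadd_comm (a b : Z2) : zadd a b = zadd b a := by revert a b; decide
theorem zadd_assoc (a b c : Z2) : zadd (zadd a b) c = zadd a (zadd b c) := by revert a b c; decide

/-- Elements in normal form. -/
@[ext]
structure El where
  b1 : Bool
  b2 : Bool
  b3 : Bool
  b4 : Bool
  b5 : Bool
  c : Z2
deriving DecidableEq

/-- A normal form as a tuple. -/
def El.equiv : El ≃ Bool × Bool × Bool × Bool × Bool × Z2 where
  toFun e := (e.b1, e.b2, e.b3, e.b4, e.b5, e.c)
  invFun p := ⟨p.1, p.2.1, p.2.2.1, p.2.2.2.1, p.2.2.2.2.1, p.2.2.2.2.2⟩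
  left_inv _ := rfl
  right_inv _ := rfl

instance : Fintype El := Fintype.ofEquiv _ El.equiv.symm

/-- Squares of the five generators and their commutators (`k i j` is for `x_i x_j = x_j x_i k_ij`). -/
structure CData where
  q1 : Z2
  q2 : Z2
  q3 : Z2
  q4 : Z2
  q5 : Z2
  k21 : Z2
  k31 : Z2
  k41 : Z2
  k51 : Z2
  k32 : Z2
  k42 : Z2
  k52 : Z2
  k43 : Z2
  k53 : Z2
  k54 : Z2

/-- The central correction of a product of two normal forms. -/
def CData.cor (P : CData) (x y : El) : Z2 :=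
  zadd (zadd (zsc (x.b1 && y.b1) P.q1)
      (zadd (zsc (x.b2 && y.b1) P.k21) (zadd (zsc (x.b3 && y.b1) P.k31)
        (zadd (zsc (x.b4 && y.b1) P.k41) (zsc (x.b5 && y.b1) P.k51)))))
    (zadd (zadd (zsc (x.b2 && y.b2) P.q2)
        (zadd (zsc (x.b3 && y.b2) P.k32) (zadd (zsc (x.b4 && y.b2) P.k42) (zsc (x.b5 && y.b2) P.k52))))
      (zadd (zadd (zsc (x.b3 && y.b3) P.q3)
          (zadd (zsc (x.b4 && y.b3) P.k43) (zsc (x.b5 && y.b3) P.k53)))
        (zadd (zadd (zsc (x.b4 && y.b4) P.q4) (zsc (x.b5 && y.b4) P.k54))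
          (zsc (x.b5 && y.b5) P.q5))))

/-- Multiplication of normal forms. -/
def CData.mul (P : CData) (x y : El) : El where
  b1 := xor x.b1 y.b1
  b2 := xor x.b2 y.b2
  b3 := xor x.b3 y.b3
  b4 := xor x.b4 y.b4
  b5 := xor x.b5 y.b5
  c := zadd (zadd x.c y.c) (P.cor x y)

/-- The trivial normal form. -/
def El.one : El := ⟨false, false, false, false, false, (false, false)⟩

variable {G : Type*} [Group G]

/-- A power with exponent `0` or `1`. -/
def pw (x : G) (b : Bool) : G := if b then x else 1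

@[simp] theorem pw_true (x : G) : pw x true = x := rfl
@[simp] theorem pw_false (x : G) : pw x false = 1 := rfl

/-- The element of the four group with given coordinates. -/
def pz (u z : G) (a : Z2) : G := pw u a.1 * pw z a.2

/-- Data in a group realising the model. -/
structure CReal (P : CData) (x1 x2 x3 x4 x5 u z : G) : Prop where
  hu : u * u = 1
  hz : z * z = 1
  huz : z * u = u * z
  cu1 : u * x1 = x1 * u
  cu2 : u * x2 = x2 * u
  cu3 : u * x3 = x3 * u
  cu4 : u * x4 = x4 * u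
  cu5 : u * x5 = x5 * u
  cz1 : z * x1 = x1 * z
  cz2 : z * x2 = x2 * z
  cz3 : z * x3 = x3 * z
  cz4 : z * x4 = x4 * z
  cz5 : z * x5 = x5 * z
  s1 : x1 * x1 = pz u z P.q1
  s2 : x2 * x2 = pz u z P.q2
  s3 : x3 * x3 = pz u z P.q3
  s4 : x4 * x4 = pz u z P.q4
  s5 : x5 * x5 = pz u z P.q5
  w21 : x2 * x1 = x1 * x2 * pz u z P.k21
  w31 : x3 * x1 = x1 * x3 * pz u z P.k31
  w41 : x4 * x1 = x1 * x4 * pz u z P.k41
  w51 : x5 * x1 = x1 * x5 * pz u z P.k51
  w32 : x3 * x2 = x2 * x3 * pz u z P.k32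
  w42 : x4 * x2 = x2 * x4 * pz u z P.k42
  w52 : x5 * x2 = x2 * x5 * pz u z P.k52
  w43 : x4 * x3 = x3 * x4 * pz u z P.k43
  w53 : x5 * x3 = x3 * x5 * pz u z P.k53
  w54 : x5 * x4 = x4 * x5 * pz u z P.k54

/-- Evaluation of a normal form. -/
def El.ev (e : El) (x1 x2 x3 x4 x5 u z : G) : G :=
  pw x1 e.b1 * (pw x2 e.b2 * (pw x3 e.b3 * (pw x4 e.b4 * pw x5 e.b5))) * pz u z e.c

theorem pw_comm {c x : G} (h : c * x = x * c) (a b : Bool) : pw c a * pw x b = pw x b * pw c a := by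
  cases a <;> cases b <;> simp [h]

theorem pz_one (u z : G) : pz u z (false, false) = 1 := by simp [pz]

theorem pz_comm {u z x : G} (hu : u * x = x * u) (hz : z * x = x * z) (a : Z2) :
    pz u z a * x = x * pz u z a := by
  obtain ⟨i, j⟩ := a
  cases i <;> cases j <;> simp [pz, hu, hz, mul_assoc]
  rw [← mul_assoc, hu, mul_assoc]

theorem pz_add {u z : G} (hu : u * u = 1) (hz : z * z = 1) (huz : z * u = u * z) (a b : Z2) :
    pz u z a * pz u z b = pz u z (zadd a b) := by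
  obtain ⟨i, j⟩ := a
  obtain ⟨k, l⟩ := b
  have hu' : ∀ g : G, u * (u * g) = g := fun g => by rw [← mul_assoc, hu, one_mul]
  have hzu' : ∀ g : G, z * (u * g) = u * (z * g) := fun g => by rw [← mul_assoc, huz, mul_assoc]
  cases i <;> cases j <;> cases k <;> cases l <;>
    simp [pz, zadd, mul_assoc, hu, hz, huz, hu', hzu']

theorem pw_mul {u z x : G} {q : Z2} (hx : x * x = pz u z q) (a b : Bool) :
    pw x a * pw x b = pw x (xor a b) * pz u z (zsc (a && b) q) := by
  cases a <;> cases b <;> simp [zsc, pz_one, hx]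

theorem pw_swap {u z x y : G} {k : Z2} (h : y * x = x * y * pz u z k) (a b : Bool) :
    pw y a * pw x b = pw x b * pw y a * pz u z (zsc (a && b) k) := by
  cases a <;> cases b <;> simp [zsc, pz_one, h]

theorem move_cons {u z p P x : G} {a b : Z2} (hu : u * u = 1) (hz : z * z = 1)
    (huz : z * u = u * z) (hc : ∀ w : Z2, pz u z w * P = P * pz u z w)
    (hp : p * x = x * p * pz u z a) (hP : P * x = x * P * pz u z b) :
    p * P * x = x * (p * P) * pz u z (zadd a b) := by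
  calc p * P * x = p * (P * x) := mul_assoc _ _ _
    _ = p * (x * P * pz u z b) := by rw [hP]
    _ = (p * x) * P * pz u z b := by group
    _ = x * p * (pz u z a * P) * pz u z b := by rw [hp]; group
    _ = x * (p * P) * (pz u z a * pz u z b) := by rw [hc]; group
    _ = x * (p * P) * pz u z (zadd a b) := by rw [pz_add hu hz huz]

theorem merge_step {u z x P P' R : G} {q m r : Z2} {i j : Bool} (hu : u * u = 1) (hz : z * z = 1)
    (huz : z * u = u * z) (hcP' : ∀ w : Z2, pz u z w * P' = P' * pz u z w)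
    (hcR : ∀ w : Z2, pz u z w * R = R * pz u z w)
    (hx : x * x = pz u z q) (hm : P * pw x j = pw x j * P * pz u z m) (hr : P * P' = R * pz u z r) :
    pw x i * P * (pw x j * P') = pw x (xor i j) * R * pz u z (zadd (zsc (i && j) q) (zadd m r)) := by
  calc pw x i * P * (pw x j * P')
      = pw x i * (P * pw x j) * P' := by group
    _ = (pw x i * pw x j) * P * (pz u z m * P') := by rw [hm]; group
    _ = (pw x i * pw x j) * (P * P') * pz u z m := by rw [hcP']; group
    _ = pw x (xor i j) * (pz u z (zsc (i && j) q) * R) * (pz u z r * pz u z m) := by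
        rw [pw_mul hx, hr]; group
    _ = pw x (xor i j) * R * (pz u z (zsc (i && j) q) * (pz u z r * pz u z m)) := by
        rw [hcR]; group
    _ = _ := by rw [pz_add hu hz huz, pz_add hu hz huz, zadd_comm r m]

namespace CReal

variable {P : CData} {x1 x2 x3 x4 x5 u z : G} (h : CReal P x1 x2 x3 x4 x5 u z)
include h

theorem cz_pw1 (b : Bool) (w : Z2) : pz u z w * pw x1 b = pw x1 b * pz u z w := by
  cases b <;> simp [pz_comm h.cu1 h.cz1]
theorem cz_pw2 (b : Bool) (w : Z2) : pz u z w * pw x2 b = pw x2 b * pz u z w := by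
  cases b <;> simp [pz_comm h.cu2 h.cz2]
theorem cz_pw3 (b : Bool) (w : Z2) : pz u z w * pw x3 b = pw x3 b * pz u z w := by
  cases b <;> simp [pz_comm h.cu3 h.cz3]
theorem cz_pw4 (b : Bool) (w : Z2) : pz u z w * pw x4 b = pw x4 b * pz u z w := by
  cases b <;> simp [pz_comm h.cu4 h.cz4]
theorem cz_pw5 (b : Bool) (w : Z2) : pz u z w * pw x5 b = pw x5 b * pz u z w := by
  cases b <;> simp [pz_comm h.cu5 h.cz5]

theorem cz_45 (a b : Bool) (w : Z2) :
    pz u z w * (pw x4 a * pw x5 b) = pw x4 a * pw x5 b * pz u z w := by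
  rw [← mul_assoc, h.cz_pw4, mul_assoc, h.cz_pw5, ← mul_assoc]

theorem cz_345 (a b c : Bool) (w : Z2) :
    pz u z w * (pw x3 a * (pw x4 b * pw x5 c)) = pw x3 a * (pw x4 b * pw x5 c) * pz u z w := by
  rw [← mul_assoc, h.cz_pw3, mul_assoc, h.cz_45, ← mul_assoc]

theorem cz_2345 (a b c d : Bool) (w : Z2) :
    pz u z w * (pw x2 a * (pw x3 b * (pw x4 c * pw x5 d))) =
      pw x2 a * (pw x3 b * (pw x4 c * pw x5 d)) * pz u z w := by
  rw [← mul_assoc, h.cz_pw2, mul_assoc, h.cz_345, ← mul_assoc]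

/-- Evaluation is multiplicative. -/
theorem ev_mul (e f : El) :
    (P.mul e f).ev x1 x2 x3 x4 x5 u z = e.ev x1 x2 x3 x4 x5 u z * f.ev x1 x2 x3 x4 x5 u z := by
  have hu := h.hu
  have hz := h.hz
  have huz := h.huz
  obtain ⟨a1, a2, a3, a4, a5, a⟩ := e
  obtain ⟨b1, b2, b3, b4, b5, b⟩ := f
  have m54 : pw x5 a5 * pw x4 b4 = pw x4 b4 * pw x5 a5 * pz u z (zsc (a5 && b4) P.k54) :=
    pw_swap h.w54 _ _
  have l5 : pw x5 a5 * pw x5 b5 = pw x5 (xor a5 b5) * pz u z (zsc (a5 && b5) P.q5) := pw_mul h.s5 _ _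
  have l45 := merge_step (i := a4) hu hz huz (h.cz_pw5 b5) (h.cz_pw5 _) h.s4 m54 l5
  have m43 := move_cons hu hz huz (h.cz_pw5 a5) (pw_swap h.w43 a4 b3) (pw_swap h.w53 a5 b3)
  have l345 := merge_step (i := a3) hu hz huz (h.cz_45 b4 b5) (h.cz_45 _ _) h.s3 m43 l45
  have m432 := move_cons hu hz huz (h.cz_45 a4 a5) (pw_swap h.w32 a3 b2)
    (move_cons hu hz huz (h.cz_pw5 a5) (pw_swap h.w42 a4 b2) (pw_swap h.w52 a5 b2))
  have l2345 := merge_step (i := a2) hu hz huz (h.cz_345 b3 b4 b5) (h.cz_345 _ _ _) h.s2 m432 l345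
  have m4321 := move_cons hu hz huz (h.cz_345 a3 a4 a5) (pw_swap h.w21 a2 b1)
    (move_cons hu hz huz (h.cz_45 a4 a5) (pw_swap h.w31 a3 b1)
      (move_cons hu hz huz (h.cz_pw5 a5) (pw_swap h.w41 a4 b1) (pw_swap h.w51 a5 b1)))
  have key := merge_step (i := a1) hu hz huz (h.cz_2345 b2 b3 b4 b5) (h.cz_2345 _ _ _ _) h.s1 m4321 l2345
  have hc : pz u z a * (pw x1 b1 * (pw x2 b2 * (pw x3 b3 * (pw x4 b4 * pw x5 b5)))) =
      pw x1 b1 * (pw x2 b2 * (pw x3 b3 * (pw x4 b4 * pw x5 b5))) * pz u z a := by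
    rw [← mul_assoc, h.cz_pw1, mul_assoc, h.cz_2345, ← mul_assoc]
  simp only [El.ev]
  calc _ = pw x1 (xor a1 b1) * (pw x2 (xor a2 b2) * (pw x3 (xor a3 b3) *
          (pw x4 (xor a4 b4) * pw x5 (xor a5 b5)))) * pz u z (P.mul ⟨a1, a2, a3, a4, a5, a⟩
            ⟨b1, b2, b3, b4, b5, b⟩).c := rfl
    _ = pw x1 a1 * (pw x2 a2 * (pw x3 a3 * (pw x4 a4 * pw x5 a5))) *
          (pw x1 b1 * (pw x2 b2 * (pw x3 b3 * (pw x4 b4 * pw x5 b5)))) * (pz u z a * pz u z b) := by
        rw [key, mul_assoc _ (pz u z _) (pz u z a * pz u z b), pz_add hu hz huz, pz_add hu hz huz]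
        congr 2
        simp only [CData.mul, CData.cor]
        have : Std.Associative zadd := ⟨zadd_assoc⟩
        have : Std.Commutative zadd := ⟨zadd_comm⟩
        ac_rfl
    _ = _ := by
        conv_rhs => rw [← mul_assoc, mul_assoc _ (pz u z a), hc]
        group

/-- The trivial normal form evaluates to one. -/
theorem ev_one : El.one.ev x1 x2 x3 x4 x5 u z = 1 := by simp [El.ev, El.one, pz_one]

/-- The inverse normal form. -/
theorem ev_inv (e : El) :
    (e.ev x1 x2 x3 x4 x5 u z)⁻¹ = ({ e with c := zadd e.c (P.cor e e) } : El).ev x1 x2 x3 x4 x5 u z := by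
  refine inv_eq_of_mul_eq_one_right ?_
  rw [← h.ev_mul]
  convert h.ev_one using 2
  obtain ⟨a1, a2, a3, a4, a5, a⟩ := e
  simp only [CData.mul, El.one, Bool.xor_self, El.mk.injEq, true_and]
  show zadd (zadd a (zadd a (P.cor ⟨a1, a2, a3, a4, a5, a⟩ ⟨a1, a2, a3, a4, a5, a⟩)))
    (P.cor ⟨a1, a2, a3, a4, a5, a⟩ ⟨a1, a2, a3, a4, a5, a⟩) = _
  generalize P.cor ⟨a1, a2, a3, a4, a5, a⟩ ⟨a1, a2, a3, a4, a5, a⟩ = w
  revert a w
  decide

/-- The subgroup of all evaluations. -/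
def range : Subgroup G where
  carrier := {g | ∃ e : El, e.ev x1 x2 x3 x4 x5 u z = g}
  one_mem' := ⟨El.one, h.ev_one⟩
  mul_mem' := by
    rintro _ _ ⟨e, rfl⟩ ⟨f, rfl⟩
    exact ⟨P.mul e f, h.ev_mul e f⟩
  inv_mem' := by
    rintro _ ⟨e, rfl⟩
    exact ⟨_, (h.ev_inv e).symm⟩

theorem mem_range {g : G} : g ∈ h.range ↔ ∃ e : El, e.ev x1 x2 x3 x4 x5 u z = g := Iff.rfl

end CReal

end Cfsg.Agent.TwoTimesSym
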