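import Cfsg.Agent.TwoTimesSym.EOrbit

/-!
The group `L = N(T)` permutes the two elementary abelian subgroups of order `16` of `T`.
-/

set_option autoImplicit false

namespace Cfsg.Agent.TwoTimesSym

open Subgroup

variable {G : Type*} [Group G] {t u z a k : G}

namespace Hyp

variable [Finite G] (h : Hyp t u z a k)
include h

theorem E_perm {l : G} (hl : l ∈ nrm (tG t u z a k)) :
    (cjS l (eG t u z a) = eG t u z a ∧ cjS l (eG t u z k) = eG t u z k) ∨
      (cjS l (eG t u z a) = eG t u z k ∧ cjS l (eG t u z k) = eG t u z a) := by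
  have himg : ∀ E : Subgroup G, E ≤ tG t u z a k → Nat.card E = 16 → (∀ x ∈ E, x * x = 1) →
      cjS l E = eG t u z a ∨ cjS l E = eG t u z k := by
    intro E hE hc hs
    refine h.elem_sixteen ?_ (by rw [card_cjS, hc]) ?_
    · intro x hx
      obtain ⟨y, hy, rfl⟩ := mem_cjS.1 hx
      exact nrm_iff.1 hl y (hE hy)
    · intro x hx
      obtain ⟨y, hy, rfl⟩ := mem_cjS.1 hx
      rw [← cj_mul, hs y hy, cj_one]
  have hinj : Function.Injective (cjS l) := Subgroup.map_injective (MulAut.conj l⁻¹).injective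
  rcases himg _ h.E1_le h.card_E1 (fun _ hx => h.E1_sq hx) with e1 | e1 <;>
    rcases himg _ h.E2_le h.card_E2 (fun _ hx => h.E2_sq hx) with e2 | e2
  · exact absurd (hinj (e1.trans e2.symm)) h.E1_ne_E2
  · exact Or.inl ⟨e1, e2⟩
  · exact Or.inr ⟨e1, e2⟩
  · exact absurd (hinj (e1.trans e2.symm)) h.E1_ne_E2

omit h [Finite G] in
theorem mem_nrm_of_cjS [Finite G] {l : G} {E : Subgroup G} (e : cjS l E = E) : l ∈ nrm E :=
  nrm_iff.2 fun x hx => by
    have h' : cj l x ∈ cjS l E := mem_cjS.2 ⟨x, hx, rfl⟩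
    rwa [e] at h'

omit h in
theorem cjS_eq_of_mem_nrm {l : G} {E : Subgroup G} (hl : l ∈ nrm E) : cjS l E = E :=
  Subgroup.eq_of_le_of_card_ge (fun x hx => by
    obtain ⟨y, hy, rfl⟩ := mem_cjS.1 hx
    exact nrm_iff.1 hl y hy) (by rw [card_cjS])

theorem mem_N2_iff {l : G} (hl : l ∈ nrm (tG t u z a k)) :
    l ∈ nrm (eG t u z k) ↔ l ∈ nrm (eG t u z a) := by
  rcases h.E_perm hl with ⟨e1, e2⟩ | ⟨e1, e2⟩
  · exact ⟨fun _ => mem_nrm_of_cjS e1, fun _ => mem_nrm_of_cjS e2⟩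
  · constructor <;> intro hm <;> exfalso <;> have := cjS_eq_of_mem_nrm hm
    · exact h.E1_ne_E2 (e2.symm.trans this)
    · exact h.E1_ne_E2 (this.symm.trans e1)

theorem swap_of_notMem {l : G} (hl : l ∈ nrm (tG t u z a k)) (hn : l ∉ nrm (eG t u z a)) :
    (∀ x ∈ eG t u z a, cj l x ∈ eG t u z k) ∧ (∀ x ∈ eG t u z k, cj l x ∈ eG t u z a) := by
  rcases h.E_perm hl with ⟨e1, -⟩ | ⟨e1, e2⟩
  · exact absurd (mem_nrm_of_cjS e1) hn
  · refine ⟨fun x hx => ?_, fun x hx => ?_⟩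
    · rw [← e1]; exact mem_cjS.2 ⟨x, hx, rfl⟩
    · rw [← e2]; exact mem_cjS.2 ⟨x, hx, rfl⟩

theorem mul_mem_N1 {l l' : G} (hl : l ∈ nrm (tG t u z a k)) (hl' : l' ∈ nrm (tG t u z a k))
    (hn : l ∉ nrm (eG t u z a)) (hn' : l' ∉ nrm (eG t u z a)) : l * l' ∈ nrm (eG t u z a) :=
  nrm_iff.2 fun x hx => by
    rw [← cj_cj]
    exact (h.swap_of_notMem hl' hn').2 _ ((h.swap_of_notMem hl hn).1 x hx)

theorem card_L_split :
    (nrm (tG t u z a k) ≤ nrm (eG t u z a)) ∨ Nat.card (nrm (tG t u z a k)) =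
      2 * Nat.card (nrm (tG t u z a k) ⊓ nrm (eG t u z a) : Subgroup G) := by
  classical
  set L := nrm (tG t u z a k)
  set N := nrm (eG t u z a)
  refine or_iff_not_imp_left.2 fun hn => ?_
  obtain ⟨l, hl, hln⟩ := SetLike.not_le_iff_exists.1 hn
  have hidx : ((L ⊓ N).subgroupOf L).index = 2 := by
    rw [Subgroup.index_eq_two_iff]
    refine ⟨⟨l, hl⟩, fun b => ?_⟩
    simp only [mem_subgroupOf, Subgroup.coe_mul, mem_inf, b.2, mul_mem b.2 hl, true_and]
    by_cases hb : (b : G) ∈ N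
    · exact Or.inr ⟨hb, fun hm => hln ((mul_mem_cancel_left hb).1 hm)⟩
    · exact Or.inl ⟨h.mul_mem_N1 b.2 hl hb hln, hb⟩
  have := ((L ⊓ N).subgroupOf L).card_mul_index
  rw [hidx, Nat.card_congr (subgroupOfEquivOfLe inf_le_left).toEquiv] at this
  omega

theorem T_normal : ((tG t u z a k).subgroupOf (nrm (tG t u z a k))).Normal :=
  Subgroup.normal_in_normalizer

theorem index_T : ((tG t u z a k).subgroupOf (nrm (tG t u z a k))).index =
    Nat.card (orb (nrm (tG t u z a k)) t) := by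
  have := ((tG t u z a k).subgroupOf (nrm (tG t u z a k))).card_mul_index
  rw [Nat.card_congr (subgroupOfEquivOfLe Subgroup.le_normalizer).toEquiv, h.card_T, h.card_L] at this
  omega

theorem pow_orb_mem {l : G} (hl : l ∈ nrm (tG t u z a k)) :
    l ^ Nat.card (orb (nrm (tG t u z a k)) t) ∈ tG t u z a k := by
  have := h.T_normal
  have hm := ((tG t u z a k).subgroupOf (nrm (tG t u z a k))).pow_index_mem (⟨l, hl⟩ : nrm (tG t u z a k))
  rw [h.index_T, mem_subgroupOf] at hm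
  exact hm

theorem card_orbL [DecidablePred fun p : Bool × Bool × Bool => IsConj t ((TEl.cen p.1 p.2.1 p.2.2).ev t u z a k)] :
    Nat.card (orb (nrm (tG t u z a k)) t) =
      Nat.card {p : Bool × Bool × Bool // IsConj t ((TEl.cen p.1 p.2.1 p.2.2).ev t u z a k)} := by
  refine (Nat.card_congr (Equiv.ofBijective (fun p => ⟨(TEl.cen p.1.1 p.1.2.1 p.1.2.2).ev t u z a k,
    h.mem_orb_L p.2⟩) ⟨?_, ?_⟩)).symm
  · intro p q e
    have := h.ev_inj.1 (congrArg Subtype.val e)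
    simp only [TEl.cen, TEl.mk.injEq, Prod.mk.injEq, true_and] at this
    exact Subtype.ext (Prod.ext this.1 (Prod.ext this.2.1 this.2.2))
  · rintro ⟨y, hy⟩
    obtain ⟨e, i, j, he, hc⟩ := h.orb_L_subset hy
    exact ⟨⟨(e, i, j), by rw [he]; exact hc⟩, Subtype.ext he⟩

end Hyp

end Cfsg.Agent.TwoTimesSym
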