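import Cfsg.Agent.TwoTimesSym.CaseThree
import Cfsg.Agent.TwoTimesSym.NormT

/-!
The cases where the orbit of `t` under `N(T)` has length three or six.
-/

set_option autoImplicit false

namespace Cfsg.Agent.TwoTimesSym

open Subgroup

variable {G : Type*} [Group G] {t u z a k : G}

namespace Hyp

variable [Finite G] (h : Hyp t u z a k)
include h

theorem pow_three_fixes {H : Subgroup G} (hH : H ≤ nrm (tG t u z a k)) (hT : tG t u z a k ≤ H)
    (h3 : Nat.card (orb H t) = 3) {l : G} (hl : l ∈ H) : cj (l ^ 3) t = t := by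
  have hc : H ⊓ centralizer ({t} : Set G) = tG t u z a k := by
    refine le_antisymm (fun g hg => ?_) (le_inf hT h.T_le_cent)
    rw [← h.cent_inf_nrm]
    exact mem_inf.2 ⟨(mem_inf.1 hg).2, hH (mem_inf.1 hg).1⟩
  have hidx : ((tG t u z a k).subgroupOf H).index = 3 := by
    have := ((tG t u z a k).subgroupOf H).card_mul_index
    rw [Nat.card_congr (subgroupOfEquivOfLe hT).toEquiv, h.card_T, card_eq_orb_mul H t, hc, h3, h.card_T] at this
    omega
  have hn : ((tG t u z a k).subgroupOf H).Normal := (Subgroup.normal_subgroupOf_iff_le_normalizer hT).2 hH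
  have hm := ((tG t u z a k).subgroupOf H).pow_index_mem (⟨l, hl⟩ : H)
  rw [hidx, mem_subgroupOf] at hm
  exact cj_eq_self.2 (mem_cent.1 (h.T_le_cent hm))

theorem next_point {H : Subgroup G} (hH : H ≤ nrm (tG t u z a k)) (hT : tG t u z a k ≤ H)
    (h3 : Nat.card (orb H t) = 3) {l v : G} (hl : l ∈ H) (hv : cj l t = v) (hne : v ≠ t) :
    cj l v ≠ t ∧ cj l v ≠ v ∧ cj l (cj l v) = t := by
  have h3f : cj l (cj l v) = t := by
    rw [← hv, cj_cj, cj_cj]
    have := h.pow_three_fixes hH hT h3 hl
    rwa [pow_succ, pow_two, mul_assoc] at this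
  refine ⟨fun e => hne ?_, fun e => hne ?_, h3f⟩
  · rw [e] at h3f; rw [← hv]; exact h3f
  · rw [e, e] at h3f; exact h3f

theorem orb_three {H : Subgroup G} (h3 : Nat.card (orb H t) = 3) {l v : G} (hl : l ∈ H)
    (hv : cj l t = v) (hne : v ≠ t) (h1 : cj l v ≠ t) (h2 : cj l v ≠ v) {y : G} (hy : y ∈ orb H t) :
    y = t ∨ y = v ∨ y = cj l v := by
  have hsub : ({t, v, cj l v} : Set G) ⊆ orb H t := by
    rintro x (rfl | rfl | rfl)
    · exact self_mem_orb H x
    · exact ⟨l, hl, hv⟩
    · exact ⟨l * l, mul_mem hl hl, by rw [← cj_cj, hv]⟩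
  have heq := Set.eq_of_subset_of_ncard_le hsub (by
    rw [← Nat.card_coe_set_eq, h3, Set.ncard_insert_of_notMem (by simp [hne.symm, h1.symm]),
      Set.ncard_pair h2.symm]) (Set.toFinite _)
  rw [← heq] at hy
  simpa using hy

/-- The final step for an orbit of length three through `u`. -/
theorem three_finish {H : Subgroup G} (hH : H ≤ nrm (tG t u z a k) ⊓ nrm (eG t u z a))
    (hT : tG t u z a k ≤ H) (h3 : Nat.card (orb H t) = 3)
    (hmax : ∀ l ∈ nrm (eG t u z a) ⊓ nrm (tG t u z a k), l ∈ H) {l : G} (hl : l ∈ H)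
    (hlu : cj l t = u) : False := by
  have hHL : H ≤ nrm (tG t u z a k) := le_trans hH inf_le_left
  have hne : u ≠ t := fun e => h.not_t_eq false true false (by decide) (by rw [Frame.ev_u, e])
  obtain ⟨p1, p2, p3⟩ := h.next_point hHL hT h3 hl hlu hne
  obtain ⟨e, i, j, he⟩ := h.cj_cen (hHL hl) false true false
  rw [Frame.ev_u] at he
  have hlz := h.cj_z (hHL hl)
  have hlt : l ∈ nrm (eG t u z a) ⊓ nrm (tG t u z a k) :=
    mem_inf.2 ⟨(mem_inf.1 (hH hl)).2, hHL hl⟩
  have horb : ∀ e i j, (TEl.cen e i j).ev t u z a k ∈ orb (nrm (eG t u z a)) t →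
      (TEl.cen e i j).ev t u z a k = t ∨ (TEl.cen e i j).ev t u z a k = u ∨
        (TEl.cen e i j).ev t u z a k = cj l u := by
    intro e i j hm
    obtain ⟨m, hm, hme⟩ := h.orb1_adjust hm
    exact h.orb_three h3 hl hlu hne p1 p2 ⟨m, hmax m hm, hme⟩
  have hcases : (e, i, j) = (true, true, false) ∨ (e, i, j) = (true, true, true) := by
    have hconj : IsConj t (cj l u) := by rw [← hlu, cj_cj]; exact isConj_cj _ _
    cases e <;> cases i <;> cases j <;> simp only [Frame.ev_cen, pz, pw_true, pw_false, one_mul, mul_one] at he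
    · exact absurd (he ▸ hconj) h.not_conj_one
    · exact absurd (he ▸ hconj) h.not_conj_z
    · exact absurd he.symm p2
    · rw [← he, cj_mul, hlz, ← he] at p3
      exact absurd (by rw [mul_assoc, h.z2, mul_one] at p3; exact p3) hne
    · exact absurd he.symm p1
    · rw [← he, cj_mul, hlu, hlz] at p3
      exfalso
      exact h.not_t_eq false true true (by decide) (by simp [Frame.ev_cen, pz, p3])
    · exact Or.inl rfl
    · exact Or.inr rfl
  rcases hcases with hc | hc <;> simp only [Prod.mk.injEq] at hc <;> obtain ⟨rfl, rfl, rfl⟩ := hc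
  · refine h.no_three_a hlt hlu (by rw [← he]; simp [Frame.ev_cen, pz]) fun hm => ?_
    rw [show t * z = (TEl.cen true false true).ev t u z a k by simp [Frame.ev_cen, pz]] at hm
    have e1 := Frame.ev_t (t := t) (u := u) (z := z) (a := a) (k := k)
    have e2 := Frame.ev_u (t := t) (u := u) (z := z) (a := a) (k := k)
    rcases horb _ _ _ hm with e | e | e
    · exact absurd (h.ev_inj.1 (e.trans e1.symm)) (by decide)
    · exact absurd (h.ev_inj.1 (e.trans e2.symm)) (by decide)
    · exact absurd (h.ev_inj.1 (e.trans he.symm)) (by decide)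
  · have key : ∀ e i j, (TEl.cen e i j).ev t u z a k ∈ orb (nrm (eG t u z a)) t →
        (e, i, j) = (true, false, false) ∨ (e, i, j) = (false, true, false) ∨
          (e, i, j) = (true, true, true) := by
      intro e' i' j' hm
      have e1 := Frame.ev_t (t := t) (u := u) (z := z) (a := a) (k := k)
      have e2 := Frame.ev_u (t := t) (u := u) (z := z) (a := a) (k := k)
      rcases horb _ _ _ hm with e | e | e
      · have := h.ev_inj.1 (e.trans e1.symm); simp [TEl.cen] at this ⊢; tauto
      · have := h.ev_inj.1 (e.trans e2.symm); simp [TEl.cen] at this ⊢; tauto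
      · have := h.ev_inj.1 (e.trans he.symm); simp [TEl.cen] at this ⊢; tauto
    refine h.no_three_b hlt hlu (by rw [← he]; simp [Frame.ev_cen, pz]) ?_ ?_ ?_
    · intro hm
      rw [show t * z = (TEl.cen true false true).ev t u z a k by simp [Frame.ev_cen, pz]] at hm
      exact absurd (key _ _ _ hm) (by decide)
    · intro hm
      rw [show t * u = (TEl.cen true true false).ev t u z a k by simp [Frame.ev_cen, pz]] at hm
      exact absurd (key _ _ _ hm) (by decide)
    · intro hm
      rw [show u * z = (TEl.cen false true true).ev t u z a k by simp [Frame.ev_cen, pz]] at hm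
      exact absurd (key _ _ _ hm) (by decide)

/-- `tz` is not conjugate to `t`, and `u` is. -/
theorem case_three_u (hz : ¬ IsConj t (t * z)) (hu : IsConj t u) (hb : ¬ IsConj t (u * z))
    (ht : (IsConj t (t * u)) ↔ ¬ IsConj t (t * (u * z))) : False := by
  classical
  have h3 : Nat.card (orb (nrm (tG t u z a k)) t) = 3 := by
    rw [h.card_orbL, card_triples]
    have n1 := h.not_conj_one
    have n2 := h.not_conj_z
    by_cases p : IsConj t (t * u)
    · have q := ht.1 p
      simp only [Frame.ev_cen, pz, pw_true, pw_false, one_mul, mul_one, hz, hu, hb, p, q, n1, n2,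
        IsConj.refl, if_true, if_false]
    · have q : IsConj t (t * (u * z)) := by by_contra q; exact p (ht.2 q)
      simp only [Frame.ev_cen, pz, pw_true, pw_false, one_mul, mul_one, hz, hu, hb, p, q, n1, n2,
        IsConj.refl, if_true, if_false]
  have hLN : nrm (tG t u z a k) ≤ nrm (eG t u z a) := by
    refine h.card_L_split.resolve_right fun e => ?_
    rw [h.card_L, h3] at e
    have hd : Nat.card (tG t u z a k) ∣ Nat.card (nrm (tG t u z a k) ⊓ nrm (eG t u z a) : Subgroup G) :=
      Subgroup.card_dvd_of_le (le_inf Subgroup.le_normalizer h.T_le_N1)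
    rw [h.card_T] at hd
    omega
  obtain ⟨l, hl, hle⟩ : ∃ l ∈ nrm (tG t u z a k), cj l t = u := by
    obtain ⟨g, hg⟩ := isConj_iff_cj.1 hu
    rw [← Frame.ev_u (t := t) (u := u) (z := z) (a := a) (k := k)] at hg
    obtain ⟨l, hl, he⟩ := h.exists_nrm_cj hg
    exact ⟨l, hl, by rwa [Frame.ev_u] at he⟩
  exact h.three_finish (le_inf le_rfl hLN) Subgroup.le_normalizer h3 (fun m hm => (mem_inf.1 hm).2) hl hle

theorem case_six (hno : ∀ K : Subgroup G, K.index ≠ 2) (hz : IsConj t (t * z)) (hu : IsConj t u)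
    (hb : IsConj t (u * z)) (htu : IsConj t (t * u)) (htb : IsConj t (t * (u * z))) : False := by
  classical
  by_cases h128 : 128 ∣ Nat.card G
  · exact h.false_of_six_classes hno h128 hz hu hb htu htb
  have n1 := h.not_conj_one
  have n2 := h.not_conj_z
  have h6 : Nat.card (orb (nrm (tG t u z a k)) t) = 6 := by
    rw [h.card_orbL, card_triples]
    simp only [Frame.ev_cen, pz, pw_true, pw_false, one_mul, mul_one, hz, hu, hb, htu, htb, n1, n2,
      IsConj.refl, if_true, if_false]
  set L := nrm (tG t u z a k)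
  have hsplit : Nat.card L = 2 * Nat.card (L ⊓ nrm (eG t u z a) : Subgroup G) := by
    refine h.card_L_split.resolve_left fun hLN => h128 ?_
    have h12 : Nat.card (orb (nrm (eG t u z a)) t) = 12 := by
      rw [h.card_orb1 (fun e i _ => e || i) ?_]
      · rfl
      · intro e i j
        constructor
        · rintro ⟨g, hg, hge⟩
          have hc := isConj_iff_cj.2 ⟨g, hge⟩
          cases e <;> cases i <;> cases j <;> simp only [Frame.ev_cen, pz, pw_true, pw_false, one_mul,
            mul_one] at hc <;> first | rfl | exact absurd hc n1 | exact absurd hc n2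
        · intro hp
          have hc : IsConj t ((TEl.cen e i j).ev t u z a k) := by
            cases e <;> cases i <;> cases j <;> simp only [Frame.ev_cen, pz, pw_true, pw_false, one_mul,
              mul_one] <;> first | exact IsConj.refl t | assumption | exact absurd hp (by decide)
          obtain ⟨l, hl, he⟩ := h.mem_orb_L hc
          exact ⟨l, hLN hl, he⟩
    have hd := Subgroup.card_subgroup_dvd_card (nrm (eG t u z a))
    rw [h.card_N1, h12] at hd
    exact dvd_trans ⟨9, by norm_num⟩ hd
  set H := L ⊓ nrm (eG t u z a)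
  have hT : tG t u z a k ≤ H := le_inf Subgroup.le_normalizer h.T_le_N1
  have hHc : H ⊓ centralizer ({t} : Set G) = tG t u z a k := by
    refine le_antisymm (fun g hg => ?_) (le_inf hT h.T_le_cent)
    rw [← h.cent_inf_nrm]
    exact mem_inf.2 ⟨(mem_inf.1 hg).2, (mem_inf.1 (mem_inf.1 hg).1).1⟩
  have h3 : Nat.card (orb H t) = 3 := by
    have := card_eq_orb_mul H t
    rw [hHc, h.card_T] at this
    rw [h.card_L, h6, this] at hsplit
    omega
  obtain ⟨y, hy, hyne⟩ : ∃ y ∈ orb H t, y ≠ t := by
    by_contra hh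
    push Not at hh
    have : orb H t = {t} := Set.eq_singleton_iff_unique_mem.2 ⟨self_mem_orb H t, hh⟩
    rw [this, Nat.card_coe_set_eq, Set.ncard_singleton] at h3
    omega
  obtain ⟨l, hl, hly⟩ := hy
  have hHL : H ≤ L := inf_le_left
  obtain ⟨p1, p2, p3⟩ := h.next_point hHL hT h3 hl hly hyne
  obtain ⟨e, i, j, he⟩ := h.cj_cen (hHL hl) true false false
  rw [Frame.ev_t, hly] at he
  have hcj : IsConj t y := isConj_iff_cj.2 ⟨l, hly⟩
  cases e <;> cases i <;> cases j <;> simp only [Frame.ev_cen, pz, pw_true, pw_false, one_mul, mul_one] at he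
  · exact n1 (he ▸ hcj)
  · exact n2 (he ▸ hcj)
  · exact h.three_finish (H := H) le_rfl hT h3 (fun m hm => mem_inf.2 ⟨(mem_inf.1 hm).2, (mem_inf.1 hm).1⟩)
      hl (he ▸ hly)
  · -- `uz`: exchange the two elementary abelian groups
    have hm := h.mirror
    have eT : tG t (u * z) z (u * k) (u * a) = tG t u z a k := h.toFrame.closure_mirror
    have eE : eG t (u * z) z (u * k) = eG t u z k := h.toFrame.closure_mirror1
    refine hm.three_finish (H := H) (l := l) ?_ (by rw [eT]; exact hT) h3 ?_ hl (he ▸ hly)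
    · rw [eT, eE]
      exact fun g hg => mem_inf.2 ⟨hHL hg, (h.mem_N2_iff (hHL hg)).2 (mem_inf.1 hg).2⟩
    · rw [eT, eE]
      exact fun m hm => mem_inf.2 ⟨(mem_inf.1 hm).2, (h.mem_N2_iff (mem_inf.1 hm).2).1 (mem_inf.1 hm).1⟩
  · exact hyne he.symm
  · apply p1
    rw [← he, cj_mul, h.cj_z (hHL hl), hly, ← he, mul_assoc, h.z2, mul_one]
  · -- `tu`: change the complement
    have eT : tG t (t * u) z (t * a) k = tG t u z a k := Frame.closure_twist h.t2
    have eE : eG t (t * u) z (t * a) = eG t u z a := Frame.closure_twist1 h.t2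
    refine h.twist.three_finish (H := H) (l := l) ?_ (by rw [eT]; exact hT) h3 ?_ hl (he ▸ hly)
    · rw [eT, eE]
    · rw [eT, eE]
      exact fun m hm => mem_inf.2 ⟨(mem_inf.1 hm).2, (mem_inf.1 hm).1⟩
  · -- `tuz`: both changes
    have ht2 := h.t2
    have hm := h.mirror
    have eT : tG t (t * (u * z)) z (t * (u * k)) (u * a) = tG t u z a k :=
      (Frame.closure_twist ht2).trans h.toFrame.closure_mirror
    have eE : eG t (t * (u * z)) z (t * (u * k)) = eG t u z k :=
      (Frame.closure_twist1 ht2).trans h.toFrame.closure_mirror1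
    refine hm.twist.three_finish (H := H) (l := l) ?_ (by rw [eT]; exact hT) h3 ?_ hl (he ▸ hly)
    · rw [eT, eE]
      exact fun g hg => mem_inf.2 ⟨hHL hg, (h.mem_N2_iff (hHL hg)).2 (mem_inf.1 hg).2⟩
    · rw [eT, eE]
      exact fun m hm => mem_inf.2 ⟨(mem_inf.1 hm).2, (h.mem_N2_iff (mem_inf.1 hm).2).1 (mem_inf.1 hm).1⟩

end Hyp

end Cfsg.Agent.TwoTimesSym
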