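import Cfsg.Agent.TwoTimesSym.Orbit

/-!
The sign of `t` on the cosets of its centraliser.
-/

set_option autoImplicit false

namespace Cfsg.Agent.TwoTimesSym

open Subgroup

variable {G : Type*} [Group G] {t u z a k : G}

/-- The value of a coordinate triple. -/
def cval (t u z : G) (p : Bool × Bool × Bool) : G := pw t p.1 * pz u z (p.2.1, p.2.2)

namespace Hyp

variable [Finite G] (h : Hyp t u z a k)
include h

omit [Finite G] in
theorem cval_eq (p : Bool × Bool × Bool) : cval t u z p = (TEl.cen p.1 p.2.1 p.2.2).ev t u z a k := by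
  obtain ⟨e, i, j⟩ := p
  exact (Frame.ev_cen e i j).symm

theorem cls_disjoint {p q : Bool × Bool × Bool} (hpq : p ≠ q) :
    Disjoint (cls t (cval t u z p)) (cls t (cval t u z q)) := by
  rw [Set.disjoint_left]
  rintro y ⟨g, hg, rfl⟩ ⟨f, hf, e⟩
  apply hpq
  have he : cj (g * f⁻¹) ((TEl.cen p.1 p.2.1 p.2.2).ev t u z a k) =
      (TEl.cen q.1 q.2.1 q.2.2).ev t u z a k := by
    rw [← h.cval_eq, ← h.cval_eq, ← cj_cj, ← e, cj_cj, mul_inv_cancel, cj_by_one]
  have hgf : g * f⁻¹ * t = t * (g * f⁻¹) := by
    rw [mul_assoc, (Commute.inv_left (a := f) (b := t) hf).eq, ← mul_assoc, hg, mul_assoc]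
  exact h.eq_of_conj_C hgf he

omit h [Finite G] in
theorem cls_t : Nat.card (cls t t) = 1 := by
  have : cls t t = {t} := by
    ext y
    refine ⟨?_, fun hy => ⟨1, by simp, by rw [cj_by_one]; exact hy.symm⟩⟩
    rintro ⟨g, hg, rfl⟩
    exact cj_eq_self.2 hg
  rw [this, Nat.card_coe_set_eq, Set.ncard_singleton]

/-- The conjugates of `t` in `C(t)` are the classes of the central representatives. -/
theorem conjIn_cent (S : Finset (Bool × Bool × Bool))
    (hS : ∀ p, p ∈ S ↔ IsConj t (cval t u z p)) :
    Nat.card (conjIn t (centralizer ({t} : Set G) : Set G)) =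
      ∑ p ∈ S, Nat.card (cls t (cval t u z p)) := by
  classical
  have hU : conjIn t (centralizer ({t} : Set G) : Set G) = ⋃ p ∈ S, cls t (cval t u z p) := by
    ext y
    simp only [Set.mem_iUnion, exists_prop]
    constructor
    · rintro ⟨hyC, hy⟩
      have hy2 : y * y = 1 := by
        obtain ⟨g, rfl⟩ := isConj_iff_cj.1 hy
        rw [← cj_mul, h.t2, cj_one]
      rcases h.rep y (mem_cent.1 hyC) hy2 with e | ⟨g, hg, hm⟩
      · exact absurd (e ▸ hy) h.not_conj_one
      · obtain ⟨p, hp⟩ : ∃ p, cval t u z p = cj g y := by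
          simp only [Set.mem_insert_iff, Set.mem_singleton_iff] at hm
          rcases hm with e | e | e | e | e | e | e
          · exact ⟨(true, false, false), by simp [cval, pz, e]⟩
          · exact ⟨(false, true, false), by simp [cval, pz, e]⟩
          · exact ⟨(false, false, true), by simp [cval, pz, e]⟩
          · exact ⟨(false, true, true), by simp [cval, pz, e]⟩
          · exact ⟨(true, true, false), by simp [cval, pz, e]⟩
          · exact ⟨(true, false, true), by simp [cval, pz, e]⟩
          · exact ⟨(true, true, true), by simp [cval, pz, e]⟩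
        refine ⟨p, (hS p).2 (by rw [hp]; exact hy.trans (isConj_cj g y)), g⁻¹, ?_, ?_⟩
        · exact (Commute.inv_left (a := g) (b := t) hg).eq
        · rw [hp, cj_cj, mul_inv_cancel, cj_by_one]
    · rintro ⟨p, hp, g, hg, rfl⟩
      refine ⟨?_, ((hS p).1 hp).trans (isConj_cj _ _)⟩
      have hc : cval t u z p * t = t * cval t u z p := by
        rw [h.cval_eq]; exact mem_cent.1 (h.T_le_cent (h.ev_mem _))
      rw [SetLike.mem_coe, mem_cent]
      have ht := cj_eq_self.2 hg
      calc cj g (cval t u z p) * t = cj g (cval t u z p) * cj g t := by rw [ht]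
        _ = cj g (t * cval t u z p) := by rw [← cj_mul, hc]
        _ = t * cj g (cval t u z p) := by rw [cj_mul, ht]
  simp only [Nat.card_coe_set_eq]
  rw [hU]
  clear hU hS
  induction S using Finset.induction with
  | empty => simp
  | @insert q S'' hq ih2 =>
    rw [Finset.sum_insert hq, ← ih2, Finset.set_biUnion_insert,
      Set.ncard_union_eq ?_ (Set.toFinite _) (Set.toFinite _)]
    simp only [Set.disjoint_iUnion_right]
    exact fun r hr => h.cls_disjoint fun e => hq (e ▸ hr)

theorem index_two_of_cent_count (hno : ∀ K : Subgroup G, K.index ≠ 2) (h128 : 128 ∣ Nat.card G)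
    (hc : Nat.card (conjIn t (centralizer ({t} : Set G) : Set G)) % 4 = 2) : False := by
  obtain ⟨m, hm, hC⟩ := h.card
  have h4 : 4 ∣ (centralizer ({t} : Set G)).index := by
    rw [← (centralizer ({t} : Set G)).card_mul_index, hC, show (128 : ℕ) = 32 * 4 by norm_num,
      mul_assoc] at h128
    have h2 := Nat.dvd_of_mul_dvd_mul_left (by norm_num) h128
    exact (Nat.Coprime.pow_left 2 ((Nat.Prime.coprime_iff_not_dvd Nat.prime_two).2 (by
      obtain ⟨j, rfl⟩ := hm; omega))).dvd_of_dvd_mul_left h2
  obtain ⟨K, hK⟩ := index_two_of_count _ t h.t2 _ h4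
    (mul_comm (Nat.card (conjIn t (centralizer ({t} : Set G) : Set G))) _) hc
  exact hno K hK

theorem false_of_two_classes (hno : ∀ K : Subgroup G, K.index ≠ 2) (h128 : 128 ∣ Nat.card G)
    (hz : IsConj t (t * z)) (hu : ¬ IsConj t u) (hb : ¬ IsConj t (u * z))
    (htu : ¬ IsConj t (t * u)) (htb : ¬ IsConj t (t * (u * z))) : False := by
  refine h.index_two_of_cent_count hno h128 ?_
  rw [h.conjIn_cent {(true, false, false), (true, false, true)} ?_]
  · rw [Finset.sum_pair (by decide)]
    have e1 : cval t u z (true, false, false) = t := by simp [cval, pz]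
    have e2 : cval t u z (true, false, true) = t * z := by simp [cval, pz]
    rw [e1, e2, cls_t, card_cls_mul]
    have := h.nz
    omega
  · rintro ⟨e, i, j⟩
    have n1 := h.not_conj_one
    have n2 := h.not_conj_z
    cases e <;> cases i <;> cases j <;>
      simp only [cval, pz, pw_true, pw_false, one_mul, mul_one, hz, hu, hb, htu, htb, n1, n2, IsConj.refl,
        Finset.mem_insert, Finset.mem_singleton, Prod.mk.injEq, Bool.false_eq_true, Bool.true_eq_false,
        false_and, and_false, and_self, or_false, false_or, or_true, true_or]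

theorem false_of_six_classes (hno : ∀ K : Subgroup G, K.index ≠ 2) (h128 : 128 ∣ Nat.card G)
    (hz : IsConj t (t * z)) (hu : IsConj t u) (hb : IsConj t (u * z))
    (htu : IsConj t (t * u)) (htb : IsConj t (t * (u * z))) : False := by
  refine h.index_two_of_cent_count hno h128 ?_
  rw [h.conjIn_cent {(true, false, false), (true, false, true), (true, true, false), (true, true, true),
    (false, true, false), (false, true, true)} ?_]
  · repeat rw [Finset.sum_insert (by decide)]
    rw [Finset.sum_singleton]
    simp only [cval, pz, pw_true, pw_false, one_mul, mul_one, card_cls_mul, cls_t]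
    have := h.nz
    obtain ⟨r, hr⟩ := h.nu
    obtain ⟨s, hs⟩ := h.nb
    omega
  · rintro ⟨e, i, j⟩
    have n1 := h.not_conj_one
    have n2 := h.not_conj_z
    cases e <;> cases i <;> cases j <;>
      simp only [cval, pz, pw_true, pw_false, one_mul, mul_one, hz, hu, hb, htu, htb, n1, n2, IsConj.refl,
        Finset.mem_insert, Finset.mem_singleton, Prod.mk.injEq, Bool.false_eq_true, Bool.true_eq_false,
        false_and, and_false, and_self, or_false, false_or, or_true, true_or]

end Hyp

end Cfsg.Agent.TwoTimesSym
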