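import Cfsg.Agent.TwoTimesSym.EOrbit
import Cfsg.Agent.TwoTimesSym.CentCount

/-!
An orbit of length three of `t` under `N(T) ∩ N(E)` is impossible.
-/

set_option autoImplicit false

namespace Cfsg.Agent.TwoTimesSym

open Subgroup

variable {G : Type*} [Group G] {t u z a k : G}

namespace Hyp

variable [Finite G] (h : Hyp t u z a k)
include h

theorem mem_orb1_of {l : G} (hl : l ∈ nrm (eG t u z a)) {x : G}
    (hx : x ∈ orb (nrm (eG t u z a)) t) : cj l x ∈ orb (nrm (eG t u z a)) t := orb_cj hx hl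

theorem cj_noncentral {l : G} (hl : l ∈ nrm (eG t u z a) ⊓ nrm (tG t u z a k)) :
    ∃ e i j, cj l a = (⟨e, true, false, (i, j)⟩ : TEl).ev t u z a k := by
  have hl' := mem_inf.1 hl
  obtain ⟨X, hX, hXe⟩ := h.toFrame.mem_E1.1 (nrm_iff.1 hl'.1 a (subset_closure (.inr (.inr (.inr rfl)))))
  obtain ⟨e, p, q, i, j⟩ := X
  obtain rfl : q = false := hX
  cases p with
  | true => exact ⟨e, i, j, hXe.symm⟩
  | false =>
    exfalso
    obtain ⟨e', i', j', he⟩ := h.cj_cen (inv_mem hl'.2) e i j
    have hc : (TEl.cen e i j).ev t u z a k = cj l a := hXe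
    rw [hc, cj_cj, mul_inv_cancel, cj_by_one,
      ← Frame.ev_a (t := t) (u := u) (z := z) (a := a) (k := k)] at he
    have := h.ev_inj.1 he
    simp [TEl.cen] at this

theorem a_mem_orb1 (hu : u ∈ orb (nrm (eG t u z a)) t) : a ∈ orb (nrm (eG t u z a)) t := by
  obtain ⟨w, hw, e1, -, -⟩ := h.exists_w1
  have := orb_cj hu (mem_inf.1 hw).1
  rwa [e1] at this

theorem no_three_a {l : G} (hl : l ∈ nrm (eG t u z a) ⊓ nrm (tG t u z a k)) (e1 : cj l t = u)
    (e2 : cj l u = t * u) (htz : t * z ∉ orb (nrm (eG t u z a)) t) : False := by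
  have hlN := (mem_inf.1 hl).1
  set O := orb (nrm (eG t u z a)) t
  have hu : u ∈ O := by rw [← e1]; exact ⟨l, hlN, rfl⟩
  have htu : t * u ∈ O := by rw [← e2]; exact orb_cj hu hlN
  obtain ⟨e, i, j, ha⟩ := h.cj_noncentral hl
  have hrho : ∀ e i j, (⟨e, true, false, (i, j)⟩ : TEl).ev t u z a k ∈ O → i = false := by
    intro e i j hm
    rw [h.orb1_iff rfl] at hm
    cases i with
    | false => rfl
    | true =>
      exfalso
      obtain ⟨g, hg, hge⟩ := hm
      cases e with
      | true =>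
        rw [show (TEl.cen _ _ _).ev t u z a k = t * z by simp [TEl.rho, Frame.ev_cen, pz]] at hge
        exact htz ⟨g, hg, hge⟩
      | false =>
        rw [show (TEl.cen _ _ _).ev t u z a k = z by simp [TEl.rho, Frame.ev_cen, pz]] at hge
        exact h.not_conj_z (isConj_iff_cj.2 ⟨g, hge⟩)
  obtain rfl : i = false := hrho e i j (by rw [← ha]; exact orb_cj (h.a_mem_orb1 hu) hlN)
  have hta : t * a ∈ O := by
    obtain ⟨w, hw, w1, -, -⟩ := h.exists_w1
    have := orb_cj htu (mem_inf.1 hw).1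
    rwa [cj_mul, w1, cj_eq_self.2 (mem_cent.1 (mem_inf.1 hw).2)] at this
  have h2 : cj l (t * a) = (⟨e, true, false, (true, j)⟩ : TEl).ev t u z a k := by
    rw [cj_mul, e1, ha]
    nth_rw 1 [← Frame.ev_u (t := t) (u := u) (z := z) (a := a) (k := k)]
    rw [← h.toFrame.ev_mul]
    congr 1
    clear ha
    revert e j
    decide
  exact absurd (hrho e true j (by rw [← h2]; exact orb_cj hta hlN)) (by decide)

theorem no_three_b {l : G} (hl : l ∈ nrm (eG t u z a) ⊓ nrm (tG t u z a k)) (e1 : cj l t = u)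
    (e2 : cj l u = t * (u * z)) (htz : t * z ∉ orb (nrm (eG t u z a)) t)
    (htu : t * u ∉ orb (nrm (eG t u z a)) t) (hb : u * z ∉ orb (nrm (eG t u z a)) t) : False := by
  classical
  set N := nrm (eG t u z a)
  set O := orb N t
  have hlN := (mem_inf.1 hl).1
  have hlz := h.cj_z (mem_inf.1 hl).2
  have hu : u ∈ O := by rw [← e1]; exact ⟨l, hlN, rfl⟩
  have htb : t * (u * z) ∈ O := by rw [← e2]; exact orb_cj hu hlN
  have nz : z ∉ O := fun ⟨g, _, hg⟩ => h.not_conj_z (isConj_iff_cj.2 ⟨g, hg⟩)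
  have n1 : (1 : G) ∉ O := fun ⟨g, _, hg⟩ => h.not_conj_one (isConj_iff_cj.2 ⟨g, hg⟩)
  have hcard : Nat.card O = 5 := by
    rw [h.card_orb1 (fun e i j => (e && (i == j)) || (!e && i && !j)) ?_]
    · rfl
    · intro e i j
      have ht : t ∈ O := self_mem_orb N t
      cases e <;> cases i <;> cases j <;>
        simp [Frame.ev_cen, pz, O, N] <;> assumption
  have hN : Nat.card N = 480 := by rw [h.card_N1, hcard]
  -- normalise so that `a` is fixed
  obtain ⟨l, hlN, e1, e2, hlz, hla⟩ : ∃ m ∈ N, cj m t = u ∧ cj m u = t * (u * z) ∧ cj m z = z ∧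
      cj m a = a := by
    obtain ⟨e, i, j, ha⟩ := h.cj_noncentral hl
    have hm : (⟨e, true, false, (i, j)⟩ : TEl).ev t u z a k ∈ O := by
      rw [← ha]; exact orb_cj (h.a_mem_orb1 hu) hlN
    rw [h.orb1_iff rfl] at hm
    have hei : e = false ∧ i = false := by
      cases e <;> cases i <;>
        simp [TEl.rho, Frame.ev_cen, pz] at hm ⊢ <;>
        first | exact nz hm | exact htz hm | exact htu hm
    obtain ⟨rfl, rfl⟩ := hei
    cases j with
    | false => exact ⟨l, hlN, e1, e2, hlz, by rw [ha]; simp [TEl.ev, El.ev, pz]⟩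
    | true =>
      have hk : ∀ x, x = t ∨ x = u ∨ x = z → cj k x = x := by
        rintro x (rfl | rfl | rfl) <;> apply cj_eq_self.2
        exacts [h.tk, h.uk.symm, h.zk.symm]
      refine ⟨l * k, mul_mem hlN (h.T_le_N1 h.k_mem), ?_, ?_, ?_, ?_⟩
      · rw [← cj_cj, e1, hk u (by simp)]
      · rw [← cj_cj, e2, cj_mul, cj_mul, hk t (by simp), hk u (by simp), hk z (by simp)]
      · rw [← cj_cj, hlz, hk z (by simp)]
      · rw [← cj_cj, ha, show (⟨false, true, false, (false, true)⟩ : TEl).ev t u z a k = a * z by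
          simp [TEl.ev, El.ev, pz], cj_mul, hk z (by simp), cj, inv_eq_of_mul_eq_one_right h.k2, h.ka]
        calc a * k * z * k * z = a * (k * (z * k) * z) := by group
          _ = a := by rw [h.zk, ← mul_assoc k k, h.k2, one_mul, h.z2, mul_one]
  obtain ⟨w, hw, w1, w2, w3⟩ := h.exists_w1
  have wt : cj w t = t := cj_eq_self.2 (mem_cent.1 (mem_inf.1 hw).2)
  have hwN := (mem_inf.1 hw).1
  -- the action on the five points
  let φ : N →* Equiv.Perm O :=
    { toFun := fun g =>
        { toFun := fun y => ⟨cj (g : G)⁻¹ y, orb_cj y.2 (inv_mem g.2)⟩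
          invFun := fun y => ⟨cj (g : G) y, orb_cj y.2 g.2⟩
          left_inv := fun y => by ext; simp [cj_cj]
          right_inv := fun y => by ext; simp [cj_cj] }
      map_one' := by ext y; simp
      map_mul' := fun g g' => by ext y; simp [cj_cj, mul_inv_rev] }
  have hker : φ.ker = (eG t u z a).subgroupOf N := by
    ext g
    rw [MonoidHom.mem_ker, mem_subgroupOf]
    constructor
    · intro hg
      have hf : ∀ y ∈ O, cj (g : G) y = y := by
        intro y hy
        have := congrArg (fun σ => ((σ ⟨y, hy⟩ : O) : G)) hg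
        exact cj_inv_left (g := (g : G)⁻¹) this |> fun e => by simpa using e
      have ft := cj_eq_self.1 (hf t (self_mem_orb N t))
      have fu := cj_eq_self.1 (hf u hu)
      have fa := cj_eq_self.1 (hf a (h.a_mem_orb1 hu))
      have fb := hf _ htb
      rw [cj_mul, cj_mul, hf t (self_mem_orb N t), hf u hu] at fb
      exact h.cent1 g ft fu (cj_eq_self.1 (mul_left_cancel (mul_left_cancel fb))) fa
    · intro hg
      ext y
      show cj (g : G)⁻¹ (y : G) = y
      exact cj_eq_self.2 (h.E1_comm (inv_mem hg) (h.orb1_mem y.2))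
  have hrange : Nat.card φ.range = 30 := by
    have h1 := φ.ker.card_mul_index
    rw [Subgroup.index_ker, hker, Nat.card_congr (subgroupOfEquivOfLe Subgroup.le_normalizer).toEquiv,
      h.card_E1, hN] at h1
    omega
  have hpts : ∀ y : O, (y : G) = t ∨ (y : G) = u ∨ (y : G) = t * (u * z) ∨ (y : G) = a ∨ (y : G) = a * z := by
    intro y
    obtain ⟨X, hX, hXe⟩ := h.toFrame.mem_E1.1 (h.orb1_mem y.2)
    have hy := y.2
    rw [← hXe, h.orb1_iff hX] at hy
    obtain ⟨e, p, q, i, j⟩ := X
    obtain rfl : q = false := hX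
    rw [← hXe]
    cases e <;> cases p <;> cases i <;> cases j <;>
      simp [TEl.rho, Frame.ev_cen, pz] at hy <;>
      first | exact absurd hy nz | exact absurd hy n1 | exact absurd hy htz | exact absurd hy htu |
        exact absurd hy hb | simp [TEl.ev, El.ev, pz]
  have p1 : cj l (t * (u * z)) = t := by
    rw [cj_mul, cj_mul, e1, e2, hlz]
    calc u * (t * (u * z) * z) = u * t * u * (z * z) := by group
      _ = t := by rw [h.z2, mul_one, h.tu, mul_assoc, h.u2, mul_one]
  have p2 : cj l (a * z) = a * z := by rw [cj_mul, hla, hlz]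
  have q1 : cj w (t * (u * z)) = t * (u * z) := by
    rw [cj_mul, cj_mul, wt, w1, w3, show a * (a * z * u) = a * a * (z * u) by group, h.a2, one_mul, h.zu]
  have q2 : cj w (a * z) = u := by
    rw [cj_mul, w2, w3, show a * z * (a * z * u) = a * (z * a) * z * u by group, h.za,
      show a * (a * z) * z * u = a * a * (z * z) * u by group, h.a2, h.z2, one_mul, one_mul]
  let m := w⁻¹ * l * w
  have hm : m ∈ N := mul_mem (mul_mem (inv_mem hwN) hlN) hwN
  have hmv : ∀ x, cj m (cj w x) = cj w (cj l x) := fun x => by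
    rw [cj_cj, cj_cj, show w * m = l * w by simp only [m]; group]
  have m1 : cj m t = a := by conv_lhs => rw [← wt, hmv, e1, w1]
  have m2 : cj m a = t * (u * z) := by conv_lhs => rw [← w1, hmv, e2, q1]
  have m3 : cj m (t * (u * z)) = t := by conv_lhs => rw [← q1, hmv, p1, wt]
  have m4 : cj m u = u := by conv_lhs => rw [← q2, hmv, p2, q2]
  have m5 : cj m (a * z) = a * z := by conv_lhs => rw [← w2, hmv, hla, w2]
  let g1 : φ.range := ⟨φ ⟨l * m, mul_mem hlN hm⟩, ⟨_, rfl⟩⟩
  let g2 : φ.range := ⟨φ ⟨m * l, mul_mem hm hlN⟩, ⟨_, rfl⟩⟩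
  have hval : ∀ (g : N) (y : O) (x : G), cj (g : G) x = y → ((φ g y : O) : G) = x :=
    fun g y x e => cj_inv_left e
  have hext : ∀ g g' : N, (∀ x, x = t ∨ x = u ∨ x = t * (u * z) ∨ x = a ∨ x = a * z →
      cj (g : G) x = cj (g' : G) x) → φ g = φ g' := by
    intro g g' he
    apply inv_injective
    ext y
    exact he y (hpts y)
  have a1 : cj (l * m) t = u := by rw [← cj_cj, e1, m4]
  have a2 : cj (l * m) u = t := by rw [← cj_cj, e2, m3]
  have a3 : cj (l * m) (t * (u * z)) = a := by rw [← cj_cj, p1, m1]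
  have a4 : cj (l * m) a = t * (u * z) := by rw [← cj_cj, hla, m2]
  have a5 : cj (l * m) (a * z) = a * z := by rw [← cj_cj, p2, m5]
  have b1 : cj (m * l) t = a := by rw [← cj_cj, m1, hla]
  have b2 : cj (m * l) u = t * (u * z) := by rw [← cj_cj, m4, e2]
  have b3 : cj (m * l) (t * (u * z)) = u := by rw [← cj_cj, m3, e1]
  have b4 : cj (m * l) a = t := by rw [← cj_cj, m2, p1]
  have b5 : cj (m * l) (a * z) = a * z := by rw [← cj_cj, m5, p2]
  have h11 : g1 * g1 = 1 := by
    apply Subtype.ext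
    show φ _ * φ _ = _
    rw [← map_mul, Subgroup.coe_one, ← map_one φ]
    refine hext _ _ ?_
    rintro x (rfl | rfl | rfl | rfl | rfl) <;>
      simp only [Subgroup.coe_mul, Subgroup.coe_one, ← cj_cj, cj_by_one, a1, a2, a3, a4, a5]
  have h22 : g2 * g2 = 1 := by
    apply Subtype.ext
    show φ _ * φ _ = _
    rw [← map_mul, Subgroup.coe_one, ← map_one φ]
    refine hext _ _ ?_
    rintro x (rfl | rfl | rfl | rfl | rfl) <;>
      simp only [Subgroup.coe_mul, Subgroup.coe_one, ← cj_cj, cj_by_one, b1, b2, b3, b4, b5]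
  have h12 : g1 * g2 = g2 * g1 := by
    apply Subtype.ext
    show φ _ * φ _ = φ _ * φ _
    rw [← map_mul, ← map_mul]
    refine hext _ _ ?_
    rintro x (rfl | rfl | rfl | rfl | rfl) <;>
      simp only [Subgroup.coe_mul, ← cj_cj, a1, a2, a3, a4, a5, b1, b2, b3, b4, b5]
  have hne : g1 ≠ 1 ∧ g2 ≠ 1 ∧ g1 ≠ g2 := by
    have hu' : u ≠ t := fun e => h.not_t_eq false true false (by decide) (by rw [Frame.ev_u, e])
    have ha' : a ≠ t := fun e => by
      have := h.ev_inj.1 (((Frame.ev_a (t := t) (u := u) (z := z) (a := a) (k := k)).trans e).trans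
        (Frame.ev_t (t := t) (u := u) (z := z) (a := a) (k := k)).symm)
      simp [TEl.cen] at this
    have key : ∀ (g g' : N) (y : G), φ g = φ g' → y ∈ O → cj (g : G) y = cj (g' : G) y := by
      intro g g' y e hy
      have e' : φ g⁻¹ = φ g'⁻¹ := by rw [map_inv, map_inv, e]
      have := congrArg (fun σ => ((σ ⟨y, hy⟩ : O) : G)) e'
      simpa [φ] using this
    refine ⟨fun e => hu' ?_, fun e => ha' ?_, fun e => ?_⟩
    · have := key ⟨l * m, mul_mem hlN hm⟩ 1 t (by rw [map_one]; exact congrArg Subtype.val e) (self_mem_orb N t)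
      rwa [a1, Subgroup.coe_one, cj_by_one] at this
    · have := key ⟨m * l, mul_mem hm hlN⟩ 1 t (by rw [map_one]; exact congrArg Subtype.val e) (self_mem_orb N t)
      rwa [b1, Subgroup.coe_one, cj_by_one] at this
    · have := key _ _ t (congrArg Subtype.val e) (self_mem_orb N t)
      rw [a1, b1, ← Frame.ev_u (t := t) (u := u) (z := z) (a := a) (k := k)] at this
      have := h.ev_inj.1 (this.trans (Frame.ev_a (t := t) (u := u) (z := z) (a := a) (k := k)).symm)
      simp [TEl.cen] at this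
  obtain ⟨n1', n2', n12⟩ := hne
  let ψ : Multiplicative (ZMod 2) × Multiplicative (ZMod 2) →* φ.range :=
    MonoidHom.mk' (fun p => (if p.1 = 1 then 1 else g1) * (if p.2 = 1 then 1 else g2)) (by
      intro p q
      have hz2 : ∀ x : Multiplicative (ZMod 2), x = 1 ∨ x = Multiplicative.ofAdd 1 := by decide
      have hne1 : (Multiplicative.ofAdd (1 : ZMod 2)) ≠ 1 := by decide
      have hsq : (Multiplicative.ofAdd (1 : ZMod 2)) * Multiplicative.ofAdd 1 = 1 := by decide
      have c1 : g1 * (g2 * g1) = g2 := by rw [← h12, ← mul_assoc, h11, one_mul]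
      obtain ⟨p1, p2⟩ := p
      obtain ⟨q1, q2⟩ := q
      rcases hz2 p1 with rfl | rfl <;> rcases hz2 p2 with rfl | rfl <;>
        rcases hz2 q1 with rfl | rfl <;> rcases hz2 q2 with rfl | rfl <;>
        simp [hne1, hsq, h11, h22, h12, c1, mul_assoc, ← mul_assoc g1 g1, ← mul_assoc g2 g2])
  have hψ : Function.Injective ψ := by
    rw [injective_iff_map_eq_one]
    rintro ⟨p1, p2⟩ hp
    have hz2 : ∀ x : Multiplicative (ZMod 2), x = 1 ∨ x = Multiplicative.ofAdd 1 := by decide
    have hne1 : (Multiplicative.ofAdd (1 : ZMod 2)) ≠ 1 := by decide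
    have hg12 : g1 * g2 ≠ 1 := fun e => n12 (by rw [← mul_one g1, ← h22, ← mul_assoc, e, one_mul])
    rcases hz2 p1 with rfl | rfl <;> rcases hz2 p2 with rfl | rfl <;>
      simp [ψ, hne1, n1', n2', hg12] at hp ⊢
  have h4 := Subgroup.card_dvd_of_injective ψ hψ
  rw [hrange, Nat.card_prod, Nat.card_eq_fintype_card] at h4
  norm_num at h4

end Hyp

end Cfsg.Agent.TwoTimesSym
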