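import Cfsg.Agent.TwoTimesSym.CentCount
import Cfsg.Agent.TwoTimesSym.NormT

/-!
The case where `t` and `tz` are the only central conjugates of `t` in `T`.
-/

set_option autoImplicit false

namespace Cfsg.Agent.TwoTimesSym

open Subgroup

variable {G : Type*} [Group G] {t u z a k : G}

namespace Hyp

variable [Finite G] (h : Hyp t u z a k)
include h

theorem elem_le {E : Subgroup G} (hE : E ≤ tG t u z a k) (hs : ∀ x ∈ E, x * x = 1) :
    E ≤ eG t u z a ∨ E ≤ eG t u z k := by
  have hcomm : ∀ x ∈ E, ∀ y ∈ E, x * y = y * x := fun x hx y hy => by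
    have h1 := hs _ (mul_mem hx hy)
    calc x * y = (x * y)⁻¹ := eq_inv_of_mul_eq_one_left h1
      _ = y⁻¹ * x⁻¹ := mul_inv_rev _ _
      _ = y * x := by rw [inv_eq_of_mul_eq_one_right (hs x hx), inv_eq_of_mul_eq_one_right (hs y hy)]
  by_contra hn
  rw [not_or, SetLike.not_le_iff_exists, SetLike.not_le_iff_exists] at hn
  obtain ⟨⟨x, hx, hx1⟩, y, hy, hy2⟩ := hn
  obtain ⟨X, rfl⟩ := h.toFrame.mem_T.1 (hE hx)
  obtain ⟨Y, rfl⟩ := h.toFrame.mem_T.1 (hE hy)
  have hX : X.q = true := by
    by_contra e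
    exact hx1 (h.toFrame.mem_E1.2 ⟨X, by simpa using e, rfl⟩)
  have hY : Y.p = true := by
    by_contra e
    exact hy2 (h.toFrame.mem_E2.2 ⟨Y, by simpa using e, rfl⟩)
  have key : ∀ X Y : TEl, X.q = true → Y.p = true → X.mul X = TEl.one → Y.mul Y = TEl.one →
      X.mul Y = Y.mul X → False := by decide
  refine key X Y hX hY ?_ ?_ ?_ <;> apply h.ev_injective <;>
    simp only [h.toFrame.ev_mul, Frame.ev_one]
  · exact hs _ hx
  · exact hs _ hy
  · exact hcomm _ hx _ hy

theorem inter_central {A : Subgroup G} (h1 : A ≤ eG t u z a) (h2 : A ≤ eG t u z k)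
    (h8 : 8 ≤ Nat.card A) : t ∈ A := by
  classical
  let S : Finset G := Finset.univ.image fun p : Bool × Bool × Bool =>
    (TEl.cen p.1 p.2.1 p.2.2).ev t u z a k
  have hsub : (A : Set G) ⊆ S := by
    intro x hx
    obtain ⟨X, hX, hXe⟩ := h.toFrame.mem_E1.1 (h1 hx)
    obtain ⟨Y, hY, hYe⟩ := h.toFrame.mem_E2.1 (h2 hx)
    obtain rfl := h.ev_inj.1 (hXe.trans hYe.symm)
    simp only [S, Finset.coe_image, Finset.coe_univ, Set.image_univ, Set.mem_range]
    refine ⟨(X.e, X.c.1, X.c.2), ?_⟩
    rw [← hXe]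
    congr 1
    obtain ⟨e, p, q, i, j⟩ := X
    simp only at hX hY
    subst hX hY
    rfl
  have hS : S.card ≤ 8 := le_trans Finset.card_image_le (le_of_eq rfl)
  have heq := Set.eq_of_subset_of_ncard_le hsub
    (by rw [Set.ncard_coe_finset, ← Nat.card_coe_set_eq]; exact le_trans hS h8) (Set.toFinite _)
  have : t ∈ (A : Set G) := by
    rw [heq]
    simp only [S, Finset.coe_image, Finset.coe_univ, Set.image_univ, Set.mem_range]
    exact ⟨(true, false, false), Frame.ev_t⟩
  exact this

theorem case_two (hno : ∀ K : Subgroup G, K.index ≠ 2) (hz : IsConj t (t * z)) (hu : ¬ IsConj t u)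
    (hb : ¬ IsConj t (u * z)) (htu : ¬ IsConj t (t * u)) (htb : ¬ IsConj t (t * (u * z))) : False := by
  classical
  by_cases h128 : 128 ∣ Nat.card G
  · exact h.false_of_two_classes hno h128 hz hu hb htu htb
  have F := h.toFrame
  have n1 := h.not_conj_one
  have n2 := h.not_conj_z
  set T := tG t u z a k
  set L := nrm T
  have hTL : T ≤ L := Subgroup.le_normalizer
  have hcen : ∀ e i j, IsConj t ((TEl.cen e i j).ev t u z a k) → e = true ∧ i = false := by
    intro e i j hc
    cases e <;> cases i <;> cases j <;>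
      simp only [Frame.ev_cen, pz, pw_true, pw_false, one_mul, mul_one] at hc <;>
      first | exact ⟨rfl, rfl⟩ | exact absurd hc n1 | exact absurd hc n2 | exact absurd hc hu |
        exact absurd hc hb | exact absurd hc htu | exact absurd hc htb
  have h2 : Nat.card (orb L t) = 2 := by
    rw [h.card_orbL, card_triples]
    simp only [Frame.ev_cen, pz, pw_true, pw_false, one_mul, mul_one, hz, hu, hb, htu, htb, n1, n2,
      IsConj.refl, if_true, if_false]
  have hL : Nat.card L = 64 := by rw [h.card_L, h2]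
  obtain ⟨g, hg⟩ := isConj_iff_cj.1 hz
  rw [show t * z = (TEl.cen true false true).ev t u z a k by simp [Frame.ev_cen, pz]] at hg
  obtain ⟨s₀, hs₀, hs₀t⟩ := h.exists_nrm_cj hg
  rw [show (TEl.cen true false true).ev t u z a k = t * z by simp [Frame.ev_cen, pz]] at hs₀t
  -- every element swapping `t` and `tz` swaps the two elementary abelian groups
  have hswap : ∀ s ∈ L, cj s t = t * z → s ∉ nrm (eG t u z a) := by
    intro s hs hst hsN
    have h4 : Nat.card (orb (nrm (eG t u z a)) t) = 4 := by
      rw [h.card_orb1 (fun e i _ => e && !i) ?_]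
      · rfl
      · intro e i j
        constructor
        · rintro ⟨g', hg', hge⟩
          obtain ⟨rfl, rfl⟩ := hcen e i j (isConj_iff_cj.2 ⟨g', hge⟩)
          rfl
        · intro hp
          cases e <;> cases i <;> simp at hp
          cases j
          · rw [Frame.ev_t]; exact self_mem_orb _ t
          · exact ⟨s, hsN, by rw [hst]; simp [Frame.ev_cen, pz]⟩
    have hd := Subgroup.card_subgroup_dvd_card (nrm (eG t u z a))
    rw [h.card_N1, h4] at hd
    exact h128 (dvd_trans ⟨3, by norm_num⟩ hd)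
  have hsq : ∀ s ∈ L, s * s ∈ T := fun s hs => by
    have := h.pow_orb_mem hs
    rwa [h2, pow_two] at this
  have hnc : ∀ s ∈ L, cj s t = t * z → ∃ e i j, cj s a = (⟨e, false, true, (i, j)⟩ : TEl).ev t u z a k := by
    intro s hs hst
    obtain ⟨X, hX, hXe⟩ := F.mem_E2.1 ((h.swap_of_notMem hs (hswap s hs hst)).1 a
      (subset_closure (.inr (.inr (.inr rfl)))))
    obtain ⟨e, p, q, i, j⟩ := X
    obtain rfl : p = false := hX
    cases q with
    | true => exact ⟨e, i, j, hXe.symm⟩
    | false =>
      exfalso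
      obtain ⟨e', i', j', he⟩ := h.cj_cen (inv_mem hs) e i j
      rw [show (TEl.cen e i j).ev t u z a k = cj s a from hXe, cj_cj, mul_inv_cancel, cj_by_one,
        ← Frame.ev_a (t := t) (u := u) (z := z) (a := a) (k := k)] at he
      have := h.ev_inj.1 he
      simp [TEl.cen] at this
  -- normalise the square to be central
  obtain ⟨s, hs, hst, τe, τi, τj, hτ⟩ : ∃ s ∈ L, cj s t = t * z ∧
      ∃ e i j, (TEl.cen e i j).ev t u z a k = s * s := by
    obtain ⟨τ, hτ⟩ := F.mem_T.1 (hsq s₀ hs₀)
    obtain ⟨e, i, j, ha⟩ := hnc s₀ hs₀ hs₀t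
    obtain ⟨e', i', j', hc⟩ := h.cj_cen hs₀ e i j
    have hfix : cj s₀ (τ.ev t u z a k) = τ.ev t u z a k := by
      rw [hτ]; exact cj_eq_self.2 (by group)
    by_cases hp : τ.p = false
    · by_cases hq : τ.q = false
      · refine ⟨s₀, hs₀, hs₀t, τ.e, τ.c.1, τ.c.2, ?_⟩
        rw [← hτ]
        congr 1
        obtain ⟨a1, a2, a3, a4, a5⟩ := τ
        simp only at hp hq
        subst hp hq
        rfl
      · -- `τ ∈ E2 ∖ Z` is moved into `E1`
        exfalso
        have h2m : τ.ev t u z a k ∈ eG t u z k := F.mem_E2.2 ⟨τ, hp, rfl⟩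
        have h1m := (h.swap_of_notMem hs₀ (hswap s₀ hs₀ hs₀t)).2 _ h2m
        rw [hfix] at h1m
        obtain ⟨X, hX, hXe⟩ := F.mem_E1.1 h1m
        rw [h.ev_inj.1 hXe] at hX
        exact hq hX
    · by_cases hq : τ.q = false
      · exfalso
        have h1m : τ.ev t u z a k ∈ eG t u z a := F.mem_E1.2 ⟨τ, hq, rfl⟩
        have h2m := (h.swap_of_notMem hs₀ (hswap s₀ hs₀ hs₀t)).1 _ h1m
        rw [hfix] at h2m
        obtain ⟨X, hX, hXe⟩ := F.mem_E2.1 h2m
        rw [h.ev_inj.1 hXe] at hX
        exact hp hX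
      · refine ⟨s₀ * a, mul_mem hs₀ (hTL h.a_mem), ?_, ?_⟩
        · rw [← cj_cj, hs₀t, cj_mul, cj_eq_self.2 h.ta, cj_eq_self.2 h.za.symm]
        · have e2 : s₀ * a * (s₀ * a) = τ.ev t u z a k * cj s₀ a * a := by
            rw [hτ, cj]; group
          refine ⟨((τ.mul ⟨e, false, true, (i, j)⟩).mul ⟨false, true, false, (false, false)⟩).e,
            ((τ.mul ⟨e, false, true, (i, j)⟩).mul ⟨false, true, false, (false, false)⟩).c.1,
            ((τ.mul ⟨e, false, true, (i, j)⟩).mul ⟨false, true, false, (false, false)⟩).c.2, ?_⟩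
          rw [e2, ha, show ∀ X : TEl, τ.ev t u z a k * X.ev t u z a k * a =
            ((τ.mul X).mul ⟨false, true, false, (false, false)⟩).ev t u z a k from fun X => by
              rw [F.ev_mul, F.ev_mul, Frame.ev_a]]
          congr 1
          have key : ∀ τ : TEl, ∀ e i j, τ.p = true → τ.q = true →
              TEl.cen ((τ.mul ⟨e, false, true, (i, j)⟩).mul ⟨false, true, false, (false, false)⟩).e
                ((τ.mul ⟨e, false, true, (i, j)⟩).mul ⟨false, true, false, (false, false)⟩).c.1
                ((τ.mul ⟨e, false, true, (i, j)⟩).mul ⟨false, true, false, (false, false)⟩).c.2 =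
              (τ.mul ⟨e, false, true, (i, j)⟩).mul ⟨false, true, false, (false, false)⟩ := by decide
          exact key τ e i j (by simpa using hp) (by simpa using hq)
  have hsn := hswap s hs hst
  have hsT : s ∉ T := fun hm => hsn (h.T_le_N1 hm)
  have hsz : cj s z = z := h.cj_z hs
  have hst2 : cj s (t * z) = t := by rw [cj_mul, hst, hsz, mul_assoc, h.z2, mul_one]
  have htau_c : ∀ x ∈ T, cj (s * s) x = x := fun x hx => by
    rw [← hτ, cj_eq_self]; exact (h.cen_comm _ _ _ hx).symm
  -- the image of `u`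
  obtain ⟨ε, hsu⟩ : ∃ ε : Bool, cj s u = (TEl.cen false true ε).ev t u z a k := by
    obtain ⟨e, i, j, he⟩ := h.cj_cen hs false true false
    rw [Frame.ev_u] at he
    have h2u := htau_c u h.u_mem
    rw [← cj_cj, ← he] at h2u
    cases e <;> cases i <;> cases j <;>
      simp only [Frame.ev_cen, pz, pw_true, pw_false, one_mul, mul_one] at he h2u
    · exact absurd h2u (by
        rw [cj_one]; exact fun e => h.z_ne_one (by
          have := h.inj (TEl.cen false true false) (by rw [Frame.ev_u, e])
          exact absurd this (by decide)))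
    · rw [hsz] at h2u
      exact absurd (h.ev_inj.1 ((Frame.ev_z (t := t) (u := u) (z := z) (a := a) (k := k)).trans
        (h2u.trans (Frame.ev_u (t := t) (u := u) (z := z) (a := a) (k := k)).symm))) (by decide)
    · exact ⟨false, by rw [← he]; simp [Frame.ev_cen, pz]⟩
    · exact ⟨true, by rw [← he]; simp [Frame.ev_cen, pz]⟩
    · rw [hst, show t * z = (TEl.cen true false true).ev t u z a k by simp [Frame.ev_cen, pz]] at h2u
      exact absurd (h.ev_inj.1 (h2u.trans (Frame.ev_u (t := t) (u := u) (z := z) (a := a) (k := k)).symm))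
        (by decide)
    · rw [hst2] at h2u
      exact absurd (h.ev_inj.1 ((Frame.ev_t (t := t) (u := u) (z := z) (a := a) (k := k)).trans
        (h2u.trans (Frame.ev_u (t := t) (u := u) (z := z) (a := a) (k := k)).symm))) (by decide)
    · rw [cj_mul, hst, ← he, show t * z * (t * u) = t * t * (z * u) by
        rw [show t * z * (t * u) = t * (z * t) * u by group, h.tz]; group, h.t2, one_mul,
        show z * u = (TEl.cen false true true).ev t u z a k by simp [Frame.ev_cen, pz, h.zu]] at h2u
      exact absurd (h.ev_inj.1 (h2u.trans (Frame.ev_u (t := t) (u := u) (z := z) (a := a) (k := k)).symm))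
        (by decide)
    · rw [cj_mul, hst, cj_mul, ← he, hsz, show t * z * (t * (u * z) * z) = t * t * (z * u) * (z * z) by
        rw [show t * z * (t * (u * z) * z) = t * (z * t) * u * (z * z) by group, h.tz]; group, h.t2, h.z2,
        one_mul, mul_one,
        show z * u = (TEl.cen false true true).ev t u z a k by simp [Frame.ev_cen, pz, h.zu]] at h2u
      exact absurd (h.ev_inj.1 (h2u.trans (Frame.ev_u (t := t) (u := u) (z := z) (a := a) (k := k)).symm))
        (by decide)
  obtain ⟨ce, ci, cjb, hsa⟩ := hnc s hs hst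
  let φ : Bool := xor ce (ε && ci)
  let f : TEl → Bool := fun x => xor (xor x.e (ε && x.c.1)) (φ && x.q)
  have hlin : ∀ x y, f (x.mul y) = xor (f x) (f y) := by
    intro x y
    obtain ⟨a1, a2, a3, a4, a5⟩ := x
    obtain ⟨b1, b2, b3, b4, b5⟩ := y
    simp only [f, TEl.mul, zadd]
    generalize φ = w
    generalize ε = v
    revert a1 a2 a3 a4 a5 b1 b2 b3 b4 b5 v w
    decide
  have hfcen : ∀ e i j, f (TEl.cen e i j) = xor e (ε && i) := by
    intro e i j
    simp [f, TEl.cen]
  -- invariance under `s`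
  have hinv : ∀ g ∈ T, ∃ X Y : TEl, X.ev t u z a k = g ∧ Y.ev t u z a k = cj s g ∧ f X = f Y := by
    intro g hg
    induction hg using closure_induction with
    | mem x hx =>
      rcases hx with rfl | rfl | rfl | rfl | rfl
      · exact ⟨TEl.cen true false false, TEl.cen true false true, Frame.ev_t,
          by rw [hst]; simp [Frame.ev_cen, pz], by simp [hfcen]⟩
      · exact ⟨TEl.cen false true false, TEl.cen false true ε, Frame.ev_u, hsu.symm, by simp [hfcen]⟩
      · exact ⟨TEl.cen false false true, TEl.cen false false true, Frame.ev_z,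
          by rw [hsz]; exact Frame.ev_z, rfl⟩
      · exact ⟨_, _, Frame.ev_a, hsa.symm, by simp [f, φ]; cases ce <;> cases ε <;> cases ci <;> rfl⟩
      · -- `k = a^s c`
        obtain ⟨e', i', j', hc⟩ := h.cj_cen hs ce ci cjb
        refine ⟨⟨false, false, true, (false, false)⟩, (⟨false, true, false, (false, false)⟩ : TEl).mul
          (TEl.cen e' i' j'), Frame.ev_k, ?_, ?_⟩
        · have hk : x = cj s a * (TEl.cen ce ci cjb).ev t u z a x := by
            rw [hsa, ← F.ev_mul]
            conv_lhs => rw [← Frame.ev_k (t := t) (u := u) (z := z) (a := a) (k := x)]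
            congr 1
            generalize ce = c1; generalize ci = c2; generalize cjb = c3
            revert c1 c2 c3
            decide
          rw [F.ev_mul, Frame.ev_a, hc]
          conv_rhs => rw [hk, cj_mul, cj_cj, htau_c a h.a_mem]
        · have hsame : f (TEl.cen e' i' j') = f (TEl.cen ce ci cjb) := by
            have he1 : (TEl.cen e' i' j').ev t u z a x =
                (TEl.cen ce ci (xor cjb (xor ce (ε && ci)))).ev t u z a x := by
              rw [hc, Frame.ev_cen, cj_mul, pz, cj_mul,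
                show ∀ b, cj s (pw t b) = pw (cj s t) b from fun b => by cases b <;> simp,
                show ∀ b, cj s (pw u b) = pw (cj s u) b from fun b => by cases b <;> simp,
                show ∀ b, cj s (pw z b) = pw (cj s z) b from fun b => by cases b <;> simp,
                hst, hsu, hsz]
              have f1 : ∀ b, pw (t * z) b = (TEl.cen b false b).ev t u z a x := by
                intro b; cases b <;> simp [Frame.ev_cen, pz]
              have f2 : ∀ b, pw ((TEl.cen false true ε).ev t u z a x) b =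
                  (TEl.cen false b (b && ε)).ev t u z a x := by
                intro b; cases b <;> simp [Frame.ev_cen, pz]
              have f3 : ∀ b, pw z b = (TEl.cen false false b).ev t u z a x := by
                intro b; cases b <;> simp [Frame.ev_cen, pz]
              rw [f1, f2, f3, ← F.ev_mul, ← F.ev_mul]
              congr 1
              generalize ce = c1; generalize ci = c2; generalize cjb = c3; generalize ε = v
              revert c1 c2 c3 v
              decide
            rw [h.ev_inj.1 he1, hfcen, hfcen]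
          rw [hlin, hsame, hfcen]
          simp [f, φ]
    | one => exact ⟨TEl.one, TEl.one, Frame.ev_one, by rw [cj_one, Frame.ev_one], rfl⟩
    | mul x y _ _ e1 e2 =>
      obtain ⟨X, X', hX, hX', fX⟩ := e1
      obtain ⟨Y, Y', hY, hY', fY⟩ := e2
      exact ⟨X.mul Y, X'.mul Y', by rw [F.ev_mul, hX, hY], by rw [F.ev_mul, hX', hY', cj_mul],
        by rw [hlin, hlin, fX, fY]⟩
    | inv x _ e1 =>
      obtain ⟨X, X', hX, hX', fX⟩ := e1
      have h4 : ∀ X : TEl, X.mul (X.mul (X.mul X)) = TEl.one := by decide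
      refine ⟨X.mul (X.mul X), X'.mul (X'.mul X'), ?_, ?_, by simp only [hlin, fX]⟩
      · rw [← hX]; exact eq_inv_of_mul_eq_one_right (by rw [← F.ev_mul, h4, Frame.ev_one])
      · rw [cj_inv, ← hX']; exact eq_inv_of_mul_eq_one_right (by rw [← F.ev_mul, h4, Frame.ev_one])
  have hinv' : ∀ X : TEl, ∃ Y : TEl, Y.ev t u z a k = cj s (X.ev t u z a k) ∧ f Y = f X := by
    intro X
    obtain ⟨X', Y, e1, e2, e3⟩ := hinv _ (h.ev_mem X)
    exact ⟨Y, e2, by rw [← h.ev_inj.1 e1, e3]⟩
  have hfτ : f (TEl.cen τe τi τj) = false := by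
    have he : (TEl.cen τe τi τj).ev t u z a k =
        (TEl.cen τe τi (xor τj (xor τe (ε && τi)))).ev t u z a k := by
      conv_lhs => rw [← cj_eq_self.2 (show s * (TEl.cen τe τi τj).ev t u z a k =
        (TEl.cen τe τi τj).ev t u z a k * s by rw [hτ]; group)]
      rw [Frame.ev_cen, cj_mul, pz, cj_mul,
        show ∀ b, cj s (pw t b) = pw (cj s t) b from fun b => by cases b <;> simp,
        show ∀ b, cj s (pw u b) = pw (cj s u) b from fun b => by cases b <;> simp,
        show ∀ b, cj s (pw z b) = pw (cj s z) b from fun b => by cases b <;> simp,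
        hst, hsu, hsz]
      have f1 : ∀ b, pw (t * z) b = (TEl.cen b false b).ev t u z a k := by
        intro b; cases b <;> simp [Frame.ev_cen, pz]
      have f2 : ∀ b, pw ((TEl.cen false true ε).ev t u z a k) b =
          (TEl.cen false b (b && ε)).ev t u z a k := by
        intro b; cases b <;> simp [Frame.ev_cen, pz]
      have f3 : ∀ b, pw z b = (TEl.cen false false b).ev t u z a k := by
        intro b; cases b <;> simp [Frame.ev_cen, pz]
      rw [f1, f2, f3, ← F.ev_mul, ← F.ev_mul]
      congr 1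
      clear hτ
      generalize ε = v
      revert τe τi τj v
      decide
    have := h.ev_inj.1 he
    simp only [TEl.cen, TEl.mk.injEq, Prod.mk.injEq, true_and] at this
    rw [hfcen]
    revert this
    cases τj <;> cases (xor τe (ε && τi)) <;> simp
  -- the subgroup of index two
  have hmulM : ∀ g g' : G,
      (∃ X, f X = false ∧ (g = X.ev t u z a k ∨ g = s * X.ev t u z a k)) →
      (∃ X, f X = false ∧ (g' = X.ev t u z a k ∨ g' = s * X.ev t u z a k)) →
      ∃ X, f X = false ∧ (g * g' = X.ev t u z a k ∨ g * g' = s * X.ev t u z a k) := by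
    rintro g g' ⟨X, hX, eX⟩ ⟨Y, hY, eY⟩
    obtain ⟨X', hX', fX'⟩ := hinv' X
    rcases eX with rfl | rfl <;> rcases eY with rfl | rfl
    · exact ⟨X.mul Y, by rw [hlin, hX, hY]; rfl, Or.inl (F.ev_mul _ _).symm⟩
    · exact ⟨X'.mul Y, by rw [hlin, fX', hX, hY]; rfl, Or.inr (by rw [F.ev_mul, hX', cj]; group)⟩
    · exact ⟨X.mul Y, by rw [hlin, hX, hY]; rfl, Or.inr (by rw [F.ev_mul, mul_assoc])⟩
    · exact ⟨((TEl.cen τe τi τj).mul X').mul Y, by rw [hlin, hlin, fX', hX, hY, hfτ]; rfl,
        Or.inl (by rw [F.ev_mul, F.ev_mul, hτ, hX', cj]; group)⟩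
  have h1M : ∃ X, f X = false ∧ ((1 : G) = X.ev t u z a k ∨ (1 : G) = s * X.ev t u z a k) :=
    ⟨TEl.one, by simp [f, TEl.one], Or.inl Frame.ev_one.symm⟩
  let M : Subgroup G :=
    { carrier := {g | ∃ X, f X = false ∧ (g = X.ev t u z a k ∨ g = s * X.ev t u z a k)}
      one_mem' := h1M
      mul_mem' := fun {x y} hx hy => hmulM x y hx hy
      inv_mem' := fun {x} hx => by
        have hp : ∀ n : ℕ, ∃ X, f X = false ∧ (x ^ n = X.ev t u z a k ∨ x ^ n = s * X.ev t u z a k) := by
          intro n
          induction n with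
          | zero => rw [pow_zero]; exact h1M
          | succ n ih => rw [pow_succ]; exact hmulM _ _ ih hx
        have hxi : x⁻¹ = x ^ (orderOf x - 1) := by
          refine inv_eq_of_mul_eq_one_right ?_
          rw [← pow_succ', Nat.sub_add_cancel (orderOf_pos x), pow_orderOf_eq_one]
        show ∃ X, f X = false ∧ (x⁻¹ = X.ev t u z a k ∨ x⁻¹ = s * X.ev t u z a k)
        rw [hxi]
        exact hp _ }
  have hmemM : ∀ g, g ∈ M ↔ ∃ X, f X = false ∧ (g = X.ev t u z a k ∨ g = s * X.ev t u z a k) :=
    fun _ => Iff.rfl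
  have hdec : ∀ g ∈ L, ∃ X : TEl, g = X.ev t u z a k ∨ g = s * X.ev t u z a k := by
    intro g hg
    obtain ⟨e, i, j, he, hc⟩ := h.orb_L_subset ⟨g, hg, rfl⟩
    obtain ⟨rfl, rfl⟩ := hcen e i j (he ▸ hc)
    cases j with
    | false =>
      rw [Frame.ev_t] at he
      obtain ⟨X, hX⟩ := F.mem_T.1 (show g ∈ tG t u z a k by
        rw [← h.cent_inf_nrm]; exact mem_inf.2 ⟨mem_cent.2 (cj_eq_self.1 he.symm), hg⟩)
      exact ⟨X, Or.inl hX.symm⟩
    | true =>
      rw [show (TEl.cen true false true).ev t u z a k = t * z by simp [Frame.ev_cen, pz]] at he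
      obtain ⟨X, hX⟩ := F.mem_T.1 (show s⁻¹ * g ∈ tG t u z a k by
        rw [← h.cent_inf_nrm]
        refine mem_inf.2 ⟨mem_cent.2 (cj_eq_self.1 ?_), mul_mem (inv_mem hs) hg⟩
        rw [← cj_cj, show cj s⁻¹ t = t * z from cj_inv_left hst2, cj_mul, ← he, h.cj_z hg, mul_assoc, h.z2,
          mul_one])
      exact ⟨X, Or.inr (by rw [hX]; group)⟩
  have hnotsX : ∀ X Y : TEl, s * X.ev t u z a k ≠ Y.ev t u z a k := by
    intro X Y e
    apply hsT
    rw [show s = Y.ev t u z a k * (X.ev t u z a k)⁻¹ by rw [← e]; group]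
    exact mul_mem (h.ev_mem _) (inv_mem (h.ev_mem _))
  have hMiff : ∀ X, (X.ev t u z a k ∈ M ↔ f X = false) ∧ (s * X.ev t u z a k ∈ M ↔ f X = false) := by
    intro X
    refine ⟨⟨?_, fun hX => ⟨X, hX, Or.inl rfl⟩⟩, ⟨?_, fun hX => ⟨X, hX, Or.inr rfl⟩⟩⟩
    · rintro ⟨Y, hY, e | e⟩
      · rwa [h.ev_inj.1 e]
      · exact absurd e.symm (hnotsX _ _)
    · rintro ⟨Y, hY, e | e⟩
      · exact absurd e (hnotsX _ _)
      · rwa [h.ev_inj.1 (mul_left_cancel e)]
  have hML : M ≤ L := by
    rintro g ⟨X, -, rfl | rfl⟩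
    · exact hTL (h.ev_mem _)
    · exact mul_mem hs (hTL (h.ev_mem _))
  have htM : t ∉ M := by
    rw [← Frame.ev_t (t := t) (u := u) (z := z) (a := a) (k := k), (hMiff _).1, hfcen]
    simp
  have hxorM : ∀ g ∈ L, ∀ τ : TEl, f τ = true → (g * τ.ev t u z a k ∈ M ↔ g ∉ M) := by
    intro g hg τ hτ1
    obtain ⟨X, rfl | rfl⟩ := hdec g hg
    · rw [← F.ev_mul, (hMiff _).1, (hMiff _).1, hlin, hτ1]
      cases f X <;> simp
    · rw [mul_assoc, ← F.ev_mul, (hMiff _).2, (hMiff _).2, hlin, hτ1]
      cases f X <;> simp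
  have hft : f (TEl.cen true false false) = true := by simp [hfcen]
  have hidx : (M.subgroupOf L).index = 2 := by
    rw [Subgroup.index_eq_two_iff]
    refine ⟨⟨t, hTL h.t_mem⟩, fun b => ?_⟩
    have := hxorM _ b.2 _ hft
    rw [Frame.ev_t] at this
    simp only [mem_subgroupOf, Subgroup.coe_mul]
    by_cases hb' : (b : G) ∈ M
    · exact Or.inr ⟨hb', fun hm => this.1 hm hb'⟩
    · exact Or.inl ⟨this.2 hb', hb'⟩
  have hM : Nat.card L = 2 * Nat.card M := by
    have := (M.subgroupOf L).card_mul_index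
    rw [hidx, Nat.card_congr (subgroupOfEquivOfLe hML).toEquiv] at this
    omega
  have hPL : IsPGroup 2 L := IsPGroup.of_card (n := 6) (by rw [hL]; norm_num)
  set W := conjIn t ((L : Set G) \ M)
  set U := {y : G | y ∈ W ∧ Nat.card (L ⊓ centralizer ({y} : Set G) : Subgroup G) < 2 ^ (4 + 1)}
  have hU : 2 ^ 2 ∣ Nat.card U := by
    refine dvd_card_of_small_centralizer L U 4 2 (by rw [hL]; norm_num) ?_ (fun y hy => hy.2)
    rintro g hg y ⟨⟨⟨hyL, hyM⟩, hyc⟩, hys⟩
    have hyL' : g * y * g⁻¹ ∈ L := mul_mem (mul_mem hg hyL) (inv_mem hg)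
    have hMn : (M.subgroupOf L).Normal := Subgroup.normal_of_index_eq_two hidx
    refine ⟨⟨⟨hyL', fun hm => hyM ?_⟩, hyc.trans (isConj_iff.2 ⟨g, rfl⟩)⟩, ?_⟩
    · have := hMn.conj_mem (⟨g * y * g⁻¹, hyL'⟩ : L) (mem_subgroupOf.2 hm) ⟨g⁻¹, inv_mem hg⟩
      simpa [mem_subgroupOf, mul_assoc] using this
    · refine lt_of_le_of_lt ?_ hys
      refine Nat.card_le_card_of_injective (fun w : (L ⊓ centralizer ({g * y * g⁻¹} : Set G) : Subgroup G) =>
        (⟨g⁻¹ * (w : G) * g, mem_inf.2 ⟨mul_mem (mul_mem (inv_mem hg) (mem_inf.1 w.2).1) hg, ?_⟩⟩ :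
          (L ⊓ centralizer ({y} : Set G) : Subgroup G))) ?_
      · rw [mem_cent]
        have e := mem_cent.1 (mem_inf.1 w.2).2
        calc g⁻¹ * (w : G) * g * y = g⁻¹ * ((w : G) * (g * y * g⁻¹)) * g := by group
          _ = g⁻¹ * (g * y * g⁻¹ * w) * g := by rw [e]
          _ = y * (g⁻¹ * (w : G) * g) := by group
      · intro w w' e
        have := congrArg Subtype.val e
        simp only at this
        exact Subtype.ext (mul_left_cancel (mul_right_cancel this))
  have hV : {y : G | y ∈ W ∧ ¬ Nat.card (L ⊓ centralizer ({y} : Set G) : Subgroup G) < 2 ^ (4 + 1)} =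
      {t, t * z} := by
    ext y
    constructor
    · rintro ⟨⟨⟨hyL, hyM⟩, hyc⟩, hys⟩
      set P := L ⊓ centralizer ({y} : Set G)
      have hPp : IsPGroup 2 P := hPL.to_le inf_le_left
      have hP32 : Nat.card P = 32 := le_antisymm (h.card_le_32 hyc hPp inf_le_right) (by
        have : (2 : ℕ) ^ (4 + 1) = 32 := by norm_num
        omega)
      obtain ⟨g, hgy, hgP⟩ := h.transport hyc hPp inf_le_right
      have hle : cjS g P ≤ T := by
        intro x hx
        obtain ⟨w, hw, rfl⟩ := mem_cjS.1 hx
        exact hgP w hw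
      have heq : cjS g P = T := Subgroup.eq_of_le_of_card_ge hle (by rw [card_cjS, hP32, h.card_T])
      have hback : ∀ E : Subgroup G, E ≤ T → cjS g⁻¹ E ≤ P := by
        intro E hE x hx
        obtain ⟨w, hw, rfl⟩ := mem_cjS.1 hx
        have h' : w ∈ cjS g P := by rw [heq]; exact hE hw
        obtain ⟨v, hv, rfl⟩ := mem_cjS.1 h'
        rwa [cj_cj, mul_inv_cancel, cj_by_one]
      have hin : ∀ E : Subgroup G, E ≤ T → Nat.card E = 16 → (∀ x ∈ E, x * x = 1) → cjS g⁻¹ E ≤ T := by
        intro E hE hc hsE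
        by_contra hnot
        obtain ⟨i, hiE, hiT⟩ := SetLike.not_le_iff_exists.1 hnot
        set E' := cjS g⁻¹ E
        have hE'P := hback E hE
        have hE'L : E' ≤ L := le_trans hE'P inf_le_left
        have hsq' : ∀ x ∈ E', x * x = 1 := by
          intro x hx
          obtain ⟨w, hw, rfl⟩ := mem_cjS.1 hx
          rw [← cj_mul, hsE w hw, cj_one]
        set A := E' ⊓ T
        have hA8 : 8 ≤ Nat.card A := by
          have h1 : (A.subgroupOf E').index ≤ 2 := by
            have hmul : ∀ x ∈ E', x ∉ T → x * i ∈ T := by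
              intro x hx hxT
              obtain ⟨X, hX | hX⟩ := hdec x (hE'L hx)
              · exact absurd (hX ▸ h.ev_mem X) hxT
              obtain ⟨Y, hY | hY⟩ := hdec i (hE'L hiE)
              · exact absurd (hY ▸ h.ev_mem Y) hiT
              obtain ⟨X', hX', -⟩ := hinv' X
              rw [hX, hY, show s * X.ev t u z a k * (s * Y.ev t u z a k) =
                s * s * cj s (X.ev t u z a k) * Y.ev t u z a k by rw [cj]; group, ← hτ, ← hX']
              exact mul_mem (mul_mem (h.ev_mem _) (h.ev_mem _)) (h.ev_mem _)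
            refine le_of_eq ?_
            rw [Subgroup.index_eq_two_iff]
            refine ⟨⟨i, hiE⟩, fun b => ?_⟩
            simp only [mem_subgroupOf, Subgroup.coe_mul, A, mem_inf, b.2, mul_mem b.2 hiE, true_and]
            by_cases hbT : (b : G) ∈ T
            · exact Or.inr ⟨hbT, fun hm => hiT ((mul_mem_cancel_left hbT).1 hm)⟩
            · exact Or.inl ⟨hmul _ b.2 hbT, hbT⟩
          have := (A.subgroupOf E').card_mul_index
          rw [Nat.card_congr (subgroupOfEquivOfLe (inf_le_left : A ≤ E')).toEquiv, card_cjS, hc] at this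
          nlinarith
        have hcomm : ∀ x ∈ A, cj i x = x := by
          intro x hx
          refine cj_eq_self.2 ?_
          have hx' := (mem_inf.1 hx).1
          calc i * x = (i * x)⁻¹ := eq_inv_of_mul_eq_one_left (hsq' _ (mul_mem hiE hx'))
            _ = x * i := by
              rw [mul_inv_rev, inv_eq_of_mul_eq_one_right (hsq' x hx'), inv_eq_of_mul_eq_one_right (hsq' i hiE)]
        obtain ⟨X, hiX⟩ := hdec i (hE'L hiE)
        rcases hiX with hiX | hiX
        · exact hiT (hiX ▸ h.ev_mem X)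
        have hin1 : i ∉ nrm (eG t u z a) := fun hm => hsn (by
          rw [show s = i * (X.ev t u z a k)⁻¹ by rw [hiX]; group]
          exact mul_mem hm (inv_mem (h.T_le_N1 (h.ev_mem _))))
        have hsw := h.swap_of_notMem (hE'L hiE) hin1
        have htA : t ∈ A := by
          rcases h.elem_le (inf_le_right : A ≤ T) (fun x hx => hsq' x (mem_inf.1 hx).1) with hA | hA
          · exact h.inter_central hA (fun x hx => hcomm x hx ▸ hsw.1 x (hA hx)) hA8
          · exact h.inter_central (fun x hx => hcomm x hx ▸ hsw.2 x (hA hx)) hA hA8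
        have hti := hcomm t htA
        rw [hiX, ← cj_cj, hst, cj_mul, cj_eq_self.2 (mem_cent.1 (h.T_le_cent (h.ev_mem X))),
          h.cj_z (hTL (h.ev_mem X))] at hti
        exact h.z_ne_one (mul_eq_left.1 hti)
      have h1 := hin _ h.E1_le h.card_E1 (fun _ hx => h.E1_sq hx)
      have h2' := hin _ h.E2_le h.card_E2 (fun _ hx => h.E2_sq hx)
      have hTP : T ≤ P := by
        have e1 := h.elem_sixteen h1 (by rw [card_cjS, h.card_E1]) (by
          intro x hx
          obtain ⟨w, hw, rfl⟩ := mem_cjS.1 hx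
          rw [← cj_mul, h.E1_sq hw, cj_one])
        have e2 := h.elem_sixteen h2' (by rw [card_cjS, h.card_E2]) (by
          intro x hx
          obtain ⟨w, hw, rfl⟩ := mem_cjS.1 hx
          rw [← cj_mul, h.E2_sq hw, cj_one])
        have hne : cjS g⁻¹ (eG t u z a) ≠ cjS g⁻¹ (eG t u z k) := fun e => h.E1_ne_E2
          (Subgroup.map_injective (MulAut.conj (g⁻¹)⁻¹).injective e)
        have p1 := hback _ h.E1_le
        have p2 := hback _ h.E2_le
        have hle1 : eG t u z a ≤ P ∧ eG t u z k ≤ P := by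
          rcases e1 with e1 | e1 <;> rcases e2 with e2 | e2
          · exact absurd (e1.trans e2.symm) hne
          · exact ⟨e1 ▸ p1, e2 ▸ p2⟩
          · exact ⟨e2 ▸ p2, e1 ▸ p1⟩
          · exact absurd (e1.trans e2.symm) hne
        rw [closure_le]
        rintro x (rfl | rfl | rfl | rfl | rfl)
        exacts [hle1.1 (subset_closure (.inl rfl)), hle1.1 (subset_closure (.inr (.inl rfl))),
          hle1.1 (subset_closure (.inr (.inr (.inl rfl)))), hle1.1 (subset_closure (.inr (.inr (.inr rfl)))),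
          hle1.2 (subset_closure (.inr (.inr (.inr rfl))))]
      have hPT : P = T := (Subgroup.eq_of_le_of_card_ge hTP (by rw [hP32, h.card_T])).symm
      have hyP : y ∈ P := mem_inf.2 ⟨hyL, mem_cent.2 rfl⟩
      rw [hPT] at hyP
      have hTy : ∀ x ∈ T, y * x = x * y := fun x hx => by
        have h' : x ∈ P := by rw [hPT]; exact hx
        exact (mem_cent.1 (mem_inf.1 h').2).symm
      obtain ⟨e, i, j, he⟩ := h.center_T hyP (hTy a h.a_mem) (hTy k h.k_mem)
      obtain ⟨rfl, rfl⟩ := hcen e i j (he ▸ hyc)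
      rw [← he]
      cases j
      · exact Or.inl Frame.ev_t
      · exact Or.inr (by simp [Frame.ev_cen, pz])
    · intro hy
      have hmem : ∀ j, (TEl.cen true false j).ev t u z a k ∈
          {y : G | y ∈ W ∧ ¬ Nat.card (L ⊓ centralizer ({y} : Set G) : Subgroup G) < 2 ^ (4 + 1)} := by
        intro j
        refine ⟨⟨⟨hTL (h.ev_mem _), fun hm => ?_⟩, ?_⟩, ?_⟩
        · rw [SetLike.mem_coe, (hMiff _).1, hfcen] at hm
          simp at hm
        · cases j
          · rw [Frame.ev_t]
          · simpa [Frame.ev_cen, pz] using hz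
        · have hle := Subgroup.card_le_of_le (le_inf hTL (h.cen_le_cent true false j))
          rw [h.card_T] at hle
          exact not_lt.2 (by simpa using hle)
      rcases hy with rfl | rfl
      · have := hmem false
        rwa [Frame.ev_t] at this
      · have := hmem true
        rwa [show (TEl.cen true false true).ev t u z a k = t * z by simp [Frame.ev_cen, pz]] at this
  have hsplit : Nat.card W = Nat.card U + 2 := by
    have hd : W = U ∪ {t, t * z} := by
      rw [← hV]
      ext y
      constructor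
      · intro hy
        by_cases hh : Nat.card (L ⊓ centralizer ({y} : Set G) : Subgroup G) < 2 ^ (4 + 1)
        · exact Or.inl ⟨hy, hh⟩
        · exact Or.inr ⟨hy, hh⟩
      · rintro (⟨hy, -⟩ | ⟨hy, -⟩) <;> exact hy
    have hdis : Disjoint U {t, t * z} := by
      rw [← hV, Set.disjoint_left]
      exact fun y hy hy' => hy'.2 hy.2
    simp only [Nat.card_coe_set_eq]
    conv_lhs => rw [hd]
    rw [Set.ncard_union_eq hdis (Set.toFinite _) (Set.toFinite _), Set.ncard_pair]
    intro e
    exact h.z_ne_one (mul_eq_left.1 e.symm)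
  obtain ⟨m, hm, hC⟩ := h.card
  obtain ⟨c, hc⟩ := hU
  obtain ⟨K, hK⟩ := index_two_of_diff L M t h.t2 hML hM ((1 + 2 * c) * m) (by
    show Nat.card W * _ = _
    rw [hsplit, hc, hC, hL]; ring) (by
    rw [Nat.mul_mod, Nat.odd_iff.1 hm]; omega)
  exact hno K hK

end Hyp

end Cfsg.Agent.TwoTimesSym
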