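import Mathlib

/-!
Subgroups of index two from involutions acting oddly on cosets.

If `t` is an involution, `t` fixes `#(t^G ∩ H) * |C(t)| / |H|` cosets of `H`.  A sign computation on
the cosets of `H`, or of a subgroup `M` of index `2` in `H`, gives a subgroup of index `2`.
-/

set_option autoImplicit false

namespace Cfsg.Agent.TwoTimesSym

open Subgroup

variable {G : Type*} [Group G]

/-- The conjugates of `t` lying in a set. -/
def conjIn (t : G) (A : Set G) : Set G := {y | y ∈ A ∧ IsConj t y}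

theorem mem_conjIn {t y : G} {A : Set G} : y ∈ conjIn t A ↔ y ∈ A ∧ IsConj t y := Iff.rfl

theorem isConj_iff_inv {t y : G} : IsConj t y ↔ ∃ g : G, g⁻¹ * t * g = y := by
  rw [isConj_iff]
  exact ⟨fun ⟨c, hc⟩ => ⟨c⁻¹, by rw [← hc, inv_inv]⟩, fun ⟨g, hg⟩ => ⟨g⁻¹, by rw [← hg, inv_inv]⟩⟩

/-- The elements taking `t` into `H` by conjugation, counted in two ways. -/
theorem card_fixed_mul_card [Finite G] (H : Subgroup G) (t : G) :
    Nat.card {x : G ⧸ H // t • x = x} * Nat.card H =
      Nat.card (conjIn t (H : Set G)) * Nat.card (centralizer ({t} : Set G)) := by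
  set X := {g : G // g⁻¹ * t * g ∈ H}
  have hfix : ∀ g : G, t • (g : G ⧸ H) = (g : G ⧸ H) ↔ g⁻¹ * t * g ∈ H := by
    intro g
    rw [MulAction.Quotient.smul_coe, QuotientGroup.eq, smul_eq_mul, ← H.inv_mem_iff]
    rw [show ((t * g)⁻¹ * g)⁻¹ = g⁻¹ * t * g by group]
  have h1 : Nat.card X = Nat.card {x : G ⧸ H // t • x = x} * Nat.card H := by
    have e : X ≃ {g : G // g ∈ QuotientGroup.mk ⁻¹' {x : G ⧸ H | t • x = x}} :=
      Equiv.subtypeEquivRight fun g => (hfix g).symm
    rw [Nat.card_congr e]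
    have e2 := QuotientGroup.preimageMkEquivSubgroupProdSet H {x : G ⧸ H | t • x = x}
    rw [Nat.card_congr e2, Nat.card_prod, mul_comm]
    rfl
  have h2 : Nat.card X = Nat.card (conjIn t (H : Set G)) * Nat.card (centralizer ({t} : Set G)) := by
    choose w hw using fun y : conjIn t (H : Set G) => isConj_iff_inv.1 y.2.2
    let f : conjIn t (H : Set G) × centralizer ({t} : Set G) → X := fun p =>
      ⟨(p.2 : G) * w p.1, by
        have hc : t * (p.2 : G) = p.2 * t := mem_centralizer_singleton_iff.1 p.2.2 |>.symm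
        rw [show ((p.2 : G) * w p.1)⁻¹ * t * ((p.2 : G) * w p.1) = (w p.1)⁻¹ * ((p.2 : G)⁻¹ * (t * p.2)) * w p.1 by
          group, hc, inv_mul_cancel_left, hw]
        exact p.1.2.1⟩
    rw [← Nat.card_prod]
    refine (Nat.card_congr (Equiv.ofBijective f ⟨?_, ?_⟩)).symm
    · rintro ⟨y, c⟩ ⟨y', c'⟩ h
      have h' : (c : G) * w y = (c' : G) * w y' := congrArg Subtype.val h
      have hy : y = y' := by
        apply Subtype.ext
        rw [← hw y, ← hw y']
        have hc : t * (c : G) = c * t := (mem_centralizer_singleton_iff.1 c.2).symm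
        have hc' : t * (c' : G) = c' * t := (mem_centralizer_singleton_iff.1 c'.2).symm
        calc (w y)⁻¹ * t * w y = ((c : G) * w y)⁻¹ * t * ((c : G) * w y) := by
              rw [show ((c : G) * w y)⁻¹ * t * ((c : G) * w y) = (w y)⁻¹ * ((c : G)⁻¹ * (t * c)) * w y by group,
                hc, inv_mul_cancel_left]
          _ = ((c' : G) * w y')⁻¹ * t * ((c' : G) * w y') := by rw [h']
          _ = (w y')⁻¹ * t * w y' := by
              rw [show ((c' : G) * w y')⁻¹ * t * ((c' : G) * w y') = (w y')⁻¹ * ((c' : G)⁻¹ * (t * c')) * w y' by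
                group, hc', inv_mul_cancel_left]
      subst hy
      exact Prod.ext rfl (Subtype.ext (mul_right_cancel h'))
    · rintro ⟨g, hg⟩
      let y : conjIn t (H : Set G) := ⟨g⁻¹ * t * g, hg, isConj_iff_inv.2 ⟨g, rfl⟩⟩
      refine ⟨⟨y, ⟨g * (w y)⁻¹, ?_⟩⟩, Subtype.ext (by simp [f])⟩
      rw [mem_centralizer_singleton_iff]
      have h : (w y)⁻¹ * t * w y = g⁻¹ * t * g := hw y
      calc g * (w y)⁻¹ * t = g * ((w y)⁻¹ * t * w y) * (w y)⁻¹ := by group
        _ = g * (g⁻¹ * t * g) * (w y)⁻¹ := by rw [h]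
        _ = t * (g * (w y)⁻¹) := by group
  rw [← h1, h2]

/-- An involution with an odd number of transpositions on some coset space gives index two. -/
theorem index_two_of_odd [Finite G] (H : Subgroup G) (t : G) (ht : t * t = 1)
    (h : (H.index - Nat.card {x : G ⧸ H // t • x = x}) % 4 = 2) : ∃ K : Subgroup G, K.index = 2 := by
  classical
  have : Fintype (G ⧸ H) := Fintype.ofFinite _
  let σ : Equiv.Perm (G ⧸ H) := MulAction.toPermHom G (G ⧸ H) t
  have h2 : σ ^ 2 = 1 := by rw [← map_pow, pow_two, ht, map_one]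
  have hcard : Fintype.card (G ⧸ H) = H.index := by rw [Fintype.card_eq_nat_card]; rfl
  have hfix : Fintype.card (Function.fixedPoints σ) = Nat.card {x : G ⧸ H // t • x = x} := by
    rw [Fintype.card_eq_nat_card]
    exact Nat.card_congr (Equiv.subtypeEquivRight fun x => Iff.rfl)
  have hs : Equiv.Perm.sign σ = -1 := by
    rw [Equiv.Perm.sign_of_pow_two_eq_one h2, hcard, hfix]
    exact Odd.neg_one_pow (Nat.odd_iff.2 (by omega))
  let f : G →* ℤˣ := Equiv.Perm.sign.comp (MulAction.toPermHom G (G ⧸ H))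
  refine ⟨f.ker, ?_⟩
  rw [Subgroup.index_ker]
  have : f.range = ⊤ := by
    rw [eq_top_iff]
    rintro u -
    rcases Int.units_eq_one_or u with rfl | rfl
    · exact one_mem _
    · exact ⟨t, hs⟩
  rw [this, Subgroup.card_top, Nat.card_eq_fintype_card, Fintype.card_units_int]

/-- An involution fixes a number of cosets congruent to the index modulo two. -/
theorem fixed_mod_two [Finite G] (H : Subgroup G) (t : G) (ht : t * t = 1) :
    Nat.card {x : G ⧸ H // t • x = x} % 2 = H.index % 2 ∧
      Nat.card {x : G ⧸ H // t • x = x} ≤ H.index := by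
  classical
  have : Fintype (G ⧸ H) := Fintype.ofFinite _
  let σ : Equiv.Perm (G ⧸ H) := MulAction.toPermHom G (G ⧸ H) t
  have h2 : σ ^ 2 ^ 1 = 1 := by rw [pow_one, ← map_pow, pow_two, ht, map_one]
  have h := Equiv.Perm.card_compl_support_modEq (p := 2) h2
  have hfix : σ.supportᶜ.card = Nat.card {x : G ⧸ H // t • x = x} := by
    rw [← Nat.card_eq_finsetCard]
    refine Nat.card_congr (Equiv.subtypeEquivRight fun x => ?_)
    rw [Finset.mem_compl, Equiv.Perm.mem_support, not_not]
    rfl
  have hcard : Fintype.card (G ⧸ H) = H.index := by rw [Fintype.card_eq_nat_card]; rfl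
  refine ⟨?_, ?_⟩
  · rw [← hfix, ← hcard]; exact h
  · rw [← hfix, ← hcard]; exact Finset.card_le_univ _

/-- Counting form of the sign criterion. -/
theorem index_two_of_count [Finite G] (H : Subgroup G) (t : G) (ht : t * t = 1) (n : ℕ)
    (h4 : 4 ∣ H.index)
    (hn : Nat.card (conjIn t (H : Set G)) * Nat.card (centralizer ({t} : Set G)) = Nat.card H * n)
    (h2 : n % 4 = 2) : ∃ K : Subgroup G, K.index = 2 := by
  have h := card_fixed_mul_card H t
  rw [hn, mul_comm] at h
  have hF := Nat.eq_of_mul_eq_mul_left Nat.card_pos h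
  refine index_two_of_odd H t ht ?_
  have := (fixed_mod_two H t ht).2
  rw [hF] at this ⊢
  omega

/-- The transfer criterion: `M` of index two in `H`, with an odd weighted number of conjugates of
`t` in `H` outside `M`. -/
theorem index_two_of_diff [Finite G] (H M : Subgroup G) (t : G) (ht : t * t = 1)
    (hMH : M ≤ H) (hM : Nat.card H = 2 * Nat.card M) (n : ℕ)
    (hn : Nat.card (conjIn t ((H : Set G) \ M)) * Nat.card (centralizer ({t} : Set G)) = Nat.card H * n)
    (h2 : n % 2 = 1) : ∃ K : Subgroup G, K.index = 2 := by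
  classical
  set FH := Nat.card {x : G ⧸ H // t • x = x} with hFH
  set FM := Nat.card {x : G ⧸ M // t • x = x} with hFM
  have hsplit : Nat.card (conjIn t (H : Set G)) =
      Nat.card (conjIn t (M : Set G)) + Nat.card (conjIn t ((H : Set G) \ M)) := by
    have e : conjIn t (H : Set G) = conjIn t (M : Set G) ∪ conjIn t ((H : Set G) \ M) := by
      ext y
      simp only [mem_conjIn, Set.mem_union, Set.mem_diff, SetLike.mem_coe]
      constructor
      · rintro ⟨h, h'⟩
        by_cases hy : y ∈ M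
        · exact Or.inl ⟨hy, h'⟩
        · exact Or.inr ⟨⟨h, hy⟩, h'⟩
      · rintro (⟨h, h'⟩ | ⟨⟨h, -⟩, h'⟩)
        · exact ⟨hMH h, h'⟩
        · exact ⟨h, h'⟩
    have hd : Disjoint (conjIn t (M : Set G)) (conjIn t ((H : Set G) \ M)) := by
      rw [Set.disjoint_left]
      intro y hy hy'
      exact hy'.1.2 hy.1
    rw [Nat.card_coe_set_eq, Nat.card_coe_set_eq, Nat.card_coe_set_eq, e,
      Set.ncard_union_eq hd (Set.toFinite _) (Set.toFinite _)]
  have hH := card_fixed_mul_card H t
  have hMc := card_fixed_mul_card M t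
  rw [← hFH, hsplit, add_mul, hn, ← hMc, ← hFM, hM] at hH
  have hMpos : 0 < Nat.card M := Nat.card_pos
  have hF : 2 * FH = FM + 2 * n := by
    have : Nat.card M * (2 * FH) = Nat.card M * (FM + 2 * n) := by linarith
    exact Nat.eq_of_mul_eq_mul_left hMpos this
  have hidx : M.index = 2 * H.index := by
    have h1 := M.card_mul_index
    have h2' := H.card_mul_index
    rw [← h2', hM] at h1
    exact Nat.eq_of_mul_eq_mul_left hMpos (by linarith)
  refine index_two_of_odd M t ht ?_
  obtain ⟨p1, p2⟩ := fixed_mod_two H t ht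
  rw [← hFH] at p1 p2
  rw [← hFM, hidx]
  omega

/-- The conjugation invariant subset of elements with small centralisers in a `2`-group has
cardinality divisible by the corresponding class size. -/
theorem dvd_card_of_small_centralizer [Finite G] (H : Subgroup G) (U : Set G) (a b : ℕ)
    (hH : Nat.card H = 2 ^ (a + b))
    (hU : ∀ h ∈ H, ∀ y ∈ U, h * y * h⁻¹ ∈ U)
    (hs : ∀ y ∈ U, Nat.card (H ⊓ centralizer ({y} : Set G) : Subgroup G) < 2 ^ (a + 1)) :
    2 ^ b ∣ Nat.card U := by
  classical
  let act : MulAction H U :=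
    { smul := fun h y => ⟨(h : G) * y * (h : G)⁻¹, hU h h.2 y y.2⟩
      one_smul := fun y => Subtype.ext (show ((1 : H) : G) * y * ((1 : H) : G)⁻¹ = y by simp)
      mul_smul := fun h h' y => Subtype.ext (show ((h * h' : H) : G) * y * ((h * h' : H) : G)⁻¹ =
        (h : G) * ((h' : G) * y * (h' : G)⁻¹) * (h : G)⁻¹ by rw [Subgroup.coe_mul]; group) }
  have : Fintype U := Fintype.ofFinite _
  have : Fintype (Quotient (MulAction.orbitRel H U)) := Fintype.ofFinite _
  rw [Nat.card_congr (MulAction.selfEquivSigmaOrbits H U), Nat.card_sigma]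
  refine Finset.dvd_sum fun ω _ => ?_
  set y := ω.out
  have hi := (MulAction.stabilizer H y).card_mul_index
  rw [MulAction.index_stabilizer, hH] at hi
  have hsc : Nat.card (MulAction.stabilizer H y) =
      Nat.card (H ⊓ centralizer ({(y : G)} : Set G) : Subgroup G) := by
    refine Nat.card_congr ⟨fun h => ⟨(h : H), mem_inf.2 ⟨(h : H).2, ?_⟩⟩,
      fun h => ⟨⟨(h : G), (mem_inf.1 h.2).1⟩, ?_⟩, fun _ => rfl, fun _ => rfl⟩
    · have e : ((h : H) : G) * y * ((h : H) : G)⁻¹ = y := congrArg Subtype.val h.2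
      rw [mem_centralizer_singleton_iff]
      nth_rw 2 [← e]
      group
    · apply Subtype.ext
      show (h : G) * y * (h : G)⁻¹ = y
      rw [← mem_centralizer_singleton_iff.1 (mem_inf.1 h.2).2 |>.symm]
      group
  have hlt := hs y y.2
  rw [← hsc] at hlt
  obtain ⟨i, hi2, hie⟩ := (Nat.dvd_prime_pow Nat.prime_two).1 (Dvd.intro _ hi)
  rw [hie] at hlt hi
  have hia : i ≤ a := by
    have := (Nat.pow_lt_pow_iff_right (by norm_num : 1 < 2)).1 hlt
    omega
  have horb : (MulAction.orbit H y).ncard = 2 ^ (a + b - i) := by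
    apply Nat.eq_of_mul_eq_mul_left (Nat.two_pow_pos i)
    rw [hi, ← pow_add]
    congr 1
    omega
  rw [Nat.card_coe_set_eq, horb]
  exact pow_dvd_pow _ (by omega)

end Cfsg.Agent.TwoTimesSym
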