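import Cfsg.Agent.TwoTimesSym.Psi

/-!
Extensions of subgroups by an element whose square lies inside, and the number of conjugates of `t` in
`Q`: eight for each translation that occurs.
-/

set_option autoImplicit false

namespace Cfsg.Agent.TwoTimesSym

open Subgroup

variable {G : Type*} [Group G]

/-- The union of `K` and `xK`. -/
def extTwo (K : Subgroup G) (x : G) (hx : ∀ y ∈ K, cj x y ∈ K) (hx2 : x * x ∈ K) : Subgroup G where
  carrier := {g | g ∈ K ∨ x⁻¹ * g ∈ K}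
  one_mem' := Or.inl (one_mem K)
  mul_mem' := by
    rintro g f (hg | hg) (hf | hf)
    · exact Or.inl (mul_mem hg hf)
    · refine Or.inr ?_
      rw [show x⁻¹ * (g * f) = cj x g * (x⁻¹ * f) by simp [cj, mul_assoc]]
      exact mul_mem (hx g hg) hf
    · exact Or.inr (by rw [← mul_assoc]; exact mul_mem hg hf)
    · refine Or.inl ?_
      rw [show g * f = x * x * cj x (x⁻¹ * g) * (x⁻¹ * f) by simp [cj, mul_assoc]]
      exact mul_mem (mul_mem hx2 (hx _ hg)) hf
  inv_mem' := by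
    rintro g (hg | hg)
    · exact Or.inl (inv_mem hg)
    · refine Or.inr ?_
      rw [show x⁻¹ * g⁻¹ = cj x (x⁻¹ * g)⁻¹ * (x * x)⁻¹ by simp [cj, mul_assoc]]
      exact mul_mem (hx _ (inv_mem hg)) (inv_mem hx2)

theorem mem_extTwo {K : Subgroup G} {x : G} {hx : ∀ y ∈ K, cj x y ∈ K} {hx2 : x * x ∈ K} {g : G} :
    g ∈ extTwo K x hx hx2 ↔ g ∈ K ∨ x⁻¹ * g ∈ K := Iff.rfl

theorem le_extTwo {K : Subgroup G} {x : G} {hx : ∀ y ∈ K, cj x y ∈ K} {hx2 : x * x ∈ K} :
    K ≤ extTwo K x hx hx2 := fun _ hg => Or.inl hg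

theorem self_mem_extTwo {K : Subgroup G} {x : G} {hx : ∀ y ∈ K, cj x y ∈ K} {hx2 : x * x ∈ K} :
    x ∈ extTwo K x hx hx2 := Or.inr (by rw [inv_mul_cancel]; exact one_mem K)

theorem card_extTwo [Finite G] {K : Subgroup G} {x : G} {hx : ∀ y ∈ K, cj x y ∈ K} {hx2 : x * x ∈ K}
    (hn : x ∉ K) : Nat.card (extTwo K x hx hx2) = 2 * Nat.card K := by
  let f : K ⊕ K → extTwo K x hx hx2 := Sum.elim (fun y => ⟨y, Or.inl y.2⟩)
    (fun y => ⟨x * y, Or.inr (by rw [inv_mul_cancel_left]; exact y.2)⟩)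
  have hb : Function.Bijective f := by
    constructor
    · rintro (y | y) (y' | y') e <;> have e' := congrArg Subtype.val e <;>
        simp only [f, Sum.elim_inl, Sum.elim_inr] at e'
      · exact congrArg Sum.inl (Subtype.ext e')
      · exact absurd ((mul_mem_cancel_right y'.2).1 (e' ▸ y.2)) hn
      · exact absurd ((mul_mem_cancel_right y.2).1 (e'.symm ▸ y'.2)) hn
      · exact congrArg Sum.inr (Subtype.ext (mul_left_cancel e'))
    · rintro ⟨g, hg⟩
      rcases hg with hg | hg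
      · exact ⟨Sum.inl ⟨g, hg⟩, rfl⟩
      · exact ⟨Sum.inr ⟨x⁻¹ * g, hg⟩, Subtype.ext (mul_inv_cancel_left x g)⟩
  rw [← Nat.card_congr (Equiv.ofBijective f hb), Nat.card_sum]
  omega

/-- Subgroups containing the generators contain all values of a model. -/
theorem El.ev_mem {S : Subgroup G} {x1 x2 x3 x4 x5 u z : G} (e : El)
    (h1 : e.b1 = true → x1 ∈ S) (h2 : e.b2 = true → x2 ∈ S) (h3 : e.b3 = true → x3 ∈ S)
    (h4 : e.b4 = true → x4 ∈ S) (h5 : e.b5 = true → x5 ∈ S) (hu : u ∈ S) (hz : z ∈ S) :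
    e.ev x1 x2 x3 x4 x5 u z ∈ S := by
  have H : ∀ (x : G) (b : Bool), (b = true → x ∈ S) → pw x b ∈ S := fun x b hb => by
    cases b
    · exact one_mem S
    · exact hb rfl
  exact mul_mem (mul_mem (H _ _ h1) (mul_mem (H _ _ h2) (mul_mem (H _ _ h3) (mul_mem (H _ _ h4) (H _ _ h5)))))
    (mul_mem (H _ _ fun _ => hu) (H _ _ fun _ => hz))

variable {t u z a k : G}

namespace Hyp

variable [Finite G] (h : Hyp t u z a k) (h4 : Four t u z)
include h h4

omit h4 in
theorem conj_sq {y : G} (hy : IsConj t y) : y * y = 1 := by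
  obtain ⟨g, rfl⟩ := isConj_iff_cj.1 hy
  rw [← cj_mul, h.t2, cj_one]

/-- The translations of conjugates of `t` in `Q`. -/
def _root_.Cfsg.Agent.TwoTimesSym.transSet (t u z a : G) : Set G :=
  {c | ∃ y ∈ qG t u z a, IsConj t y ∧ cj y t = c}

theorem card_conjIn_Q_of (C : Set G) :
    Nat.card {y | y ∈ qG t u z a ∧ IsConj t y ∧ cj y t ∈ C} =
      8 * Nat.card (transSet t u z a ∩ C : Set G) := by
  classical
  choose w hwQ hwc hwt using fun c : (transSet t u z a ∩ C : Set G) => c.2.1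
  have hAt : ∀ v ∈ aG u z a, cj v t = t := fun v hv =>
    cj_eq_self.2 (mem_cent.1 (h.T_le_cent (h.E1_le (h.A_le_E1 hv))))
  have hsw : ∀ (c : (transSet t u z a ∩ C : Set G)) (v : aG u z a), cj (w c * (v : G)) t = c := fun c v => by
    rw [h.Q_comm_A h4 (hwQ c) v.2, ← cj_cj, hAt v v.2, hwt]
  let f : aG u z a × (transSet t u z a ∩ C : Set G) → {y | y ∈ qG t u z a ∧ IsConj t y ∧ cj y t ∈ C} :=
    fun p => ⟨w p.2 * p.1, (h.QC_mul h4 (hwQ p.2) (hwc p.2) p.1.2).1,
      (h.QC_mul h4 (hwQ p.2) (hwc p.2) p.1.2).2, by rw [hsw]; exact p.2.2.2⟩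
  have hb : Function.Bijective f := by
    constructor
    · rintro ⟨v, c⟩ ⟨v', c'⟩ e
      have e' : w c * (v : G) = w c' * (v' : G) := congrArg Subtype.val e
      have hc : c = c' := by
        apply Subtype.ext
        rw [← hsw c v, e', hsw]
      subst hc
      exact Prod.ext (Subtype.ext (mul_left_cancel e')) rfl
    · rintro ⟨y, hyQ, hyc, hyC⟩
      let c : (transSet t u z a ∩ C : Set G) := ⟨cj y t, ⟨y, hyQ, hyc, rfl⟩, hyC⟩
      have hE : y * (w c)⁻¹ ∈ eG t u z a := by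
        rw [← h.Q_inf_cent]
        refine mem_inf.2 ⟨mul_mem hyQ (inv_mem (hwQ c)), mem_cent.2 (cj_eq_self.1 ?_)⟩
        rw [← cj_cj]
        exact cj_inv_left (hwt c)
      have hA : y * (w c)⁻¹ ∈ aG u z a := h.mem_A_of_not_conj h4 hE fun hec => by
        have h1 := h.conj_sq hec
        have h2 := h.conj_sq (hwc c)
        have h3 := h.conj_sq hyc
        have hyw : y * (w c)⁻¹ * w c = y := inv_mul_cancel_right y (w c)
        have hcomm : y * (w c)⁻¹ * w c = w c * (y * (w c)⁻¹) := by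
          calc y * (w c)⁻¹ * w c = y := hyw
            _ = (y * (w c)⁻¹ * w c)⁻¹ := by rw [hyw]; exact eq_inv_of_mul_eq_one_left h3
            _ = (w c)⁻¹ * (y * (w c)⁻¹)⁻¹ := mul_inv_rev _ _
            _ = w c * (y * (w c)⁻¹) := by
              rw [inv_eq_of_mul_eq_one_right h1, inv_eq_of_mul_eq_one_right h2]
        have := h.chi_mul h4 h1 h2 hcomm
        rw [hyw] at this
        exact this.1 hyc ⟨fun _ => hwc c, fun _ => hec⟩
      refine ⟨(⟨_, hA⟩, c), Subtype.ext ?_⟩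
      show w c * (y * (w c)⁻¹) = y
      rw [h.Q_comm_A h4 (hwQ c) hA, inv_mul_cancel_right]
  rw [← Nat.card_congr (Equiv.ofBijective f hb), Nat.card_prod, h.card_A h4]

theorem card_conjIn_Q :
    Nat.card (conjIn t (qG t u z a : Set G)) = 8 * Nat.card (transSet t u z a) := by
  have := h.card_conjIn_Q_of h4 Set.univ
  rw [Set.inter_univ] at this
  rw [← this]
  exact Nat.card_congr (Equiv.subtypeEquivRight fun y =>
    ⟨fun hy => ⟨hy.1, hy.2, trivial⟩, fun hy => ⟨hy.1, hy.2.1⟩⟩)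

end Hyp

end Cfsg.Agent.TwoTimesSym
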