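import Cfsg.Agent.TwoTimesSym.CycleModel
import Cfsg.Agent.TwoTimesSym.QCount

/-!
When `s` exists: the orbit of `t` under `N(E)` has length four and `Q` has order `64`.
-/

set_option autoImplicit false

namespace Cfsg.Agent.TwoTimesSym

open Subgroup

variable {G : Type*} [Group G] {t u z a k s : G}

namespace Hyp

variable [Finite G] (h : Hyp t u z a k) (h4 : Four t u z) (hc : Cyc t u z a k s)
include h h4 hc

theorem cyc_r_N1 : s * s ∈ nrm (eG t u z a) := h.mul_mem_N1 hc.memL hc.memL hc.notN hc.notN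

theorem cyc_r_Q : s * s ∈ qG t u z a := by
  obtain ⟨-, -, hru, hrz⟩ := h.cyc_vals h4 hc
  exact mem_qG.2 ⟨h.cyc_r_N1 h4 hc, hru, hrz, hc.fa⟩

theorem cyc_orb1_cen (e i j : Bool) :
    (TEl.cen e i j).ev t u z a k ∈ orb (nrm (eG t u z a)) t ↔ (e && !i) = true := by
  obtain ⟨-, hs2t, -, -⟩ := h.cyc_vals h4 hc
  constructor
  · intro hy
    obtain ⟨l, hl, hle⟩ := h.orb1_adjust hy
    obtain ⟨hlN, hlL⟩ := mem_inf.1 hl
    have he := (h.conj_cen_iff h4 e i j).1 (isConj_iff_cj.2 ⟨l, hle⟩)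
    subst he
    cases i with
    | false => rfl
    | true =>
      exfalso
      cases j with
      | false =>
        rw [show (TEl.cen true true false).ev t u z a k = t * u by simp [Frame.ev_cen, pz]] at hle
        have hT := h.cj_fix_of_T (mul_mem hlL (inv_mem hc.memL))
          (by rw [← cj_cj, hle, cj_inv_left hc.st])
        exact hc.notN (inv_mem_iff.1 ((mul_mem_cancel_left hlN).1 (h.T_le_N1 hT)))
      | true =>
        rw [show (TEl.cen true true true).ev t u z a k = t * (u * z) by simp [Frame.ev_cen, pz]] at hle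
        have hls : cj (l * s) t = t := by
          rw [← cj_cj, hle, cj_mul, hc.st, cj_mul, hc.su, h.cj_z hc.memL,
            show t * u * (u * z * z) = t * (u * u) * (z * z) by group, h.u2, h.z2, mul_one, mul_one]
        exact hc.notN ((mul_mem_cancel_left hlN).1 (h.T_le_N1 (h.cj_fix_of_T (mul_mem hlL hc.memL) hls)))
  · intro hei
    cases e <;> cases i <;> simp at hei
    cases j
    · rw [Frame.ev_t]; exact self_mem_orb _ t
    · exact ⟨s * s, h.cyc_r_N1 h4 hc, by rw [hs2t]; simp [Frame.ev_cen, pz]⟩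

theorem cyc_orb1 {y : G} : y ∈ orb (nrm (eG t u z a)) t ↔
    ∃ p j, (⟨true, p, false, (p, j)⟩ : TEl).ev t u z a k = y := by
  constructor
  · intro hy
    obtain ⟨⟨e, p, q, i, j⟩, hX, rfl⟩ := h.toFrame.mem_E1.1 (h.orb1_mem hy)
    obtain rfl : q = false := hX
    rw [h.orb1_iff rfl, h.cyc_orb1_cen h4 hc] at hy
    refine ⟨p, j, ?_⟩
    have key : ∀ e p i j, ((⟨e, p, false, (i, j)⟩ : TEl).rho.1 &&
        !(⟨e, p, false, (i, j)⟩ : TEl).rho.2.1) = true → e = true ∧ i = p := by decide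
    obtain ⟨rfl, rfl⟩ := key e p i j hy
    rfl
  · rintro ⟨p, j, rfl⟩
    rw [h.orb1_iff rfl, h.cyc_orb1_cen h4 hc]
    revert p j
    decide

theorem cyc_card_orb1 : Nat.card (orb (nrm (eG t u z a)) t) = 4 := by
  let f : Bool × Bool → orb (nrm (eG t u z a)) t := fun p =>
    ⟨(⟨true, p.1, false, (p.1, p.2)⟩ : TEl).ev t u z a k, (h.cyc_orb1 h4 hc).2 ⟨p.1, p.2, rfl⟩⟩
  have hb : Function.Bijective f := by
    refine ⟨fun p q e => ?_, fun ⟨y, hy⟩ => ?_⟩
    · have := h.ev_inj.1 (congrArg Subtype.val e)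
      simp only [TEl.mk.injEq, Prod.mk.injEq] at this
      exact Prod.ext this.2.1 this.2.2.2.2
    · obtain ⟨p, j, he⟩ := (h.cyc_orb1 h4 hc).1 hy
      exact ⟨(p, j), Subtype.ext he⟩
  rw [← Nat.card_congr (Equiv.ofBijective f hb), Nat.card_eq_fintype_card]
  rfl

theorem cyc_N2_card : Nat.card (nrm (eG t u z k)) = Nat.card (nrm (eG t u z a)) := by
  rcases h.E_perm hc.memL with ⟨e1, -⟩ | ⟨e1, -⟩
  · exact absurd (mem_nrm_of_cjS e1) hc.notN
  · rw [← e1, nrm_cjS, card_cjS]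

/-- Translations occurring in `Q`. -/
theorem cyc_trans {g : G} (hg : g ∈ nrm (eG t u z a)) (hgt : cj g t = t) {y : G}
    (hy : y ∈ qG t u z a) : cj g y ∈ qG t u z a ∧ cj (cj g y) t = cj g (cj y t) := by
  refine ⟨h.Q_conj h4 hg hy, ?_⟩
  rw [show cj g y = g⁻¹ * y * g from rfl, ← cj_cj, ← cj_cj, cj_inv_left hgt]

theorem cyc_orbQ : orb (qG t u z a) t = orb (nrm (eG t u z a)) t := by
  refine Set.Subset.antisymm (fun y ⟨g, hg, e⟩ => ⟨g, (mem_qG.1 hg).1, e⟩) fun y hy => ?_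
  obtain ⟨w, hw, e1, e2, e3⟩ := h.exists_w1
  obtain ⟨hwN, hwC⟩ := mem_inf.1 hw
  have hwt : cj w t = t := cj_eq_self.2 (mem_cent.1 hwC)
  obtain ⟨-, hrt, -, -⟩ := h.cyc_vals h4 hc
  have hr := h.cyc_r_Q h4 hc
  have htz : cj (s * s) t = (TEl.cen true false true).ev t u z a k := by
    rw [hrt]; simp [Frame.ev_cen, pz]
  obtain ⟨q1, r1⟩ := h.cyc_trans h4 hc hwN hwt hr
  obtain ⟨q2, r2⟩ := h.cyc_trans h4 hc hwN hwt q1
  obtain ⟨p, j, rfl⟩ := (h.cyc_orb1 h4 hc).1 hy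
  rw [htz, h.w1_cj hwt e1 e2 e3 _ rfl] at r1
  rw [r1, h.w1_cj hwt e1 e2 e3 _ rfl] at r2
  simp only [TEl.cen] at r1 r2
  cases p <;> cases j
  · exact ⟨1, one_mem _, by rw [cj_by_one]; exact Frame.ev_t.symm⟩
  · exact ⟨s * s, hr, htz⟩
  · exact ⟨_, q2, r2⟩
  · exact ⟨_, q1, r1⟩

theorem cyc_card_Q : Nat.card (qG t u z a) = 64 := by
  rw [h.card_Q, h.cyc_orbQ h4 hc, h.cyc_card_orb1 h4 hc]

theorem cyc_k_notQ : k ∉ qG t u z a := fun hm =>
  h.ak_ne (cj_eq_self.1 (mem_qG.1 hm).2.2.2).symm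

/-- Membership of values of the model of `R₀`. -/
theorem rEv_mem {S : Subgroup G} (x : TEl × Bool) (ht : t ∈ S) (hu : u ∈ S) (hz : z ∈ S) (ha : a ∈ S)
    (hk : x.1.q = true → k ∈ S) (hr : s * s ∈ S) : rEv x t u z a k (s * s) ∈ S :=
  El.ev_mem _ (fun _ => ht) (fun _ => ha) hk (fun _ => hr) (fun _ => one_mem S) hu hz

theorem rEv_mem_Q_iff (x : TEl × Bool) :
    rEv x t u z a k (s * s) ∈ qG t u z a ↔ x.1.q = false := by
  have hm : ∀ v ∈ ({t, u, z, a} : Set G), v ∈ qG t u z a := fun v hv => h.E1_le_Q (subset_closure hv)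
  constructor
  · intro hx
    by_contra hq
    simp only [Bool.not_eq_false] at hq
    obtain ⟨⟨e, p, q, c⟩, b⟩ := x
    simp only at hq
    subst hq
    have e0 : rEv ((⟨e, p, true, c⟩ : TEl), b) t u z a k (s * s) =
        pw t e * (pw a p * (k * pw (s * s) b)) * pz u z c := by
      simp [rEv, TEl.emb, El.ev]
    rw [e0] at hx
    have hmq : ∀ (v : G) (b : Bool), v ∈ qG t u z a → pw v b ∈ qG t u z a := fun v b hv => by
      cases b
      · exact one_mem _
      · exact hv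
    apply h.cyc_k_notQ h4 hc
    rw [mul_mem_cancel_right (show pz u z c ∈ qG t u z a from
      mul_mem (hmq _ _ (hm u (by simp))) (hmq _ _ (hm z (by simp)))),
      mul_mem_cancel_left (hmq t _ (hm t (by simp))), mul_mem_cancel_left (hmq a _ (hm a (by simp))),
      mul_mem_cancel_right (hmq _ _ (h.cyc_r_Q h4 hc))] at hx
    exact hx
  · intro hq
    exact h.rEv_mem h4 hc x (hm t (by simp)) (hm u (by simp)) (hm z (by simp)) (hm a (by simp))
      (fun e => by simp [hq] at e) (h.cyc_r_Q h4 hc)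

end Hyp

end Cfsg.Agent.TwoTimesSym
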