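import Cfsg.Agent.TwoTimesSym.CycleSetup

/-!
The group `R₀ = T⟨s²⟩` of order `64` and its involutions conjugate to `t`.
-/

set_option autoImplicit false

namespace Cfsg.Agent.TwoTimesSym

open Subgroup

variable {G : Type*} [Group G] {t u z a k s : G}

/-- The model of `R₀ = ⟨t, u, z, a, k, r⟩`, with `r² = z^ρ`. -/
def rData (ρ : Bool) : CData :=
  { tData with q4 := (false, ρ), k41 := (false, true) }

/-- A normal form in `R₀`. -/
def TEl.emb (x : TEl) (b : Bool) : El := ⟨x.e, x.p, x.q, b, false, x.c⟩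

/-- The product in the model of `R₀`. -/
def rMul (ρ : Bool) (x y : TEl × Bool) : TEl × Bool :=
  (⟨xor x.1.e y.1.e, xor x.1.p y.1.p, xor x.1.q y.1.q,
    ((rData ρ).mul (x.1.emb x.2) (y.1.emb y.2)).c⟩, xor x.2 y.2)

theorem rMul_emb (ρ : Bool) (x y : TEl × Bool) :
    (rMul ρ x y).1.emb (rMul ρ x y).2 = (rData ρ).mul (x.1.emb x.2) (y.1.emb y.2) := by
  simp [rMul, TEl.emb, CData.mul]

/-- Evaluation of a normal form of `R₀`. -/
def rEv (x : TEl × Bool) (t u z a k r : G) : G := (x.1.emb x.2).ev t a k r 1 u z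

namespace Hyp

variable [Finite G] (h : Hyp t u z a k) (h4 : Four t u z) (hc : Cyc t u z a k s)
include h h4 hc

theorem cyc_vals : cj s z = z ∧ cj (s * s) t = t * z ∧ cj (s * s) u = u ∧ cj (s * s) z = z := by
  have hsz := h.cj_z hc.memL
  have hzz : u * z * z = u := by rw [mul_assoc, h.z2, mul_one]
  refine ⟨hsz, ?_, ?_, h.cj_z (mul_mem hc.memL hc.memL)⟩
  · rw [← cj_cj, hc.st, cj_mul, hc.st, hc.su, show t * u * (u * z) = t * (u * u) * z by group, h.u2, mul_one]
  · rw [← cj_cj, hc.su, cj_mul, hc.su, hsz, hzz]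

theorem exists_rho : ∃ ρ : Bool, s * s * (s * s) = pw z ρ := by
  obtain ⟨hsz, hrt, hru, hrz⟩ := h.cyc_vals h4 hc
  have hzz : t * z * z = t := by rw [mul_assoc, h.z2, mul_one]
  have hfix : cj (s * s * (s * s)) t = t := by rw [← cj_cj, hrt, cj_mul, hrt, hrz, hzz]
  have hT := h.cj_fix_of_T (mul_mem (mul_mem hc.memL hc.memL) (mul_mem hc.memL hc.memL)) hfix
  have hca : cj (s * s * (s * s)) a = a := by rw [← cj_cj, hc.fa, hc.fa]
  have hck : cj (s * s * (s * s)) k = k := by rw [← cj_cj, hc.fk, hc.fk]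
  obtain ⟨e, i, j, he⟩ := h.center_T hT (cj_eq_self.1 hca) (cj_eq_self.1 hck)
  have hs : cj s ((TEl.cen e i j).ev t u z a k) = (TEl.cen e i j).ev t u z a k := by
    rw [he, cj_eq_self]; group
  have h2 : cj s ((TEl.cen e i j).ev t u z a k) = (TEl.cen e (xor i e) (xor j i)).ev t u z a k := by
    have f : ∀ e i j, (TEl.cen e i j).ev t u z a k = pw t e * (pw u i * pw z j) := fun e i j => by
      simp [Frame.ev_cen, pz]
    rw [f, f, cj_mul, cj_mul,
      show ∀ b, cj s (pw t b) = pw (cj s t) b from fun b => by cases b <;> simp,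
      show ∀ b, cj s (pw u b) = pw (cj s u) b from fun b => by cases b <;> simp,
      show ∀ b, cj s (pw z b) = pw (cj s z) b from fun b => by cases b <;> simp, hc.st, hc.su, hsz]
    have uu : ∀ y, u * (u * y) = y := fun y => by rw [← mul_assoc, h.u2, one_mul]
    cases e <;> cases i <;> cases j <;> simp [mul_assoc, h.z2, h.u2, uu]
  rw [hs] at h2
  have := h.ev_inj.1 h2
  simp only [TEl.cen, TEl.mk.injEq, Prod.mk.injEq, true_and] at this
  obtain ⟨h1, h3⟩ := this
  obtain rfl : e = false := by revert h1; cases e <;> cases i <;> simp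
  obtain rfl : i = false := by revert h3; cases i <;> cases j <;> simp
  exact ⟨j, by rw [← he]; simp [Frame.ev_cen, pz]⟩

variable {ρ : Bool} (hρ : s * s * (s * s) = pw z ρ)
include hρ

theorem real_R0 : CReal (rData ρ) t a k (s * s) 1 u z where
  hu := h.u2
  hz := h.z2
  huz := h.zu
  cu1 := h.tu
  cu2 := h.ua
  cu3 := h.uk
  cu4 := (cj_eq_self.1 (h.cyc_vals h4 hc).2.2.1).symm
  cu5 := by simp
  cz1 := h.tz
  cz2 := h.za
  cz3 := h.zk
  cz4 := (cj_eq_self.1 (h.cyc_vals h4 hc).2.2.2).symm
  cz5 := by simp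
  s1 := by simp [rData, tData, pz_one, h.t2]
  s2 := by simp [rData, tData, pz_one, h.a2]
  s3 := by simp [rData, tData, pz_one, h.k2]
  s4 := by simp [rData, pz, hρ]
  s5 := by simp [rData, tData, pz_one]
  w21 := by simp [rData, tData, pz_one, h.ta]
  w31 := by simp [rData, tData, pz_one, h.tk]
  w41 := by
    obtain ⟨hsz, hrt, hru, hrz⟩ := h.cyc_vals h4 hc
    have e : t * (s * s) = s * s * (t * z) := by rw [← hrt, cj]; group
    calc s * s * t = s * s * (t * z) * z := by
          rw [show s * s * (t * z) * z = s * s * t * (z * z) by group, h.z2, mul_one]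
      _ = t * (s * s) * z := by rw [e]
      _ = _ := by simp [rData, pz]
  w51 := by simp [rData, tData, pz_one]
  w32 := by simp [rData, tData, pz, h.ka]
  w42 := by simp [rData, tData, pz_one, cj_eq_self.1 hc.fa]
  w52 := by simp [rData, tData, pz_one]
  w43 := by simp [rData, tData, pz_one, cj_eq_self.1 hc.fk]
  w53 := by simp [rData, tData, pz_one]
  w54 := by simp [rData, tData, pz_one]

theorem rEv_mul (x y : TEl × Bool) :
    rEv (rMul ρ x y) t u z a k (s * s) = rEv x t u z a k (s * s) * rEv y t u z a k (s * s) := by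
  unfold rEv
  rw [rMul_emb, (h.real_R0 h4 hc hρ).ev_mul]

omit h h4 hc hρ [Finite G] in
theorem rEv_T (x : TEl) (r : G) : rEv (x, false) t u z a k r = x.ev t u z a k := by
  simp [rEv, TEl.emb, TEl.ev, El.ev]

omit hρ in
theorem sq_notMem_T : s * s ∉ tG t u z a k := fun hm => by
  obtain ⟨-, hrt, -, -⟩ := h.cyc_vals h4 hc
  rw [cj_eq_self.2 (mem_cent.1 (h.T_le_cent hm))] at hrt
  exact h.z_ne_one (mul_eq_left.1 hrt.symm)

theorem rEv_injective : Function.Injective fun x : TEl × Bool => rEv x t u z a k (s * s) := by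
  intro x y e
  simp only at e
  by_contra hne
  obtain ⟨X, bx⟩ := x
  obtain ⟨Y, bY⟩ := y
  have hsplit : ∀ (X : TEl) (b : Bool), ∃ X' : TEl,
      rEv (X, b) t u z a k (s * s) = X'.ev t u z a k * pw (s * s) b := by
    intro X b
    refine ⟨X, ?_⟩
    obtain ⟨e1, e2, e3, e4, e5⟩ := X
    have hcz : pw (s * s) b * pz u z (e4, e5) = pz u z (e4, e5) * pw (s * s) b :=
      ((h.real_R0 h4 hc hρ).cz_pw4 b (e4, e5)).symm
    simp only [rEv, TEl.emb, TEl.ev, El.ev, pw_false, mul_one]
    simp only [← mul_assoc] at hcz ⊢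
    rw [mul_assoc _ (pw (s * s) b) (pz u z _), hcz, ← mul_assoc]
  by_cases hb : bx = bY
  · subst hb
    have hval : ∀ X : TEl, rEv (X, bx) t u z a k (s * s) = X.ev t u z a k * pw (s * s) bx := by
      intro X
      obtain ⟨e1, e2, e3, e4, e5⟩ := X
      have hcz : pw (s * s) bx * pz u z (e4, e5) = pz u z (e4, e5) * pw (s * s) bx :=
        ((h.real_R0 h4 hc hρ).cz_pw4 bx (e4, e5)).symm
      simp only [rEv, TEl.emb, TEl.ev, El.ev, pw_false, mul_one]
      simp only [← mul_assoc] at hcz ⊢
      rw [mul_assoc _ (pw (s * s) bx) (pz u z _), hcz, ← mul_assoc]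
    rw [hval, hval] at e
    exact hne (by rw [h.ev_inj.1 (mul_right_cancel e)])
  · obtain ⟨X', hX'⟩ := hsplit X bx
    obtain ⟨Y', hY'⟩ := hsplit Y bY
    rw [hX', hY'] at e
    apply h.sq_notMem_T h4 hc
    cases bx <;> cases bY <;> simp at hb e
    · rw [show s * s = (Y'.ev t u z a k)⁻¹ * X'.ev t u z a k by rw [e]; group]
      exact mul_mem (inv_mem (h.ev_mem _)) (h.ev_mem _)
    · rw [show s * s = (X'.ev t u z a k)⁻¹ * Y'.ev t u z a k by rw [← e]; group]
      exact mul_mem (inv_mem (h.ev_mem _)) (h.ev_mem _)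

/-- The group `R₀`. -/
theorem mem_R0 {g : G} : g ∈ (h.real_R0 h4 hc hρ).range ↔ ∃ x, rEv x t u z a k (s * s) = g := by
  rw [CReal.mem_range]
  constructor
  · rintro ⟨⟨b1, b2, b3, b4, b5, c⟩, rfl⟩
    exact ⟨(⟨b1, b2, b3, c⟩, b4), by simp [rEv, TEl.emb, El.ev]; cases b5 <;> simp⟩
  · rintro ⟨x, rfl⟩
    exact ⟨x.1.emb x.2, rfl⟩

theorem card_R0 : Nat.card (h.real_R0 h4 hc hρ).range = 64 := by
  let e : TEl × Bool ≃ (h.real_R0 h4 hc hρ).range :=
    Equiv.ofBijective (fun x => ⟨rEv x t u z a k (s * s), (h.mem_R0 h4 hc hρ).2 ⟨x, rfl⟩⟩)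
      ⟨fun x y e => h.rEv_injective h4 hc hρ (congrArg Subtype.val e), fun g => by
        obtain ⟨x, hx⟩ := (h.mem_R0 h4 hc hρ).1 g.2
        exact ⟨x, Subtype.ext hx⟩⟩
  rw [← Nat.card_congr e, Nat.card_eq_fintype_card]
  rfl

omit hρ in
/-- An element with a centraliser of order at least `64` in `L` is not conjugate to `t`. -/
theorem not_conj_of_cent {y sg : G} (hy : cj sg y = y) (hs : sg ∈ nrm (tG t u z a k))
    (hst : cj sg t = t * u) (hsu : cj sg u = u * z) {D : TEl → TEl}
    (hD : ∀ x : TEl, x.e = false → cj ((D x).ev t u z a k) y = y)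
    (hDinj : ∀ x x' : TEl, x.e = false → x'.e = false → D x = D x' → x = x') : ¬ IsConj t y := by
  intro hcy
  set L := nrm (tG t u z a k)
  set P := L ⊓ centralizer ({y} : Set G)
  have hP : IsPGroup 2 P := (h.isPGroup_L h4).to_le inf_le_left
  have h32 := h.card_le_32 hcy hP inf_le_right
  have hmem : ∀ (i : Fin 4) (x : {x : TEl // x.e = false}), sg ^ (i : ℕ) * (D x.1).ev t u z a k ∈ P := by
    intro i x
    refine mem_inf.2 ⟨mul_mem (pow_mem hs _) (Subgroup.le_normalizer (h.ev_mem _)), mul_mem ?_ ?_⟩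
    · exact pow_mem (mem_cent.2 (cj_eq_self.1 hy)) _
    · exact mem_cent.2 (cj_eq_self.1 (hD x.1 x.2))
  let f : Fin 4 × {x : TEl // x.e = false} → P := fun p => ⟨_, hmem p.1 p.2⟩
  have hpow : ∀ i : Fin 4, cj (sg ^ (i : ℕ)) t =
      (![t, t * u, t * z, t * (u * z)] : Fin 4 → G) i := by
    have hsz := h.cj_z hs
    have hzz : u * z * z = u := by rw [mul_assoc, h.z2, mul_one]
    have e2 : cj (sg * sg) t = t * z := by
      rw [← cj_cj, hst, cj_mul, hst, hsu, show t * u * (u * z) = t * (u * u) * z by group, h.u2, mul_one]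
    intro i
    fin_cases i
    · simp
    · simp [hst]
    · simp [pow_two, e2]
    · simp only [pow_succ, pow_zero, one_mul]
      rw [← cj_cj, e2, cj_mul, hst, hsz]
      simp [mul_assoc]
  have hinj : Function.Injective f := by
    rintro ⟨i, x⟩ ⟨j, x'⟩ e
    have e' : sg ^ (i : ℕ) * (D x.1).ev t u z a k = sg ^ (j : ℕ) * (D x'.1).ev t u z a k :=
      congrArg Subtype.val e
    have ht : cj (sg ^ (i : ℕ)) t = cj (sg ^ (j : ℕ)) t := by
      have hfix : ∀ X : TEl, ∀ y : G, (∃ c : TEl, c.p = false ∧ c.q = false ∧ c.ev t u z a k = y) →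
          cj (X.ev t u z a k) y = y := by
        rintro X _ ⟨⟨e, p, q, i, j⟩, rfl, rfl, rfl⟩
        exact cj_eq_self.2 (h.cen_comm e i j (h.ev_mem X))
      have hcen : ∀ i : Fin 4, ∃ c : TEl, c.p = false ∧ c.q = false ∧ c.ev t u z a k = cj (sg ^ (i : ℕ)) t := by
        intro i
        rw [hpow i]
        fin_cases i
        · exact ⟨TEl.cen true false false, rfl, rfl, Frame.ev_t⟩
        · exact ⟨TEl.cen true true false, rfl, rfl, by simp [Frame.ev_cen, pz]⟩
        · exact ⟨TEl.cen true false true, rfl, rfl, by simp [Frame.ev_cen, pz]⟩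
        · exact ⟨TEl.cen true true true, rfl, rfl, by simp [Frame.ev_cen, pz]⟩
      rw [← hfix (D x.1) _ (hcen i), cj_cj, e', ← cj_cj, hfix (D x'.1) _ (hcen j)]
    rw [hpow, hpow] at ht
    have hij : i = j := by
      have eT : ∀ i : Fin 4, (![t, t * u, t * z, t * (u * z)] : Fin 4 → G) i =
          ((![TEl.cen true false false, TEl.cen true true false, TEl.cen true false true,
            TEl.cen true true true] : Fin 4 → TEl) i).ev t u z a k := by
        intro i; fin_cases i <;> simp [Frame.ev_cen, pz]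
      rw [eT, eT] at ht
      have key : ∀ i j : Fin 4, (![TEl.cen true false false, TEl.cen true true false, TEl.cen true false true,
            TEl.cen true true true] : Fin 4 → TEl) i = (![TEl.cen true false false, TEl.cen true true false,
            TEl.cen true false true, TEl.cen true true true] : Fin 4 → TEl) j → i = j := by decide
      exact key _ _ (h.ev_inj.1 ht)
    subst hij
    exact Prod.ext rfl (Subtype.ext (hDinj _ _ x.2 x'.2 (h.ev_inj.1 (mul_left_cancel e'))))
  have := Nat.card_le_card_of_injective f hinj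
  rw [Nat.card_prod, Nat.card_eq_fintype_card, Nat.card_eq_fintype_card, Fintype.card_fin,
    show Fintype.card {x : TEl // x.e = false} = 16 from rfl] at this
  omega

theorem base_not_conj :
    ¬ IsConj t (rEv (⟨false, ρ, ρ, (false, false)⟩, true) t u z a k (s * s)) := by
  have hsr : cj s (s * s) = s * s := cj_eq_self.2 (by group)
  cases ρ with
  | false =>
    have hy : rEv (⟨false, false, false, (false, false)⟩, true) t u z a k (s * s) = s * s := by
      simp [rEv, TEl.emb, El.ev, pz]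
    rw [hy]
    refine h.not_conj_of_cent h4 hc (sg := s) hsr hc.memL hc.st hc.su (D := id) ?_
      (fun _ _ _ _ e => e)
    intro x hx
    have hR := h.rEv_mul h4 hc hρ
    have c1 := hR (x, false) (⟨false, false, false, (false, false)⟩, true)
    have c2 := hR (⟨false, false, false, (false, false)⟩, true) (x, false)
    rw [hy, rEv_T] at c1 c2
    rw [cj_eq_self]
    show x.ev t u z a k * (s * s) = s * s * x.ev t u z a k
    rw [← c1, ← c2]
    congr 1
    clear c1 c2
    revert x
    decide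
  | true =>
    set y := rEv (⟨false, true, true, (false, false)⟩, true) t u z a k (s * s)
    have hy : y = a * k * (s * s) := by simp [y, rEv, TEl.emb, El.ev, pz, mul_assoc]
    obtain ⟨i, j, hsa⟩ := hc.sa
    have F := h.toFrame
    obtain ⟨hsz, hrt, hru, hrz⟩ := h.cyc_vals h4 hc
    have hsk : cj s k = (⟨false, true, false, (i, xor i j)⟩ : TEl).ev t u z a k := by
      have hk : k = cj s a * (TEl.cen false i j).ev t u z a k := by
        rw [hsa, ← F.ev_mul]
        conv_lhs => rw [← Frame.ev_k (t := t) (u := u) (z := z) (a := a) (k := k)]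
        congr 1
        clear hsa
        revert i j
        decide
      conv_lhs => arg 2; rw [hk]
      rw [cj_mul, cj_cj, hc.fa, Frame.ev_cen,
        show pz u z (i, j) = pw u i * pw z j from rfl, cj_mul, cj_mul,
        show ∀ b, cj s (pw u b) = pw (cj s u) b from fun b => by cases b <;> simp,
        show ∀ b, cj s (pw z b) = pw (cj s z) b from fun b => by cases b <;> simp, hc.su, hsz]
      cases i <;> cases j <;> simp [TEl.ev, El.ev, pz, mul_assoc, h.z2]
    obtain ⟨ε, hsy⟩ : ∃ ε : Bool, cj s y = y * pw z ε := by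
      refine ⟨!i, ?_⟩
      rw [hy, cj_mul, cj_mul, hsa, hsk, hsr, ← F.ev_mul]
      have e1 : a * k = (⟨false, true, true, (false, false)⟩ : TEl).ev t u z a k := by
        simp [TEl.ev, El.ev, pz]
      rw [e1, mul_assoc (TEl.ev _ _ _ _ _ _) (s * s) (pw z _),
        show s * s * pw z (!i) = pw z (!i) * (s * s) by cases i <;> simp [cj_eq_self.1 hrz],
        ← mul_assoc (TEl.ev _ _ _ _ _ _) (pw z _) (s * s),
        show pw z (!i) = (TEl.cen false false (!i)).ev t u z a k by cases i <;> simp [Frame.ev_cen, pz],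
        ← F.ev_mul]
      congr 2
      clear hsa hsk
      revert i j
      decide
    have hty : cj t y = y * z := by
      have hR := h.rEv_mul h4 hc hρ
      have ht : t = rEv (TEl.cen true false false, false) t u z a k (s * s) := by rw [rEv_T, Frame.ev_t]
      have hzr : z = rEv (TEl.cen false false true, false) t u z a k (s * s) := by rw [rEv_T, Frame.ev_z]
      rw [cj, inv_eq_of_mul_eq_one_right h.t2]
      show t * y * t = y * z
      conv_lhs => rw [ht]
      conv_rhs => rw [hzr]
      rw [← hR, ← hR, ← hR]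
      congr 1
    refine h.not_conj_of_cent h4 hc (sg := s * pw t ε) ?_ ?_ ?_ ?_
      (D := fun x => ⟨xor x.p x.q, x.p, x.q, x.c⟩) ?_ ?_
    · rw [← cj_cj, hsy]
      cases ε
      · simp
      · simp only [pw_true, cj_mul, hty, cj_eq_self.2 h.tz.symm, mul_assoc, h.z2, mul_one]
    · cases ε
      · simpa using hc.memL
      · exact mul_mem hc.memL (Subgroup.le_normalizer h.t_mem)
    · rw [← cj_cj, hc.st]
      cases ε
      · simp
      · simp [cj_mul, cj_eq_self.2 (rfl : t * t = t * t), cj_eq_self.2 h.tu.symm]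
    · rw [← cj_cj, hc.su]
      cases ε
      · simp
      · simp [cj_mul, cj_eq_self.2 h.tu.symm, cj_eq_self.2 h.tz.symm]
    · intro x hx
      have hR := h.rEv_mul h4 hc hρ
      rw [cj_eq_self, ← rEv_T (t := t) (u := u) (z := z) (a := a) (k := k) _ (s * s), ← hR, ← hR]
      congr 1
      revert x
      decide
    · intro x x' hx hx' e
      obtain ⟨x1, x2, x3, x4⟩ := x
      obtain ⟨y1, y2, y3, y4⟩ := x'
      simp only [TEl.mk.injEq] at e hx hx' ⊢
      exact ⟨hx.trans hx'.symm, e.2.1, e.2.2.1, e.2.2.2⟩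

/-- The involutions of `R₀` conjugate to `t`. -/
theorem conj_R0_iff (x : TEl × Bool) (hx : rMul ρ x x = (TEl.one, false)) :
    IsConj t (rEv x t u z a k (s * s)) ↔ x.1.e = true := by
  have hR := h.rEv_mul h4 hc hρ
  have hT : ∀ X : TEl, (X.p && X.q) = false →
      (IsConj t (rEv (X, false) t u z a k (s * s)) ↔ X.e = true) := fun X hX => by
    rw [rEv_T]; exact h.conj_T_iff h4 X hX
  have hone : rEv (TEl.one, false) t u z a k (s * s) = 1 := by rw [rEv_T, Frame.ev_one]
  have step : ∀ B : TEl × Bool, rMul ρ B B = (TEl.one, false) →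
      (IsConj t (rEv B t u z a k (s * s)) ↔ B.1.e = true) → ∀ Y : TEl, (Y.p && Y.q) = false →
        rMul ρ B (Y, false) = rMul ρ (Y, false) B →
        (IsConj t (rEv (rMul ρ B (Y, false)) t u z a k (s * s)) ↔ (rMul ρ B (Y, false)).1.e = true) := by
    intro B hB hBc Y hY hcomm
    have key : ∀ ρ : Bool, ∀ Y : TEl, (Y.p && Y.q) = false → rMul ρ (Y, false) (Y, false) = (TEl.one, false) := by
      decide
    rw [hR, h.chi_mul h4 (by rw [← hR, hB, hone]) (by rw [← hR, key ρ Y hY, hone])
      (by rw [← hR, hcomm, hR]), hBc, hT Y hY]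
    simp only [rMul]
    cases B.1.e <;> cases Y.e <;> simp
  have hb1 : rMul ρ (⟨false, ρ, ρ, (false, false)⟩, true) (⟨false, ρ, ρ, (false, false)⟩, true) =
      (TEl.one, false) := by cases ρ <;> rfl
  have hc1 : IsConj t (rEv (⟨false, ρ, ρ, (false, false)⟩, true) t u z a k (s * s)) ↔ false = true := by
    simpa using h.base_not_conj h4 hc hρ
  have hdec : x.2 = false → (x.1.p && x.1.q) = false := by
    have : ∀ ρ : Bool, ∀ x : TEl × Bool, rMul ρ x x = (TEl.one, false) → x.2 = false →
        (x.1.p && x.1.q) = false := by decide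
    exact this ρ x hx
  by_cases hb : x.2 = false
  · obtain ⟨X, b⟩ := x
    obtain rfl : b = false := hb
    exact hT X (hdec rfl)
  · let Y0 : TEl := ⟨ρ, false, true, (false, false)⟩
    let B2 := rMul ρ (⟨false, ρ, ρ, (false, false)⟩, true) (Y0, false)
    have hB2 : rMul ρ B2 B2 = (TEl.one, false) := by cases ρ <;> rfl
    have hc2 : IsConj t (rEv B2 t u z a k (s * s)) ↔ B2.1.e = true :=
      step _ hb1 hc1 Y0 rfl (by cases ρ <;> rfl)
    have key : ∀ ρ : Bool, ∀ x : TEl × Bool, rMul ρ x x = (TEl.one, false) → x.2 = true →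
        ∃ Y : TEl, (Y.p && Y.q) = false ∧
          ((rMul ρ (⟨false, ρ, ρ, (false, false)⟩, true) (Y, false) = x ∧
            rMul ρ (⟨false, ρ, ρ, (false, false)⟩, true) (Y, false) =
              rMul ρ (Y, false) (⟨false, ρ, ρ, (false, false)⟩, true)) ∨
          (rMul ρ (rMul ρ (⟨false, ρ, ρ, (false, false)⟩, true) (⟨ρ, false, true, (false, false)⟩, false))
              (Y, false) = x ∧
            rMul ρ (rMul ρ (⟨false, ρ, ρ, (false, false)⟩, true) (⟨ρ, false, true, (false, false)⟩, false))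
              (Y, false) =
              rMul ρ (Y, false)
                (rMul ρ (⟨false, ρ, ρ, (false, false)⟩, true) (⟨ρ, false, true, (false, false)⟩, false)))) := by
      decide +kernel
    obtain ⟨Y, hY, ⟨e1, e2⟩ | ⟨e1, e2⟩⟩ := key ρ x hx (by simpa using hb)
    · rw [← e1]; exact step _ hb1 hc1 Y hY e2
    · rw [← e1]; exact step _ hB2 hc2 Y hY e2

end Hyp

end Cfsg.Agent.TwoTimesSym
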