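import Cfsg.Agent.TwoTimesSym.CycleCommon

/-!
The case `(s²)² = z`: forty conjugates of `t` in the group `Q⟨k⟩` of order `128`.
-/

set_option autoImplicit false

namespace Cfsg.Agent.TwoTimesSym

open Subgroup

variable {G : Type*} [Group G] {t u z a k s : G}

namespace Hyp

variable [Finite G] (h : Hyp t u z a k) (h4 : Four t u z) (hc : Cyc t u z a k s)
include h h4 hc

theorem case_cycle_one (hρ : s * s * (s * s) = pw z true) : ∃ K : Subgroup G, K.index = 2 := by
  classical
  have hR := h.rEv_mul h4 hc hρ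
  have hone : rEv (TEl.one, false) t u z a k (s * s) = 1 := by rw [rEv_T, Frame.ev_one]
  have F := h.toFrame
  set N := nrm (eG t u z a)
  set Q := qG t u z a
  have hr := h.cyc_r_Q h4 hc
  obtain ⟨-, hrt, -, -⟩ := h.cyc_vals h4 hc
  have hkN : k ∈ N := h.T_le_N1 h.k_mem
  have hkt : cj k t = t := cj_eq_self.2 h.tk
  -- a conjugate of `t` with translation `z`
  let y1 := rEv (TEl.cen true false false, true) t u z a k (s * s)
  have hy1c : IsConj t y1 := (h.conj_R0_iff h4 hc hρ _ rfl).2 rfl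
  have hy1 : y1 ∈ Q := (h.rEv_mem_Q_iff h4 hc _).2 rfl
  have hy1t : cj y1 t = (TEl.cen true false true).ev t u z a k := by
    have e0 : y1 = t * (s * s) := by simp [y1, rEv, TEl.emb, TEl.cen, El.ev, pz]
    rw [e0, ← cj_cj, cj_eq_self.2 (rfl : t * t = t * t), hrt]
    simp [Frame.ev_cen, pz]
  obtain ⟨w, hw, e1, e2, e3⟩ := h.exists_w1
  obtain ⟨hwN, hwC⟩ := mem_inf.1 hw
  have hwt : cj w t = t := cj_eq_self.2 (mem_cent.1 hwC)
  obtain ⟨q1, r1⟩ := h.cyc_trans h4 hc hwN hwt hy1
  obtain ⟨q2, r2⟩ := h.cyc_trans h4 hc hwN hwt q1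
  rw [hy1t, h.w1_cj hwt e1 e2 e3 _ rfl] at r1
  rw [r1, h.w1_cj hwt e1 e2 e3 _ rfl] at r2
  simp only [TEl.cen] at hy1t r1 r2
  have c1 : IsConj t (cj w y1) := hy1c.trans (isConj_cj w y1)
  have c2 : IsConj t (cj w (cj w y1)) := c1.trans (isConj_cj w _)
  -- all four translations occur
  have hT : transSet t u z a = orb N t := by
    refine Set.Subset.antisymm ?_ ?_
    · rintro c ⟨y, hy, -, rfl⟩
      exact ⟨y, (mem_qG.1 hy).1, rfl⟩
    · intro c hc'
      obtain ⟨p, j, rfl⟩ := (h.cyc_orb1 h4 hc).1 hc'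
      cases p <;> cases j
      · exact ⟨t, h.E1_le_Q (subset_closure (.inl rfl)), IsConj.refl t,
          (cj_eq_self.2 rfl).trans Frame.ev_t.symm⟩
      · exact ⟨y1, hy1, hy1c, hy1t⟩
      · exact ⟨_, q2, c2, r2⟩
      · exact ⟨_, q1, c1, r1⟩
  -- the index is divisible by four
  have hdvd : 4 * Nat.card N ∣ Nat.card G := by
    refine h.psi h4 (h.cyc_N2_card h4 hc) (by rw [h.cyc_orbQ h4 hc]) (V := orb N t)
      (fun y hy _ => ⟨y, (mem_qG.1 hy).1, rfl⟩) (le_of_eq (h.cyc_card_orb1 h4 hc))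
      (g2 := w) (g3 := w * w) hy1 hy1c hwN (mul_mem hwN hwN) rfl (cj_cj w w y1).symm ?_ ?_ ?_ ?_ ?_ ?_
    all_goals simp only [hy1t, r1, r2]
    all_goals first
      | exact fun e => absurd (h.ev_inj.1 (e.trans Frame.ev_t.symm)) (by decide)
      | exact fun e => absurd (h.ev_inj.1 e) (by decide)
  -- the group `P = Q⟨k⟩`
  let P := extTwo Q k (fun y hy => h.Q_conj h4 hkN hy) (by rw [h.k2]; exact one_mem _)
  have hP : Nat.card P = 128 := by rw [card_extTwo (h.cyc_k_notQ h4 hc), h.cyc_card_Q h4 hc]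
  let S : Finset (TEl × Bool) := Finset.univ.filter fun x =>
    x.1.q = true ∧ x.1.e = true ∧ rMul true x x = (TEl.one, false)
  have hset : conjIn t (P : Set G) =
      conjIn t (Q : Set G) ∪ (S.image fun x => rEv x t u z a k (s * s) : Set G) := by
    have hQP : ∀ v ∈ ({t, u, z, a} : Set G), v ∈ P := fun v hv =>
      le_extTwo (h.E1_le_Q (subset_closure hv))
    ext y
    simp only [mem_conjIn, SetLike.mem_coe, Set.mem_union, Finset.coe_image, Set.mem_image,
      Finset.mem_coe, S, Finset.mem_filter, Finset.mem_univ, true_and]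
    constructor
    · rintro ⟨hyP, hyc⟩
      by_cases hyQ : y ∈ Q
      · exact Or.inl ⟨hyQ, hyc⟩
      refine Or.inr ?_
      have hx : k⁻¹ * y ∈ Q := (mem_extTwo.1 hyP).resolve_left hyQ
      set x := k⁻¹ * y
      have hy : y = k * x := (mul_inv_cancel_left k y).symm
      obtain ⟨p, j, hpj⟩ : ∃ p j, (⟨true, p, false, (p, j)⟩ : TEl).ev t u z a k = cj x t :=
        (h.cyc_orb1 h4 hc).1 ⟨x, (mem_qG.1 hx).1, rfl⟩
      have hy2 : cj y (cj y t) = t := by rw [cj_cj, h.conj_sq hyc, cj_by_one]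
      have hyt : cj y t = (⟨true, p, false, (p, j)⟩ : TEl).ev t u z a k := by
        rw [hy, ← cj_cj, hkt, hpj]
      have hp : p = false := by
        by_contra hp
        simp only [Bool.not_eq_false] at hp
        subst hp
        have hA : (⟨false, true, false, (true, j)⟩ : TEl).ev t u z a k ∈ aG u z a :=
          h.mem_A.2 ⟨_, _, _, rfl⟩
        have hsplit : ∀ j, (⟨true, true, false, (true, j)⟩ : TEl).ev t u z a k =
            t * (⟨false, true, false, (true, j)⟩ : TEl).ev t u z a k := by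
          intro j
          nth_rw 2 [← Frame.ev_t (t := t) (u := u) (z := z) (a := a) (k := k)]
          rw [← F.ev_mul]
          congr 1
          clear * -
          revert j
          decide
        have hkv : cj k ((⟨false, true, false, (true, j)⟩ : TEl).ev t u z a k) =
            (⟨false, true, false, (true, !j)⟩ : TEl).ev t u z a k := by
          rw [cj, inv_eq_of_mul_eq_one_right h.k2]
          nth_rw 1 [← Frame.ev_k (t := t) (u := u) (z := z) (a := a) (k := k)]
          nth_rw 3 [← Frame.ev_k (t := t) (u := u) (z := z) (a := a) (k := k)]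
          rw [← F.ev_mul, ← F.ev_mul]
          congr 1
          clear * -
          revert j
          decide
        have hA' : (⟨false, true, false, (true, !j)⟩ : TEl).ev t u z a k ∈ aG u z a :=
          h.mem_A.2 ⟨_, _, _, rfl⟩
        rw [hyt, hsplit, cj_mul, hyt, hsplit, show cj y ((⟨false, true, false, (true, j)⟩ : TEl).ev t u z a k)
          = (⟨false, true, false, (true, !j)⟩ : TEl).ev t u z a k by
            rw [hy, ← cj_cj, hkv, h.Q_fix_A hx hA'], mul_assoc, ← F.ev_mul] at hy2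
        have := h.inj _ (mul_eq_left.1 hy2)
        revert this
        clear * -
        revert j
        decide
      subst hp
      -- so `x ∈ E ∪ rE`
      obtain ⟨b, hb⟩ : ∃ b, x * (pw (s * s) b)⁻¹ ∈ eG t u z a := by
        refine ⟨j, ?_⟩
        rw [← h.Q_inf_cent]
        refine mem_inf.2 ⟨mul_mem hx (inv_mem ?_), mem_cent.2 (cj_eq_self.1 ?_)⟩
        · cases j
          · exact one_mem _
          · exact hr
        · rw [← cj_cj]
          refine cj_inv_left ?_
          rw [← hpj]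
          cases j
          · simp [TEl.ev, El.ev, pz]
          · rw [pw_true, hrt]; simp [TEl.ev, El.ev, pz]
      obtain ⟨Y, -, hY⟩ := F.mem_E1.1 hb
      let Z := rMul true (⟨false, false, true, (false, false)⟩, false) (rMul true (Y, false) (TEl.one, b))
      have hZ : rEv Z t u z a k (s * s) = y := by
        simp only [Z]
        rw [hR, hR, rEv_T, rEv_T, Frame.ev_k, hY, hy,
          show rEv (TEl.one, b) t u z a k (s * s) = pw (s * s) b by simp [rEv, TEl.emb, TEl.one, El.ev, pz],
          inv_mul_cancel_right]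
      have hsq : rMul true Z Z = (TEl.one, false) := h.rEv_injective h4 hc hρ (by
        simp only [hR, hone, hZ, h.conj_sq hyc])
      refine ⟨Z, ⟨?_, ?_, hsq⟩, hZ⟩
      · by_contra hq
        exact hyQ (hZ ▸ (h.rEv_mem_Q_iff h4 hc Z).2 (by simpa using hq))
      · exact (h.conj_R0_iff h4 hc hρ Z hsq).1 (hZ ▸ hyc)
    · rintro (⟨hyQ, hyc⟩ | ⟨x, ⟨hq, he, hsq⟩, rfl⟩)
      · exact ⟨le_extTwo hyQ, hyc⟩
      · exact ⟨h.rEv_mem h4 hc x (hQP t (by simp)) (hQP u (by simp)) (hQP z (by simp)) (hQP a (by simp))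
          (fun _ => self_mem_extTwo) (le_extTwo hr), (h.conj_R0_iff h4 hc hρ x hsq).2 he⟩
  have hcount : Nat.card (conjIn t (P : Set G)) = 40 := by
    rw [hset, Nat.card_coe_set_eq, Set.ncard_union_eq ?_ (Set.toFinite _) (Set.toFinite _),
      ← Nat.card_coe_set_eq, h.card_conjIn_Q h4, hT, h.cyc_card_orb1 h4 hc, Set.ncard_coe_finset,
      Finset.card_image_of_injective _ (h.rEv_injective h4 hc hρ),
      show S.card = 8 by simp only [S]; decide +kernel]
    rw [Set.disjoint_left]
    intro y hy hy'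
    simp only [Finset.coe_image, Set.mem_image, Finset.mem_coe, S, Finset.mem_filter] at hy'
    obtain ⟨x, ⟨-, hq, -⟩, rfl⟩ := hy'
    have := (h.rEv_mem_Q_iff h4 hc x).1 hy.1
    simp [hq] at this
  obtain ⟨m, hm, hcm⟩ := h.card
  have hidx := P.card_mul_index
  rw [hP] at hidx
  rw [h.card_N1, h.cyc_card_orb1 h4 hc, ← hidx] at hdvd
  refine index_two_of_count P t h.t2 (10 * m) ?_ ?_ ?_
  · obtain ⟨c, hcc⟩ := hdvd
    exact ⟨3 * c, by omega⟩
  · rw [hcount, hcm, hP]; ring
  · obtain ⟨j, rfl⟩ := hm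
    omega

end Hyp

end Cfsg.Agent.TwoTimesSym
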