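import Cfsg.Agent.TwoTimesSym.Side

/-!
`N(T)` moves `u`: then it contains an element `s` with `t → tu → tz → tuz` which exchanges the two
elementary abelian groups.
-/

set_option autoImplicit false

namespace Cfsg.Agent.TwoTimesSym

open Subgroup

variable {G : Type*} [Group G] {t u z a k : G}

/-- The data of the element `s`. -/
structure Cyc (t u z a k s : G) : Prop where
  memL : s ∈ nrm (tG t u z a k)
  st : cj s t = t * u
  su : cj s u = u * z
  notN : s ∉ nrm (eG t u z a)
  sa : ∃ i j, cj s a = (⟨false, false, true, (i, j)⟩ : TEl).ev t u z a k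
  fa : cj (s * s) a = a
  fk : cj (s * s) k = k

namespace Hyp

variable [Finite G] (h : Hyp t u z a k) (h4 : Four t u z)
include h h4

theorem exists_tu_mover (hm : ∃ g ∈ nrm (tG t u z a k), cj g u ≠ u) :
    ∃ g ∈ nrm (tG t u z a k), cj g t = t * u ∧ cj g u = u * z := by
  obtain ⟨s, hs, hsu'⟩ := hm
  have hsu : cj s u = u * z := (h.cj_u_four h4 hs).resolve_left hsu'
  obtain ⟨g, hg, hgt⟩ := h.exists_L_cj h4 (e := true) (i := true) (j := false) rfl
  rw [show (TEl.cen true true false).ev t u z a k = t * u by simp [Frame.ev_cen, pz]] at hgt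
  refine ⟨g, hg, hgt, (h.cj_u_four h4 hg).resolve_left fun hgu => ?_⟩
  have hgi : g⁻¹ ∈ nrm (tG t u z a k) := inv_mem hg
  have hsz := h.cj_z hs
  have hzz : u * z * z = u := by rw [mul_assoc, h.z2, mul_one]
  have hiu : cj g⁻¹ u = u := cj_inv_left hgu
  have hiz : cj g⁻¹ z = z := h.cj_z hgi
  have hit : cj g⁻¹ (t * u) = t := cj_inv_left hgt
  have huu : cj s (u * z) = u := by rw [cj_mul, hsu, hsz, hzz]
  have huz : u * z ≠ u := fun e => h.z_ne_one (mul_eq_left.1 e)
  have fin : ∀ m ∈ nrm (tG t u z a k), cj m t = t * u → cj m u = u * z → False := by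
    intro m hm e1 e2
    have hT := h.cj_fix_of_T (mul_mem hm hgi) (by rw [← cj_cj, e1, hit])
    have he : cj (m * g⁻¹) u = u * z := by rw [← cj_cj, e2, cj_mul, hiu, hiz]
    have hc := h.cen_comm false true false hT
    rw [Frame.ev_u] at hc
    rw [cj_eq_self.2 hc] at he
    exact huz he.symm
  rcases h.cj_t_four h4 hs with e | e | e | e
  · have hc := h.cen_comm false true false (h.cj_fix_of_T hs e)
    rw [Frame.ev_u] at hc
    exact hsu' (cj_eq_self.2 hc)
  · have hgs : cj (g * s) t = t * u := by
      rw [← cj_cj, hgt, cj_mul, e, hsu, show t * z * (u * z) = t * (z * u) * z by group, h.zu,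
        show t * (u * z) * z = t * (u * z * z) by group, hzz]
    exact fin (g * s) (mul_mem hg hs) hgs (by rw [← cj_cj, hgu, hsu])
  · exact fin s hs e hsu
  · have s2t : cj (s * s) t = t * z := by
      rw [← cj_cj, e, cj_mul, e, huu, show t * (u * z) * u = t * (u * (z * u)) by group, h.zu,
        show t * (u * (u * z)) = t * (u * u * z) by group, h.u2, one_mul]
    have s3t : cj (s * s * s) t = t * u := by
      rw [← cj_cj, s2t, cj_mul, e, hsz, show t * (u * z) * z = t * (u * z * z) by group, hzz]
    have s3u : cj (s * s * s) u = u * z := by rw [← cj_cj, ← cj_cj, hsu, huu, hsu]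
    exact fin _ (mul_mem (mul_mem hs hs) hs) s3t s3u

/-- The element does not normalise `⟨t, u, z, a⟩`. -/
theorem tu_mover_swaps {s : G} (hs : s ∈ nrm (tG t u z a k)) (hst : cj s t = t * u)
    (hsu : cj s u = u * z) : s ∉ nrm (eG t u z a) := by
  classical
  intro hsN
  set L := nrm (tG t u z a k)
  set N := nrm (eG t u z a)
  have F := h.toFrame
  have hsz := h.cj_z hs
  have hzz : u * z * z = u := by rw [mul_assoc, h.z2, mul_one]
  have hsb : cj s (u * z) = u := by rw [cj_mul, hsu, hsz, hzz]
  have hs2t : cj (s * s) t = t * z := by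
    rw [← cj_cj, hst, cj_mul, hst, hsu, show t * u * (u * z) = t * (u * u) * z by group, h.u2, mul_one]
  have hs3t : cj (s * s * s) t = t * (u * z) := by
    rw [← cj_cj, hs2t, cj_mul, hst, hsz, mul_assoc]
  have hLN : L ≤ N := by
    intro g hg
    have fin : ∀ m ∈ L, m ∈ N → cj g t = cj m t → g ∈ N := fun m hm hmN e => by
      have hT := h.cj_fix_of_T (mul_mem hg (inv_mem hm)) (by rw [← cj_cj, e, cj_cj, mul_inv_cancel, cj_by_one])
      have := mul_mem (h.T_le_N1 hT) hmN
      rwa [inv_mul_cancel_right] at this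
    rcases h.cj_t_four h4 hg with e | e | e | e
    · exact fin 1 (one_mem _) (one_mem _) (by rw [cj_by_one, e])
    · exact fin _ (mul_mem hs hs) (mul_mem hsN hsN) (e.trans hs2t.symm)
    · exact fin s hs hsN (e.trans hst.symm)
    · exact fin _ (mul_mem (mul_mem hs hs) hs) (mul_mem (mul_mem hsN hsN) hsN) (e.trans hs3t.symm)
  have h8 : Nat.card (orb N t) = 8 := by
    rw [h.card_orb1 (fun e _ _ => e) ?_]
    · rfl
    · intro e i j
      refine ⟨fun ⟨g, _, hge⟩ => (h.conj_cen_iff h4 e i j).1 (isConj_iff_cj.2 ⟨g, hge⟩), fun he => ?_⟩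
      obtain ⟨g, hg, hge⟩ := h.exists_L_cj h4 (e := e) (i := i) (j := j) he
      exact ⟨g, hLN hg, hge⟩
  have hN : Nat.card N = 768 := by rw [h.card_N1, h8]
  obtain ⟨w, hw, w1, w2, w3⟩ := h.exists_w1
  have hwN := (mem_inf.1 hw).1
  have hwt : cj w t = t := cj_eq_self.2 (mem_cent.1 (mem_inf.1 hw).2)
  -- the orbit of `z` avoids `a`
  let S : Finset G := (Finset.univ.filter fun X : TEl => X.q = false ∧ X.e = false ∧ X ≠ TEl.one).image
    fun X => X.ev t u z a k
  have horbA : orb N z ⊆ S := by
    rintro y ⟨g, hg, rfl⟩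
    have hA := h.N1_cj_A h4 hg (subset_closure (by simp) : z ∈ aG u z a)
    obtain ⟨p, i, j, he⟩ := h.mem_A.1 hA
    simp only [S, Finset.coe_image, Set.mem_image, Finset.mem_coe, Finset.mem_filter]
    refine ⟨⟨false, p, false, (i, j)⟩, ⟨Finset.mem_univ _, rfl, rfl, fun e => ?_⟩, he⟩
    rw [e, Frame.ev_one] at he
    exact h.z_ne_one (cj_injective g (he.symm.trans (cj_one g).symm))
  have key7 : a ∉ orb N z ∧ a * z ∉ orb N z := by
    have hnot : a ∉ orb N z := by
      intro ha
      have haz : a * z ∈ orb N z := by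
        have := orb_cj ha hwN
        rwa [w2] at this
      have hu : u ∈ orb N z := by
        have := orb_cj haz hwN
        rwa [cj_mul, w2, w3, show a * z * (a * z * u) = a * (z * a) * z * u by group, h.za,
          show a * (a * z) * z * u = a * a * (z * z) * u by group, h.a2, h.z2, one_mul, one_mul] at this
      have hb : u * z ∈ orb N z := by
        have := orb_cj hu hsN
        rwa [hsu] at this
      have h1 : a * z * u ∈ orb N z := by rw [← w3]; exact ⟨w, hwN, rfl⟩
      have h2 : a * u ∈ orb N z := by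
        have := orb_cj h1 hwN
        rwa [cj_mul, cj_mul, w2, w3, w1, show a * z * (a * z * u) * a = a * (z * a) * z * (u * a) by group,
          h.za, h.ua, show a * (a * z) * z * (a * u) = a * a * (z * z) * a * u by group, h.a2, h.z2, one_mul,
          one_mul] at this
      have hsub : (S : Set G) ⊆ orb N z := by
        intro y hy
        simp only [S, Finset.coe_image, Set.mem_image, Finset.mem_coe, Finset.mem_filter] at hy
        obtain ⟨⟨e, p, q, i, j⟩, ⟨-, hq, he, hne⟩, rfl⟩ := hy
        simp only at hq he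
        subst hq he
        cases p <;> cases i <;> cases j <;> simp [TEl.ev, El.ev, pz] at hne ⊢
        · exact absurd rfl hne
        · exact self_mem_orb N z
        · exact hu
        · exact hb
        · exact ha
        · exact haz
        · exact h2
        · rwa [mul_assoc, h.zu] at h1
      have hcard : Nat.card (orb N z) = 7 := by
        rw [Nat.card_coe_set_eq, le_antisymm (Set.ncard_le_ncard horbA (Set.toFinite _))
          (Set.ncard_le_ncard hsub (Set.toFinite _)), Set.ncard_coe_finset,
          Finset.card_image_of_injective _ h.ev_injective]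
        rfl
      have := Dvd.intro _ (card_eq_orb_mul N z).symm
      rw [hcard, hN] at this
      norm_num at this
    refine ⟨hnot, fun hh => hnot ?_⟩
    have := orb_cj hh (h.T_le_N1 h.k_mem)
    have hk : cj k (a * z) = a := by
      rw [cj, inv_eq_of_mul_eq_one_right h.k2, show k * (a * z) * k = k * a * (z * k) by group, h.ka, h.zk,
        show a * k * z * (k * z) = a * k * (z * k) * z by group, h.zk,
        show a * k * (k * z) * z = a * (k * k) * (z * z) by group, h.k2, h.z2, mul_one, mul_one]
    rwa [hk] at this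
  -- `s²` adjusted by `k` centralises `A`
  set r := s * s
  have hrN : r ∈ N := mul_mem hsN hsN
  have hru : cj r u = u := by simp only [r]; rw [← cj_cj, hsu, hsb]
  have hrz : cj r z = z := h.cj_z (mul_mem hs hs)
  have hra : cj r a = a ∨ cj r a = a * z := by
    obtain ⟨p, i, j, he⟩ := h.mem_A.1 (h.N1_cj_A h4 hrN (subset_closure (by simp) : a ∈ aG u z a))
    cases p with
    | false =>
      exfalso
      obtain ⟨e', i', j', he'⟩ := h.cj_cen (inv_mem (mul_mem hs hs)) false i j
      rw [show (TEl.cen false i j).ev t u z a k = cj r a from he, cj_cj, mul_inv_cancel, cj_by_one,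
        ← Frame.ev_a (t := t) (u := u) (z := z) (a := a) (k := k)] at he'
      have := h.ev_inj.1 he'
      simp [TEl.cen] at this
    | true =>
      cases i <;> cases j <;> simp [TEl.ev, El.ev, pz] at he
      · exact Or.inl he.symm
      · exact Or.inr he.symm
      all_goals
        exfalso
        have hW : cj r (a * z * u) ∈ orb N z := orb_cj (by rw [← w3]; exact ⟨w, hwN, rfl⟩) hrN
        rw [cj_mul, cj_mul, hrz, hru, ← he] at hW
      · rw [show a * u * z * u = a * (u * (z * u)) by group, h.zu,
          show a * (u * (u * z)) = a * (u * u * z) by group, h.u2, one_mul] at hW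
        exact key7.2 hW
      · rw [show a * (u * z) * z * u = a * (u * (z * z) * u) by group, h.z2, mul_one, h.u2, mul_one] at hW
        exact key7.1 hW
  obtain ⟨r', hr'Q, hr't⟩ : ∃ r' ∈ qG t u z a, cj r' t = t * z := by
    rcases hra with e | e
    · exact ⟨r, mem_qG.2 ⟨hrN, hru, hrz, e⟩, hs2t⟩
    · have hk : ∀ x, x = t ∨ x = u ∨ x = z → cj k x = x := by
        rintro x (rfl | rfl | rfl) <;> apply cj_eq_self.2
        exacts [h.tk, h.uk.symm, h.zk.symm]
      refine ⟨r * k, mem_qG.2 ⟨mul_mem hrN (h.T_le_N1 h.k_mem), ?_, ?_, ?_⟩, ?_⟩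
      · rw [← cj_cj, hru, hk u (by simp)]
      · rw [← cj_cj, hrz, hk z (by simp)]
      · rw [← cj_cj, e, cj, inv_eq_of_mul_eq_one_right h.k2,
          show k * (a * z) * k = k * a * (z * k) by group, h.ka, h.zk,
          show a * k * z * (k * z) = a * k * (z * k) * z by group, h.zk,
          show a * k * (k * z) * z = a * (k * k) * (z * z) by group, h.k2, h.z2, mul_one, mul_one]
      · rw [← cj_cj, hs2t, cj_mul, hk t (by simp), hk z (by simp)]
  set K := qG t u z a
  have h4K : 4 ≤ Nat.card (orb K t) := by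
    have hw2 : ∀ v, cj w (cj w v) = cj (w * w) v := fun v => cj_cj _ _ _
    have hm : ∀ g ∈ N, cj g t = t → t * cj g z ∈ orb K t := by
      intro g hg hgt
      refine ⟨cj g r', h.Q_conj h4 hg hr'Q, ?_⟩
      calc cj (cj g r') t = cj (g⁻¹ * r' * g) t := rfl
        _ = cj g (cj r' (cj g⁻¹ t)) := by rw [cj_cj, cj_cj]; group
        _ = t * cj g z := by rw [cj_inv_left hgt, hr't, cj_mul, hgt]
    have m1 := hm w hwN hwt
    have m2 := hm (w * w) (mul_mem hwN hwN) (by rw [← cj_cj, hwt, hwt])
    rw [w3] at m1
    rw [← hw2, w3, cj_mul, cj_mul, w2, w3, w1] at m2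
    have hsub : ({t, t * z, t * (a * z * u), t * (a * z * (a * z * u) * a)} : Set G) ⊆ orb K t := by
      rintro x (rfl | rfl | rfl | rfl)
      exacts [self_mem_orb _ _, ⟨r', hr'Q, hr't⟩, m1, m2]
    rw [Nat.card_coe_set_eq]
    refine le_trans (le_of_eq ?_) (Set.ncard_le_ncard hsub (Set.toFinite _))
    have e0 : t = (TEl.cen true false false).ev t u z a k := Frame.ev_t.symm
    have e1 : t * z = (TEl.cen true false true).ev t u z a k := by simp [Frame.ev_cen, pz]
    have e2 : t * (a * z * u) = (⟨true, true, false, (true, true)⟩ : TEl).ev t u z a k := by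
      simp [TEl.ev, El.ev, pz, mul_assoc, h.zu]
    have e3 : t * (a * z * (a * z * u) * a) = (⟨true, true, false, (true, false)⟩ : TEl).ev t u z a k := by
      rw [show t * (a * z * (a * z * u) * a) = t * (a * (z * a) * z * (u * a)) by group, h.za, h.ua,
        show t * (a * (a * z) * z * (a * u)) = t * (a * a * (z * z) * a * u) by group, h.a2, h.z2]
      simp [TEl.ev, El.ev, pz, mul_assoc]
    rw [e2, e3, e1]
    nth_rw 1 [e0]
    simp [Set.ncard_insert_of_notMem, h.ev_inj, TEl.cen]
  have hK : 64 ≤ Nat.card K := by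
    show 64 ≤ Nat.card (qG t u z a)
    rw [h.card_Q]
    change 4 ≤ Nat.card (orb (qG t u z a) t) at h4K
    omega
  set St := N ⊓ centralizer ({u * z} : Set G)
  have h6 : 6 * Nat.card K ≤ Nat.card St := by
    have hKS : ∀ x ∈ K, x ∈ St := fun x hx => by
      obtain ⟨hxN, hxu, hxz, -⟩ := mem_qG.1 hx
      exact mem_inf.2 ⟨hxN, mem_cent.2 (cj_eq_self.1 (by rw [cj_mul, hxu, hxz]))⟩
    have hwb : cj w (u * z) = u * z := by
      rw [cj_mul, w1, w3, show a * (a * z * u) = a * a * (z * u) by group, h.a2, one_mul, h.zu]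
    have hkb : cj k (u * z) = u * z := by
      rw [cj_eq_self]; rw [← mul_assoc, ← h.uk, mul_assoc, ← h.zk, mul_assoc]
    let g : Fin 6 → G := ![1, w, w * w, k, k * w, k * (w * w)]
    have hg : ∀ i, g i ∈ St := by
      have h1 : w ∈ St := mem_inf.2 ⟨hwN, mem_cent.2 (cj_eq_self.1 hwb)⟩
      have h2 : k ∈ St := mem_inf.2 ⟨h.T_le_N1 h.k_mem, mem_cent.2 (cj_eq_self.1 hkb)⟩
      intro i
      fin_cases i
      exacts [one_mem _, h1, mul_mem h1 h1, h2, mul_mem h2 h1, mul_mem h2 (mul_mem h1 h1)]
    let f : K × Fin 6 → St := fun p => ⟨p.1 * g p.2, mul_mem (hKS _ p.1.2) (hg _)⟩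
    have hinj : Function.Injective f := by
      rintro ⟨x, i⟩ ⟨y, j⟩ e
      have e' : (x : G) * g i = y * g j := congrArg Subtype.val e
      obtain ⟨-, xu, -, xa⟩ := mem_qG.1 x.2
      obtain ⟨-, yu, -, ya⟩ := mem_qG.1 y.2
      have pu : cj (g i) u = cj (g j) u := by
        conv_lhs => rw [← xu, cj_cj, e', ← cj_cj, yu]
      have pa : cj (g i) a = cj (g j) a := by
        conv_lhs => rw [← xa, cj_cj, e', ← cj_cj, ya]
      have hku : cj k u = u := cj_eq_self.2 h.uk.symm
      have hka : cj k a = a * z := by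
        rw [cj, inv_eq_of_mul_eq_one_right h.k2, h.ka, show a * k * z * k = a * (k * (z * k)) by group,
          h.zk, ← mul_assoc k k, h.k2, one_mul]
      have w4 : cj w (a * z) = u := by
        rw [cj_mul, w2, w3, show a * z * (a * z * u) = a * (z * a) * z * u by group, h.za,
          show a * (a * z) * z * u = a * a * (z * z) * u by group, h.a2, h.z2, one_mul, one_mul]
      have hu1 : u ≠ a := fun e => absurd (h.ev_inj.1
        (((Frame.ev_u (t := t) (u := u) (z := z) (a := a) (k := k)).trans e).trans
          (Frame.ev_a (t := t) (u := u) (z := z) (a := a) (k := k)).symm)) (by decide)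
      have hea : a * z = (⟨false, true, false, (false, true)⟩ : TEl).ev t u z a k := by
        simp [TEl.ev, El.ev, pz]
      have hu2 : u ≠ a * z := fun e => absurd (h.ev_inj.1
        (((Frame.ev_u (t := t) (u := u) (z := z) (a := a) (k := k)).trans e).trans hea)) (by decide)
      have hu3 : a ≠ a * z := fun e => h.z_ne_one (mul_eq_left.1 e.symm)
      have hij : i = j := by
        fin_cases i <;> fin_cases j <;>
          simp [g, ← cj_cj, w1, w2, w4, hku, hka, hu1, hu2, hu3, hu1.symm, hu2.symm, hu3.symm] at pu pa ⊢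
      subst hij
      exact Prod.ext (Subtype.ext (mul_right_cancel e')) rfl
    have := Nat.card_le_card_of_injective f hinj
    rw [Nat.card_prod, Nat.card_eq_fintype_card (α := Fin 6), Fintype.card_fin, mul_comm] at this
    exact this
  have h3 : 3 ≤ Nat.card (orb N (u * z)) := by
    have hu : u ∈ orb N (u * z) := ⟨s, hsN, hsb⟩
    have ha : a ∈ orb N (u * z) := by
      have := orb_cj hu hwN
      rwa [w1] at this
    have hsub : ({u * z, u, a} : Set G) ⊆ orb N (u * z) := by
      rintro x (rfl | rfl | rfl)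
      exacts [self_mem_orb _ _, hu, ha]
    rw [Nat.card_coe_set_eq]
    refine le_trans (le_of_eq ?_) (Set.ncard_le_ncard hsub (Set.toFinite _))
    have eu : (TEl.cen false true false).ev t u z a k = u := Frame.ev_u
    have ea : (⟨false, true, false, (false, false)⟩ : TEl).ev t u z a k = a := Frame.ev_a
    have eb : (TEl.cen false true true).ev t u z a k = u * z := by simp [Frame.ev_cen, pz]
    have n1 : u ≠ a := fun e => absurd (h.ev_inj.1 (eu.trans (e.trans ea.symm))) (by decide)
    have n2 : u * z ∉ ({u, a} : Set G) := by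
      simp only [Set.mem_insert_iff, Set.mem_singleton_iff, not_or]
      exact ⟨fun e => absurd (h.ev_inj.1 (eb.trans (e.trans eu.symm))) (by decide),
        fun e => absurd (h.ev_inj.1 (eb.trans (e.trans ea.symm))) (by decide)⟩
    rw [Set.ncard_insert_of_notMem n2, Set.ncard_pair n1]
  have hmul := card_eq_orb_mul N (u * z)
  rw [hN] at hmul
  nlinarith

theorem exists_cyc (hm : ∃ g ∈ nrm (tG t u z a k), cj g u ≠ u) : ∃ s, Cyc t u z a k s := by
  obtain ⟨s, hs, hst, hsu⟩ := h.exists_tu_mover h4 hm
  have hsn := h.tu_mover_swaps h4 hs hst hsu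
  have F := h.toFrame
  set L := nrm (tG t u z a k)
  have hsz := h.cj_z hs
  have hzz : u * z * z = u := by rw [mul_assoc, h.z2, mul_one]
  have hsb : cj s (u * z) = u := by rw [cj_mul, hsu, hsz, hzz]
  have hs2t : cj (s * s) t = t * z := by
    rw [← cj_cj, hst, cj_mul, hst, hsu, show t * u * (u * z) = t * (u * u) * z by group, h.u2, mul_one]
  obtain ⟨i, j, hsa⟩ : ∃ i j, cj s a = (⟨false, false, true, (i, j)⟩ : TEl).ev t u z a k := by
    obtain ⟨⟨e, p, q, i, j⟩, hX, hXe⟩ := F.mem_E2.1 ((h.swap_of_notMem hs hsn).1 a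
      (subset_closure (.inr (.inr (.inr rfl)))))
    obtain rfl : p = false := hX
    have hna : ¬ IsConj t (cj s a) := fun hc => by
      have := (h.conj_T_iff h4 ⟨false, true, false, (false, false)⟩ rfl).1 (by
        rw [Frame.ev_a]; exact hc.trans (isConj_cj s a).symm)
      simp at this
    rw [← hXe, h.conj_T_iff h4 _ (by simp)] at hna
    obtain rfl : e = false := by simpa using hna
    cases q with
    | true => exact ⟨i, j, hXe.symm⟩
    | false =>
      exfalso
      obtain ⟨e', i', j', he⟩ := h.cj_cen (inv_mem hs) false i j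
      rw [show (TEl.cen false i j).ev t u z a k = cj s a from hXe, cj_cj, mul_inv_cancel, cj_by_one,
        ← Frame.ev_a (t := t) (u := u) (z := z) (a := a) (k := k)] at he
      have := h.ev_inj.1 he
      simp [TEl.cen] at this
  -- the action of `s²`
  have hrN : s * s ∈ nrm (eG t u z a) := h.mul_mem_N1 hs hs hsn hsn
  have hcfix : ∀ i j, cj (s * s) ((TEl.cen false i j).ev t u z a k) = (TEl.cen false i j).ev t u z a k := by
    intro i j
    cases i <;> cases j <;>
      simp only [Frame.ev_cen, pz, pw_true, pw_false, one_mul, mul_one, cj_one, ← cj_cj, cj_mul, hsu, hsz, hzz,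
        hsb]
  have horb : ∀ e i j, (TEl.cen e i j).ev t u z a k ∈ orb (nrm (eG t u z a)) t ↔ (e && !i) = true := by
    intro e i j
    constructor
    · intro hy
      obtain ⟨l, hl, hle⟩ := h.orb1_adjust hy
      obtain ⟨hlN, hlL⟩ := mem_inf.1 hl
      have he := (h.conj_cen_iff h4 e i j).1 (isConj_iff_cj.2 ⟨l, hle⟩)
      subst he
      cases i with
      | false => rfl
      | true =>
        exfalso
        cases j with
        | false =>
          rw [show (TEl.cen true true false).ev t u z a k = t * u by simp [Frame.ev_cen, pz]] at hle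
          have hT := h.cj_fix_of_T (mul_mem hlL (inv_mem hs)) (by rw [← cj_cj, hle, cj_inv_left hst])
          have := (mul_mem_cancel_left hlN).1 (h.T_le_N1 hT)
          exact hsn (inv_mem_iff.1 this)
        | true =>
          rw [show (TEl.cen true true true).ev t u z a k = t * (u * z) by simp [Frame.ev_cen, pz]] at hle
          have hls : cj (l * s) t = t := by
            rw [← cj_cj, hle, cj_mul, hst, hsb, mul_assoc, h.u2, mul_one]
          have hT := h.cj_fix_of_T (mul_mem hlL hs) hls
          exact hsn ((mul_mem_cancel_left hlN).1 (h.T_le_N1 hT))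
    · intro hei
      cases e <;> cases i <;> simp at hei
      cases j
      · rw [Frame.ev_t]; exact self_mem_orb _ t
      · exact ⟨s * s, hrN, by rw [hs2t]; simp [Frame.ev_cen, pz]⟩
  obtain ⟨p, hra⟩ : ∃ p : Bool, cj (s * s) a = (⟨false, true, false, (false, p)⟩ : TEl).ev t u z a k := by
    obtain ⟨p, i, j, he⟩ := h.mem_A.1 (h.N1_cj_A h4 hrN (subset_closure (by simp) : a ∈ aG u z a))
    cases p with
    | false =>
      exfalso
      obtain ⟨e', i', j', he'⟩ := h.cj_cen (inv_mem (mul_mem hs hs)) false i j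
      rw [show (TEl.cen false i j).ev t u z a k = cj (s * s) a from he, cj_cj, mul_inv_cancel, cj_by_one,
        ← Frame.ev_a (t := t) (u := u) (z := z) (a := a) (k := k)] at he'
      have := h.ev_inj.1 he'
      simp [TEl.cen] at this
    | true =>
      have h1 : (⟨true, true, false, (true, false)⟩ : TEl).ev t u z a k ∈ orb (nrm (eG t u z a)) t :=
        (h.orb1_iff rfl).2 ((horb _ _ _).2 rfl)
      have h2 := orb_cj h1 hrN
      have he1 : (⟨true, true, false, (true, false)⟩ : TEl).ev t u z a k = t * a * u := by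
        simp [TEl.ev, El.ev, pz]
      have he2 : cj (s * s) (t * a * u) = (⟨true, true, false, (!i, !j)⟩ : TEl).ev t u z a k := by
        have hu := hcfix true false
        rw [Frame.ev_u] at hu
        rw [cj_mul, cj_mul, hs2t, hu, ← he]
        rw [show t * z = (TEl.cen true false true).ev t u z a k by simp [Frame.ev_cen, pz], ← F.ev_mul,
          show ∀ X : TEl, X.ev t u z a k * u = (X.mul (TEl.cen false true false)).ev t u z a k from
            fun X => by rw [F.ev_mul, Frame.ev_u]]
        congr 1
        clear he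
        revert i j
        decide
      rw [he1, he2, h.orb1_iff rfl, horb] at h2
      cases i with
      | false => exact ⟨j, he.symm⟩
      | true => simp [TEl.rho] at h2
  have hk : k = cj s a * (TEl.cen false i j).ev t u z a k := by
    rw [hsa, ← F.ev_mul]
    conv_lhs => rw [← Frame.ev_k (t := t) (u := u) (z := z) (a := a) (k := k)]
    congr 1
    clear hsa
    revert i j
    decide
  have hrk : cj (s * s) k = (⟨false, false, true, (false, p)⟩ : TEl).ev t u z a k := by
    conv_lhs => arg 2; rw [hk]
    rw [cj_mul, hcfix, cj_cj, show s * (s * s) = s * s * s by group, ← cj_cj, hra,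
      show (⟨false, true, false, (false, p)⟩ : TEl).ev t u z a k = a * pw z p by
        cases p <;> simp [TEl.ev, El.ev, pz],
      cj_mul, hsa, show cj s (pw z p) = (TEl.cen false false p).ev t u z a k by
        cases p <;> simp [Frame.ev_cen, pz, hsz], ← F.ev_mul, ← F.ev_mul]
    congr 1
    clear hsa hk hra
    revert i j p
    decide
  cases p with
  | false =>
    refine ⟨s, hs, hst, hsu, hsn, ⟨i, j, hsa⟩, ?_, ?_⟩
    · rw [hra]; exact Frame.ev_a
    · rw [hrk]; exact Frame.ev_k
  | true =>
    have ka' : cj a k = k * z := by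
      rw [cj, inv_eq_of_mul_eq_one_right h.a2, mul_assoc, h.ka,
        show a * (a * k * z) = a * a * (k * z) by group, h.a2, one_mul]
    have e2 : s * a * (s * a) = s * s * (cj s a * a) := by rw [cj]; group
    refine ⟨s * a, mul_mem hs (Subgroup.le_normalizer h.a_mem), ?_, ?_, ?_, ⟨i, !j, ?_⟩, ?_, ?_⟩
    · rw [← cj_cj, hst, cj_mul, cj_eq_self.2 h.ta, cj_eq_self.2 h.ua.symm]
    · rw [← cj_cj, hsu, cj_mul, cj_eq_self.2 h.ua.symm, cj_eq_self.2 h.za.symm]
    · exact fun hm => hsn ((mul_mem_cancel_right (h.T_le_N1 h.a_mem)).1 hm)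
    · rw [← cj_cj, hsa, cj, inv_eq_of_mul_eq_one_right h.a2]
      nth_rw 1 [← Frame.ev_a (t := t) (u := u) (z := z) (a := a) (k := k)]
      rw [← F.ev_mul]
      nth_rw 2 [← Frame.ev_a (t := t) (u := u) (z := z) (a := a) (k := k)]
      rw [← F.ev_mul]
      congr 1
      clear hsa hk
      revert i j
      decide
    · rw [e2, hsa, ← cj_cj, hra]
      rw [show (⟨false, false, true, (i, j)⟩ : TEl).ev t u z a k * a =
        ((⟨false, false, true, (i, j)⟩ : TEl).mul ⟨false, true, false, (false, false)⟩).ev t u z a k by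
          rw [F.ev_mul, Frame.ev_a]]
      refine Eq.trans ?_ (Frame.ev_a (t := t) (u := u) (z := z) (a := a) (k := k))
      rw [cj, mul_assoc, inv_mul_eq_iff_eq_mul]
      rw [← F.ev_mul, ← F.ev_mul]
      congr 1
      clear hsa hk
      revert i j
      decide
    · rw [e2, hsa, ← cj_cj, hrk]
      rw [show (⟨false, false, true, (i, j)⟩ : TEl).ev t u z a k * a =
        ((⟨false, false, true, (i, j)⟩ : TEl).mul ⟨false, true, false, (false, false)⟩).ev t u z a k by
          rw [F.ev_mul, Frame.ev_a]]
      refine Eq.trans ?_ (Frame.ev_k (t := t) (u := u) (z := z) (a := a) (k := k))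
      rw [cj, mul_assoc, inv_mul_eq_iff_eq_mul]
      rw [← F.ev_mul, ← F.ev_mul]
      congr 1
      clear hsa hk
      revert i j
      decide

end Hyp

end Cfsg.Agent.TwoTimesSym
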