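import Cfsg.Agent.TwoTimesSym.CycleCommon

/-!
The case `(s²)² = 1`: a group of order `256` with a subgroup of index two outside of which the conjugates of
`t` are eight elements of `R₀` and elements with small centralisers.
-/

set_option autoImplicit false

namespace Cfsg.Agent.TwoTimesSym

open Subgroup

variable {G : Type*} [Group G] {t u z a k s : G}

/-- A power in the model of `R₀`. -/
def pwM (X : TEl × Bool) (b : Bool) : TEl × Bool := if b then X else (TEl.one, false)

/-- An endomorphism of the model of `R₀` fixing `r` and `z`, given on `t`, `a`, `k`, `u`. -/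
def rHom (Xt Xa Xk Xu : TEl × Bool) (x : TEl × Bool) : TEl × Bool :=
  rMul false (rMul false (pwM Xt x.1.e) (rMul false (pwM Xa x.1.p) (rMul false (pwM Xk x.1.q) (TEl.one, x.2))))
    (rMul false (pwM Xu x.1.c.1) (TEl.cen false false x.1.c.2, false))

theorem rMul_coords (x y : TEl × Bool) :
    (rMul false x y).1.e = xor x.1.e y.1.e ∧ (rMul false x y).1.p = xor x.1.p y.1.p ∧
      (rMul false x y).1.q = xor x.1.q y.1.q ∧ (rMul false x y).2 = xor x.2 y.2 :=
  ⟨rfl, rfl, rfl, rfl⟩

theorem rHom_coords (Xt Xa Xk Xu x : TEl × Bool) :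
    (rHom Xt Xa Xk Xu x).1.e = xor (xor (x.1.e && Xt.1.e) (x.1.p && Xa.1.e))
        (xor (x.1.q && Xk.1.e) (x.1.c.1 && Xu.1.e)) ∧
      (rHom Xt Xa Xk Xu x).1.p = xor (xor (x.1.e && Xt.1.p) (x.1.p && Xa.1.p))
        (xor (x.1.q && Xk.1.p) (x.1.c.1 && Xu.1.p)) ∧
      (rHom Xt Xa Xk Xu x).1.q = xor (xor (x.1.e && Xt.1.q) (x.1.p && Xa.1.q))
        (xor (x.1.q && Xk.1.q) (x.1.c.1 && Xu.1.q)) ∧
      (rHom Xt Xa Xk Xu x).2 = xor (xor (xor (x.1.e && Xt.2) (x.1.p && Xa.2))
        (xor (x.1.q && Xk.2) (x.1.c.1 && Xu.2))) x.2 := by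
  obtain ⟨⟨e, p, q, i, j⟩, b⟩ := x
  cases e <;> cases p <;> cases q <;> cases i <;> cases b <;>
    simp [rHom, rMul, pwM, TEl.one, TEl.cen, Bool.xor_assoc]

/-- The parity `p + q` on `R₀`. -/
def rPar (x : TEl × Bool) : Bool := xor x.1.p x.1.q

theorem extTwo_mono {K K' : Subgroup G} {x : G} {hx : ∀ y ∈ K, cj x y ∈ K} {hx2 : x * x ∈ K}
    {hx' : ∀ y ∈ K', cj x y ∈ K'} {hx2' : x * x ∈ K'} (hK : K ≤ K') :
    extTwo K x hx hx2 ≤ extTwo K' x hx' hx2' := fun _ hg => hg.imp (fun e => hK e) (fun e => hK e)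

theorem subgroup_index_two_normal [Finite G] {H M : Subgroup G} (hle : M ≤ H)
    (hc : Nat.card H = 2 * Nat.card M) : ∀ g ∈ H, ∀ y ∈ M, g * y * g⁻¹ ∈ M := by
  have hidx : (M.subgroupOf H).index = 2 := by
    have := (M.subgroupOf H).card_mul_index
    rw [Nat.card_congr (subgroupOfEquivOfLe hle).toEquiv, hc, mul_comm 2] at this
    exact Nat.eq_of_mul_eq_mul_left Nat.card_pos this
  have hn := Subgroup.normal_of_index_eq_two hidx
  intro g hg y hy
  have := hn.conj_mem ⟨y, hle hy⟩ (mem_subgroupOf.2 hy) ⟨g, hg⟩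
  simpa [mem_subgroupOf] using this

namespace Hyp

variable [Finite G] (h : Hyp t u z a k) (h4 : Four t u z) (hc : Cyc t u z a k s)
variable (hρ : s * s * (s * s) = pw z false)
include h h4 hc hρ

theorem cj_rEv {g : G} {Xt Xa Xk Xu : TEl × Bool} (ht : cj g t = rEv Xt t u z a k (s * s))
    (ha : cj g a = rEv Xa t u z a k (s * s)) (hk : cj g k = rEv Xk t u z a k (s * s))
    (hu : cj g u = rEv Xu t u z a k (s * s)) (hr : cj g (s * s) = s * s) (hz : cj g z = z)
    (x : TEl × Bool) :
    cj g (rEv x t u z a k (s * s)) = rEv (rHom Xt Xa Xk Xu x) t u z a k (s * s) := by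
  have hR := h.rEv_mul h4 hc hρ
  have hone : rEv (TEl.one, false) t u z a k (s * s) = 1 := by rw [rEv_T, Frame.ev_one]
  have hpw : ∀ (X : TEl × Bool) b, rEv (pwM X b) t u z a k (s * s) = pw (rEv X t u z a k (s * s)) b := by
    intro X b
    cases b
    · simpa [pwM] using hone
    · rfl
  have hcpw : ∀ (v : G) b, cj g (pw v b) = pw (cj g v) b := fun v b => by cases b <;> simp
  obtain ⟨⟨e, p, q, i, j⟩, b⟩ := x
  have e1 : ∀ b, rEv (TEl.one, b) t u z a k (s * s) = pw (s * s) b := fun b => by
    simp [rEv, TEl.emb, TEl.one, El.ev, pz]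
  have e2 : ∀ j, rEv (TEl.cen false false j, false) t u z a k (s * s) = pw z j := fun j => by
    rw [rEv_T, Frame.ev_cen]; simp [pz]
  rw [rHom, hR, hR, hR, hR, hR, hpw, hpw, hpw, hpw, e1, e2, ← ht, ← ha, ← hk, ← hu]
  simp only [rEv, TEl.emb, El.ev, pz, pw_false, mul_one]
  simp only [cj_mul, hcpw, hr, hz]

theorem case_cycle_zero : ∃ K : Subgroup G, K.index = 2 := by
  classical
  have hR := h.rEv_mul h4 hc hρ
  have hinj := h.rEv_injective h4 hc hρ
  have hone : rEv (TEl.one, false) t u z a k (s * s) = 1 := by rw [rEv_T, Frame.ev_one]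
  have F := h.toFrame
  set r := s * s with hr_def
  set N := nrm (eG t u z a)
  set Q := qG t u z a
  set L := nrm (tG t u z a k)
  have hrQ : r ∈ Q := h.cyc_r_Q h4 hc
  obtain ⟨hsz, hrt, hru, hrz⟩ := h.cyc_vals h4 hc
  have hr2 : r * r = 1 := hρ.trans (pw_false z)
  have hev : ∀ x : TEl, rEv (x, false) t u z a k r = x.ev t u z a k := fun x => rEv_T x r
  have vt : rEv (TEl.cen true false false, false) t u z a k r = t := (hev _).trans Frame.ev_t
  have va : rEv (⟨false, true, false, (false, false)⟩, false) t u z a k r = a := (hev _).trans Frame.ev_a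
  have vk : rEv (⟨false, false, true, (false, false)⟩, false) t u z a k r = k := (hev _).trans Frame.ev_k
  have vu : rEv (TEl.cen false true false, false) t u z a k r = u := (hev _).trans Frame.ev_u
  have vr : rEv (TEl.one, true) t u z a k r = r := by simp [rEv, TEl.emb, TEl.one, El.ev, pz]
  -- the element `q`
  obtain ⟨w, hw, e1, e2, e3⟩ := h.exists_w1
  obtain ⟨hwN, hwC⟩ := mem_inf.1 hw
  have hwt : cj w t = t := cj_eq_self.2 (mem_cent.1 hwC)
  obtain ⟨hqQ, hqt'⟩ := h.cyc_trans h4 hc hwN hwt hrQ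
  set q := cj w r with hq_def
  have hqt : cj q t = (⟨true, true, false, (true, true)⟩ : TEl).ev t u z a k := by
    rw [hqt', hrt, show t * z = (TEl.cen true false true).ev t u z a k by simp [Frame.ev_cen, pz],
      h.w1_cj hwt e1 e2 e3 _ rfl]
    rfl
  have hq2 : q * q = 1 := by rw [hq_def, ← cj_mul, hr2, cj_one]
  obtain ⟨hqN, hqu, hqz, hqa⟩ := mem_qG.1 hqQ
  obtain ⟨i, j, hqk⟩ : ∃ i j, cj q k = rEv (⟨false, false, true, (i, j)⟩, true) t u z a k r := by
    have hkN : k ∈ N := h.T_le_N1 h.k_mem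
    have hk1 := h.Q_conj h4 hkN hqQ
    have hkt : cj k t = t := cj_eq_self.2 h.tk
    have ht1 : cj (cj k q) t = (⟨true, true, false, (true, false)⟩ : TEl).ev t u z a k := by
      rw [(h.cyc_trans h4 hc hkN hkt hqQ).2, hqt, cj, inv_eq_of_mul_eq_one_right h.k2]
      conv_lhs => enter [1, 1]; rw [← Frame.ev_k (t := t) (u := u) (z := z) (a := a) (k := k)]
      conv_lhs => arg 2; rw [← Frame.ev_k (t := t) (u := u) (z := z) (a := a) (k := k)]
      rw [← F.ev_mul, ← F.ev_mul]
      congr 1
    have hE : cj k q * q * r ∈ eG t u z a := by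
      rw [← h.Q_inf_cent]
      refine mem_inf.2 ⟨mul_mem (mul_mem hk1 hqQ) hrQ, mem_cent.2 (cj_eq_self.1 ?_)⟩
      rw [← cj_cj (cj k q * q) r, ← cj_cj (cj k q) q, ht1]
      have e7 : (⟨true, true, false, (true, false)⟩ : TEl).ev t u z a k = t * (a * u) := by
        simp [TEl.ev, El.ev, pz, mul_assoc]
      have e8 : a * u = (⟨false, true, false, (true, false)⟩ : TEl).ev t u z a k := by
        simp [TEl.ev, El.ev, pz]
      have e9 : t * z = (TEl.cen true false true).ev t u z a k := by simp [Frame.ev_cen, pz]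
      rw [e7, cj_mul q, cj_mul q, hqt, hqa, hqu, e8, ← F.ev_mul,
        show (⟨true, true, false, (true, true)⟩ : TEl).mul ⟨false, true, false, (true, false)⟩ =
          TEl.cen true false true by rfl, ← e9, cj_mul, hrt, hrz, mul_assoc, h.z2, mul_one]
    obtain ⟨Y, hY, hYe⟩ := F.mem_E1.1 hE
    let Z := rMul false (⟨false, false, true, (false, false)⟩, false) (rMul false (Y, false) (TEl.one, true))
    have hZ : rEv Z t u z a k r = cj q k := by
      simp only [Z]
      rw [hR, hR, hev, hev, hYe, Frame.ev_k, vr, mul_assoc _ r r, hr2, mul_one, cj, cj, inv_eq_of_mul_eq_one_right h.k2,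
        inv_eq_of_mul_eq_one_right hq2, show k * (k * q * k * q) = k * k * (q * k * q) by group, h.k2, one_mul]
    have hnk : ¬ IsConj t k := fun hcc => by
      have := (h.conj_T_iff h4 ⟨false, false, true, (false, false)⟩ rfl).1 (by rwa [Frame.ev_k])
      simp at this
    have hsq : rMul false Z Z = (TEl.one, false) := hinj (by
      simp only [hR, hone, hZ, ← cj_mul, h.k2, cj_one])
    have he : Z.1.e = false := by
      by_contra hne
      simp only [Bool.not_eq_false] at hne
      exact hnk (((h.conj_R0_iff h4 hc hρ Z hsq).2 hne).trans (hZ ▸ (isConj_cj q k).symm))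
    have hq1 : Z.1.q = true := by simp [Z, rMul, hY, TEl.one]
    have hb : Z.2 = true := by simp [Z, rMul]
    have key : ∀ X : TEl × Bool, rMul false X X = (TEl.one, false) → X.1.e = false → X.1.q = true →
        X.2 = true → X = (⟨false, false, true, (X.1.c.1, X.1.c.2)⟩, true) := by decide +kernel
    exact ⟨Z.1.c.1, Z.1.c.2, by rw [← key Z hsq he hq1 hb, hZ]⟩
  have hqr : cj q r = r := by
    have hb : cj q (cj q k) = k := by rw [cj_cj, hq2, cj_by_one]
    have he : rEv (⟨false, false, true, (i, j)⟩, true) t u z a k r = k * r * pz u z (i, j) := by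
      simp [rEv, TEl.emb, El.ev, mul_assoc]
    have hζ : cj q (pz u z (i, j)) = pz u z (i, j) := by
      cases i <;> cases j <;> simp [pz, cj_mul, hqu, hqz]
    rw [hqk, he, cj_mul, cj_mul, hqk, he, hζ] at hb
    have h1 : r * pz u z (i, j) * cj q r * pz u z (i, j) = 1 := by
      apply mul_left_cancel (a := k)
      rw [mul_one, show k * (r * pz u z (i, j) * cj q r * pz u z (i, j)) =
        k * r * pz u z (i, j) * cj q r * pz u z (i, j) by group]
      exact hb
    have hζ2 : pz u z (i, j) * pz u z (i, j) = 1 := by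
      rw [pz_add h.u2 h.z2 h.zu]
      have : zadd (i, j) (i, j) = (false, false) := by cases i <;> cases j <;> rfl
      rw [this, pz_one]
    have hζr : pz u z (i, j) * r = r * pz u z (i, j) := by
      simpa using (h.real_R0 h4 hc hρ).cz_pw4 true (i, j)
    calc cj q r = (r * pz u z (i, j))⁻¹ * (r * pz u z (i, j) * cj q r * pz u z (i, j)) *
          (pz u z (i, j))⁻¹ := by group
      _ = r := by
        rw [h1, mul_one, mul_inv_rev, inv_eq_of_mul_eq_one_right hr2, inv_eq_of_mul_eq_one_right hζ2, hζr,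
          mul_assoc, hζ2, mul_one]
  have hsr : cj s r = r := cj_eq_self.2 (by rw [hr_def]; group)
  -- the conjugate of `q` under `s`
  obtain ⟨α, β, hsa⟩ := hc.sa
  set q' := cj s q with hq'_def
  have hq'v : ∀ x, cj q' (cj s x) = cj s (cj q x) := fun x => by
    rw [cj_cj, cj_cj, show s * q' = q * s by rw [hq'_def, cj]; group]
  have hcsz : ∀ i j, cj s (pz u z (i, j)) = pz u z (i, xor i j) := by
    intro i j
    cases i <;> cases j <;> simp [pz, cj_mul, hc.su, hsz, mul_assoc, h.z2]
  have hcqz : ∀ i j, cj q (pz u z (i, j)) = pz u z (i, j) := by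
    intro i j
    cases i <;> cases j <;> simp [pz, cj_mul, hqu, hqz]
  have hza : ∀ i j, a * pz u z (i, j) = (⟨false, true, false, (i, j)⟩ : TEl).ev t u z a k := fun i j => by
    simp [TEl.ev, El.ev]
  have hzk : ∀ i j, k * pz u z (i, j) = (⟨false, false, true, (i, j)⟩ : TEl).ev t u z a k := fun i j => by
    simp [TEl.ev, El.ev]
  have hks : cj s (a * pz u z (α, xor α β)) = k := by
    rw [cj_mul, hcsz, hsa, ← hzk, mul_assoc, pz_add h.u2 h.z2 h.zu,
      show zadd (α, β) (α, xor α (xor α β)) = (false, false) by cases α <;> cases β <;> rfl, pz_one, mul_one]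
  have has : cj s (k * pz u z (α, β)) = a := by
    have h1 : cj s (cj s a) = a := by rw [cj_cj]; exact hc.fa
    rwa [hsa, ← hzk] at h1
  have hq'u : cj q' u = u := by
    have : cj s (u * z) = u := by rw [cj_mul, hc.su, hsz, mul_assoc, h.z2, mul_one]
    have h1 := hq'v (u * z)
    rwa [cj_mul q u z, hqu, hqz, this] at h1
  have hq'z : cj q' z = z := by
    have h1 := hq'v z
    rwa [hsz, hqz, hsz] at h1
  have hq'r : cj q' r = r := by
    have h1 := hq'v r
    rwa [hsr, hqr, hsr] at h1
  have hq'k : cj q' k = k := by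
    have h1 := hq'v (a * pz u z (α, xor α β))
    rwa [cj_mul q, hqa, hcqz, hks] at h1
  have hq'a : cj q' a = rEv (⟨false, true, false, (i, xor i j)⟩, true) t u z a k r := by
    have h1 := hq'v (k * pz u z (α, β))
    rw [cj_mul q, hqk, hcqz, has] at h1
    rw [h1, show rEv (⟨false, false, true, (i, j)⟩, true) t u z a k r = k * r * pz u z (i, j) by
      simp [rEv, TEl.emb, El.ev, mul_assoc]]
    have hswap : k * r * pz u z (i, j) * pz u z (α, β) = k * pz u z (α, β) * (r * pz u z (i, j)) := by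
      have c1 : pz u z (α, β) * r = r * pz u z (α, β) := by
        simpa using (h.real_R0 h4 hc hρ).cz_pw4 true (α, β)
      rw [mul_assoc _ (pz u z (i, j)), pz_add h.u2 h.z2 h.zu, zadd_comm, ← pz_add h.u2 h.z2 h.zu,
        ← mul_assoc, mul_assoc k r, ← c1]
      group
    rw [hswap, cj_mul, has, cj_mul, hsr, hcsz]
    simp [rEv, TEl.emb, El.ev, mul_assoc]
  have hq't : cj q' t = (⟨true, false, true, (!α, β)⟩ : TEl).ev t u z a k := by
    have h0 : cj s (t * (u * z)) = t := by
      rw [cj_mul, cj_mul, hc.st, hc.su, hsz, show t * u * (u * z * z) = t * (u * u) * (z * z) by group,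
        h.u2, h.z2, mul_one, mul_one]
    have h1 := hq'v (t * (u * z))
    rw [h0, cj_mul q, cj_mul q, hqu, hqz, hqt] at h1
    have e4 : (⟨true, true, false, (true, true)⟩ : TEl).ev t u z a k * (u * z) =
        t * a := by
      have e5 : t * a = (⟨true, true, false, (false, false)⟩ : TEl).ev t u z a k := by simp [TEl.ev, El.ev, pz]
      rw [e5, show u * z = (TEl.cen false true true).ev t u z a k by simp [Frame.ev_cen, pz], ← F.ev_mul]
      rfl
    rw [h1, e4, cj_mul, hc.st, hsa,
      show t * u = (TEl.cen true true false).ev t u z a k by simp [Frame.ev_cen, pz], ← F.ev_mul]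
    congr 1
    clear * -
    revert α β
    decide
  -- the element `η`
  set η := q * q' with hη_def
  let Xt : TEl × Bool := rMul false (rMul false (⟨true, false, true, (!α, β)⟩, false)
    (⟨false, true, false, (i, xor i j)⟩, true)) (TEl.cen false true true, false)
  let Xa : TEl × Bool := (⟨false, true, false, (i, xor i j)⟩, true)
  let Xk : TEl × Bool := (⟨false, false, true, (i, j)⟩, true)
  let Xu : TEl × Bool := (TEl.cen false true false, false)
  have hηz : cj η z = z := by rw [hη_def, ← cj_cj, hqz, hq'z]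
  have hηu : cj η u = u := by rw [hη_def, ← cj_cj, hqu, hq'u]
  have hηr : cj η r = r := by rw [hη_def, ← cj_cj, hqr, hq'r]
  have hηa : cj η a = rEv Xa t u z a k r := by rw [hη_def, ← cj_cj, hqa, hq'a]
  have hηk : cj η k = rEv Xk t u z a k r := by
    rw [hη_def, ← cj_cj, hqk, show rEv (⟨false, false, true, (i, j)⟩, true) t u z a k r = k * r * pz u z (i, j)
      by simp [rEv, TEl.emb, El.ev, mul_assoc], cj_mul, cj_mul, hq'k, hq'r,
      show cj q' (pz u z (i, j)) = pz u z (i, j) by cases i <;> cases j <;> simp [pz, cj_mul, hq'u, hq'z]]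
  have hηt : cj η t = rEv Xt t u z a k r := by
    rw [hη_def, ← cj_cj, hqt, show (⟨true, true, false, (true, true)⟩ : TEl).ev t u z a k = t * a * (u * z) by
      simp [TEl.ev, El.ev, pz, mul_assoc], cj_mul, cj_mul, cj_mul, hq't, hq'a, hq'u, hq'z]
    simp only [Xt]
    rw [hR, hR, hev, hev, Frame.ev_cen]
    simp [pz]
  have hη := fun x => h.cj_rEv h4 hc hρ hηt hηa hηk (hηu.trans vu.symm) hηr hηz x
  -- the subgroups of `R₀`
  set R := (h.real_R0 h4 hc hρ).range
  have memR : ∀ {g : G}, g ∈ R ↔ ∃ x, rEv x t u z a k r = g := fun {g} => h.mem_R0 h4 hc hρ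
  have memR' : ∀ x, rEv x t u z a k r ∈ R := fun x => memR.2 ⟨x, rfl⟩
  let R1 : Subgroup G :=
    { carrier := {g | ∃ x, rPar x = false ∧ rEv x t u z a k r = g}
      one_mem' := ⟨_, rfl, hone⟩
      mul_mem' := by
        rintro _ _ ⟨x, hx, rfl⟩ ⟨y, hy, rfl⟩
        refine ⟨rMul false x y, ?_, hR x y⟩
        revert hx hy
        simp only [rPar, rMul]
        cases x.1.p <;> cases x.1.q <;> cases y.1.p <;> cases y.1.q <;> simp
      inv_mem' := by
        rintro _ ⟨x, hx, rfl⟩
        obtain ⟨y, hy⟩ := memR.1 (inv_mem (memR' x))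
        refine ⟨y, ?_, hy⟩
        have e : rMul false x y = (TEl.one, false) := hinj (by
          simp only [hR, hy, mul_inv_cancel, hone])
        have e' := congrArg rPar e
        revert hx e'
        simp only [rPar, rMul, TEl.one]
        cases x.1.p <;> cases x.1.q <;> cases y.1.p <;> cases y.1.q <;> simp }
  have hR1R : R1 ≤ R := fun g ⟨x, _, e⟩ => memR.2 ⟨x, e⟩
  have hR1c : Nat.card R1 = 32 := by
    let e : {x : TEl × Bool // rPar x = false} ≃ R1 :=
      Equiv.ofBijective (fun x => ⟨rEv x.1 t u z a k r, x.1, x.2, rfl⟩)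
        ⟨fun x y e => Subtype.ext (hinj (congrArg Subtype.val e)), fun ⟨g, x, hx, hg⟩ =>
          ⟨⟨x, hx⟩, Subtype.ext hg⟩⟩
    rw [← Nat.card_congr e, Nat.card_eq_fintype_card]
    rfl
  have hηR : ∀ g ∈ R, cj η g ∈ R := fun g hg => by
    obtain ⟨x, rfl⟩ := memR.1 hg
    exact memR.2 ⟨_, (hη x).symm⟩
  have hηR1 : ∀ g ∈ R1, cj η g ∈ R1 := by
    rintro g ⟨x, hx, rfl⟩
    refine ⟨_, ?_, (hη x).symm⟩
    obtain ⟨c1, c2, c3, c4⟩ := rHom_coords Xt Xa Xk Xu x
    simp only [rPar] at hx ⊢
    rw [c2, c3]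
    simp only [Xt, Xa, Xk, Xu, rMul, TEl.cen]
    revert hx
    cases x.1.e <;> cases x.1.p <;> cases x.1.q <;> cases x.1.c.1 <;> simp
  let St : TEl × Bool := (TEl.cen true true false, false)
  let Sa : TEl × Bool := (⟨false, false, true, (α, β)⟩, false)
  let Sk : TEl × Bool := (⟨false, true, false, (α, xor α β)⟩, false)
  let Su : TEl × Bool := (TEl.cen false true true, false)
  have hsk : cj s k = rEv Sk t u z a k r := by
    have h1 : cj s k * cj s (pz u z (α, β)) = a := by rw [← cj_mul, has]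
    rw [hcsz] at h1
    simp only [Sk]
    rw [hev, ← hza, eq_mul_inv_of_mul_eq h1]
    congr 1
    apply inv_eq_of_mul_eq_one_right
    rw [pz_add h.u2 h.z2 h.zu, show zadd (α, xor α β) (α, xor α β) = (false, false) by
      cases α <;> cases β <;> rfl, pz_one]
  have hs := fun x => h.cj_rEv h4 hc hρ (g := s) (Xt := St) (Xa := Sa) (Xk := Sk) (Xu := Su)
    (by rw [hc.st, hev, Frame.ev_cen]; simp [pz])
    (by rw [hsa, hev]) hsk (by rw [hc.su, hev, Frame.ev_cen]; simp [pz]) hsr hsz x
  have hsR : ∀ g ∈ R, cj s g ∈ R := fun g hg => by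
    obtain ⟨x, rfl⟩ := memR.1 hg
    exact memR.2 ⟨_, (hs x).symm⟩
  have hsR1 : ∀ g ∈ R1, cj s g ∈ R1 := by
    rintro g ⟨x, hx, rfl⟩
    refine ⟨_, ?_, (hs x).symm⟩
    obtain ⟨c1, c2, c3, c4⟩ := rHom_coords St Sa Sk Su x
    simp only [rPar] at hx ⊢
    rw [c2, c3]
    simp only [St, Sa, Sk, Su, TEl.cen]
    revert hx
    cases x.1.e <;> cases x.1.p <;> cases x.1.q <;> cases x.1.c.1 <;> simp
  have hrR1 : r ∈ R1 := ⟨_, rfl, vr⟩
  -- `η² ∈ R₁`
  have hη2 : η * η ∈ R1 := by
    have ca : cj (η * η) a = a := by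
      rw [← cj_cj, hηa, hη]
      conv_rhs => rw [← va]
      congr 1
      simp only [Xa, Xk, Xu, rHom, pwM]
      clear * -
      cases i <;> cases j <;> rfl
    have ck : cj (η * η) k = k := by
      rw [← cj_cj, hηk, hη]
      conv_rhs => rw [← vk]
      congr 1
      simp only [Xa, Xk, Xu, rHom, pwM]
      clear * -
      cases i <;> cases j <;> rfl
    have cu : cj (η * η) u = u := by rw [← cj_cj, hηu, hηu]
    have hmem : η * η ∈ L := cj_closure fun x hx => by
      rcases hx with rfl | rfl | rfl | rfl | rfl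
      · rw [← cj_cj, hηt, hη]
        obtain ⟨-, -, -, c4⟩ := rHom_coords Xt Xa Xk Xu Xt
        have h0 : (rHom Xt Xa Xk Xu Xt).2 = false := by
          rw [c4]
          simp only [Xt, Xa, Xk, Xu, rMul, TEl.cen]
          simp
        rw [show rHom Xt Xa Xk Xu Xt = ((rHom Xt Xa Xk Xu Xt).1, false) from Prod.ext rfl h0, hev]
        exact h.ev_mem _
      · rw [cu]; exact h.u_mem
      · rw [← cj_cj, hηz, hηz]; exact h.z_mem
      · rw [ca]; exact h.a_mem
      · rw [ck]; exact h.k_mem
    have hfixu : ∀ l ∈ tG t u z a k, cj l u = u := fun l hl => by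
      have := h.cen_comm false true false hl
      rw [Frame.ev_u] at this
      exact cj_eq_self.2 this
    obtain ⟨x, hx⟩ : ∃ x, rEv x t u z a k r = η * η := by
      have huz : u * z ≠ u := fun e => h.z_ne_one (mul_eq_left.1 e)
      rcases h.cj_t_four h4 hmem with e | e | e | e
      · obtain ⟨X, hX⟩ := F.mem_T.1 (h.cj_fix_of_T hmem e)
        exact ⟨(X, false), by rw [hev, hX]⟩
      · obtain ⟨X, hX⟩ := F.mem_T.1 (h.cj_fix_of_T (mul_mem hmem (mul_mem hc.memL hc.memL))
          (by rw [← cj_cj, e, cj_mul, hrt, hrz, mul_assoc, h.z2, mul_one]))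
        refine ⟨rMul false (X, false) (TEl.one, true), ?_⟩
        rw [hR, hev, hX, vr, hr_def, mul_assoc _ r r, hr2, mul_one]
      · exfalso
        have hT := hfixu _ (h.cj_fix_of_T (mul_mem hmem (inv_mem hc.memL))
          (by rw [← cj_cj, e, cj_inv_left hc.st]))
        rw [← cj_cj, cu] at hT
        exact huz (hc.su.symm.trans (by simpa using cj_inv_left hT))
      · exfalso
        have hT := hfixu _ (h.cj_fix_of_T (mul_mem hmem hc.memL) (by
          rw [← cj_cj, e, cj_mul, cj_mul, hc.st, hc.su, hsz,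
            show t * u * (u * z * z) = t * (u * u) * (z * z) by group, h.u2, h.z2, mul_one, mul_one]))
        rw [← cj_cj, cu, hc.su] at hT
        exact huz hT
    refine ⟨x, ?_, hx⟩
    have key : ∀ x : TEl × Bool,
        rMul false x (⟨false, true, false, (false, false)⟩, false) =
          rMul false (⟨false, true, false, (false, false)⟩, false) x →
        rMul false x (⟨false, false, true, (false, false)⟩, false) =
          rMul false (⟨false, false, true, (false, false)⟩, false) x → rPar x = false := by decide +kernel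
    refine key x (hinj ?_) (hinj ?_)
    · simp only [hR, va, hx]; exact cj_eq_self.1 ca
    · simp only [hR, vk, hx]; exact cj_eq_self.1 ck
  -- `H` and `M`
  have hsη : cj s η = η⁻¹ := by
    have h1 : cj s q' = q := by rw [hq'_def, cj_cj]; exact cj_eq_self.2 (cj_eq_self.1 hqr).symm
    rw [hη_def, cj_mul, ← hq'_def, h1, mul_inv_rev, inv_eq_of_mul_eq_one_right hq2,
      inv_eq_of_mul_eq_one_right (show q' * q' = 1 by rw [hq'_def, ← cj_mul, hq2, cj_one])]
  have hηs : ∀ v, s⁻¹ * cj η (s * v) = η * η * cj η v := fun v => by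
    have e : η⁻¹ * s = s * η := by
      have : cj s η⁻¹ = η := by rw [cj_inv, hsη, inv_inv]
      calc η⁻¹ * s = s * cj s η⁻¹ := by rw [cj]; group
        _ = s * η := by rw [this]
    calc s⁻¹ * cj η (s * v) = s⁻¹ * (η⁻¹ * s) * η * cj η v := by simp [cj, mul_assoc]
      _ = η * η * cj η v := by rw [e]; group
  let A := extTwo R s hsR (hR1R hrR1)
  have hηA : ∀ g ∈ A, cj η g ∈ A := by
    intro g hg
    rcases mem_extTwo.1 hg with hg | hg
    · exact le_extTwo (hηR g hg)
    · refine Or.inr ?_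
      have := hηs (s⁻¹ * g)
      rw [mul_inv_cancel_left] at this
      rw [this]
      exact mul_mem (hR1R hη2) (hηR _ hg)
  let B := extTwo R1 s hsR1 hrR1
  have hηB : ∀ g ∈ B, cj η g ∈ B := by
    intro g hg
    rcases mem_extTwo.1 hg with hg | hg
    · exact le_extTwo (hηR1 g hg)
    · refine Or.inr ?_
      have := hηs (s⁻¹ * g)
      rw [mul_inv_cancel_left] at this
      rw [this]
      exact mul_mem hη2 (hηR1 _ hg)
  let H := extTwo A η hηA (le_extTwo (hR1R hη2))
  let M := extTwo B η hηB (le_extTwo hη2)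
  have hRt : ∀ x : TEl × Bool, cj (rEv x t u z a k r) t = t * pw z x.2 := by
    intro x
    rw [show t * pw z x.2 = rEv (TEl.cen true false x.2, false) t u z a k r by
      rw [hev, Frame.ev_cen]; simp [pz], cj, mul_assoc, inv_mul_eq_iff_eq_mul]
    conv_lhs => arg 1; rw [← vt]
    rw [← hR, ← hR]
    congr 1
    revert x
    decide +kernel
  have hRc : ∀ i j x, rEv x t u z a k r * (TEl.cen false i j).ev t u z a k =
      (TEl.cen false i j).ev t u z a k * rEv x t u z a k r := by
    intro i j x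
    rw [← hev, ← hR, ← hR]
    congr 1
    revert x i j
    decide +kernel
  have hRz : ∀ x, cj (rEv x t u z a k r) z = z := fun x => by
    have := hRc false true x
    rw [Frame.ev_z] at this
    exact cj_eq_self.2 this
  have hRu : ∀ g ∈ R, cj g u = u := by
    intro g hg
    obtain ⟨x, rfl⟩ := memR.1 hg
    have := hRc true false x
    rw [Frame.ev_u] at this
    exact cj_eq_self.2 this
  have hsnR : s ∉ R := fun hm => by
    have := hRu s hm
    rw [hc.su] at this
    exact h.z_ne_one (mul_eq_left.1 this)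
  have hηnA : η ∉ A := fun hm => by
    have hAL : A ≤ L := by
      have hRL : R ≤ L := fun g hg => by
        obtain ⟨x, rfl⟩ := memR.1 hg
        exact h.rEv_mem h4 hc x (Subgroup.le_normalizer h.t_mem) (Subgroup.le_normalizer h.u_mem)
          (Subgroup.le_normalizer h.z_mem) (Subgroup.le_normalizer h.a_mem)
          (fun _ => Subgroup.le_normalizer h.k_mem) (mul_mem hc.memL hc.memL)
      intro g hg
      rcases mem_extTwo.1 hg with hg | hg
      · exact hRL hg
      · simpa using mul_mem hc.memL (hRL hg)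
    have hT := nrm_iff.1 (hAL hm) t h.t_mem
    obtain ⟨X, hX⟩ := F.mem_T.1 hT
    rw [hηt, ← hev] at hX
    have := congrArg Prod.snd (hinj hX)
    simp [Xt, rMul, TEl.cen] at this
  have hMH : M ≤ H := extTwo_mono (extTwo_mono hR1R)
  have hH256 : Nat.card H = 256 := by
    rw [card_extTwo hηnA, card_extTwo hsnR, h.card_R0 h4 hc hρ]
  have hM128 : Nat.card M = 128 := by
    rw [card_extTwo (fun hm => hηnA (extTwo_mono hR1R hm)), card_extTwo (fun hm => hsnR (hR1R hm)), hR1c]
  have hHM : Nat.card H = 2 * Nat.card M := by rw [hH256, hM128]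
  have hMR : ∀ g ∈ R, g ∈ M → g ∈ R1 := by
    intro g hg hm
    rcases mem_extTwo.1 hm with hm | hm
    · rcases mem_extTwo.1 hm with hm | hm
      · exact hm
      · exact absurd (inv_mem_iff.1 ((mul_mem_cancel_right hg).1 (hR1R hm))) hsnR
    · exact absurd (inv_mem_iff.1 ((mul_mem_cancel_right (le_extTwo hg : g ∈ A)).1
        (extTwo_mono hR1R hm))) hηnA
  -- no conjugates of `t` in two cosets
  have hsnone : ∀ v ∈ R, ¬ IsConj t (s * v) := by
    intro v hv hcv
    obtain ⟨x, rfl⟩ := memR.1 hv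
    have h2 : cj (s * rEv x t u z a k r) (cj (s * rEv x t u z a k r) t) = t := by
      rw [cj_cj, h.conj_sq hcv, cj_by_one]
    have hu' : cj (s * rEv x t u z a k r) u = u * z := by
      have hzf : cj (rEv x t u z a k r) z = z := hRz x
      rw [← cj_cj, hc.su, cj_mul, hRu _ (memR' x), hzf]
    have ht' : cj (s * rEv x t u z a k r) t = t * pw z x.2 * u := by
      rw [← cj_cj, hc.st, cj_mul, hRt, hRu _ (memR' x)]
    have hz' : cj (s * rEv x t u z a k r) (pw z x.2) = pw z x.2 := by
      cases x.2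
      · simp
      · simp only [pw_true]
        have hzf : cj (rEv x t u z a k r) z = z := hRz x
        rw [← cj_cj, hsz, hzf]
    rw [ht', cj_mul, cj_mul, ht', hz', hu'] at h2
    have e5 : ∀ b, t * pw z b * u * pw z b * (u * z) = (TEl.cen true false true).ev t u z a k := by
      intro b
      have e6 : pw z b * u = u * pw z b := by cases b <;> simp [h.zu]
      rw [mul_assoc t, e6, show t * (u * pw z b) * pw z b * (u * z) = t * (u * (pw z b * pw z b) * u) * z by group,
        show pw z b * pw z b = 1 by cases b <;> simp [h.z2], mul_one, h.u2, mul_one]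
      simp [Frame.ev_cen, pz]
    rw [e5] at h2
    exact absurd (h.ev_inj.1 (h2.trans Frame.ev_t.symm)) (by decide)
  have hηsnone : ∀ v ∈ R, ¬ IsConj t (η * s * v) := by
    intro v hv hcv
    have hqs : cj q (η * s) = s := by
      have h0 : cj q η = η⁻¹ := by
        rw [hη_def, cj, mul_inv_rev, inv_eq_of_mul_eq_one_right hq2,
          inv_eq_of_mul_eq_one_right (show q' * q' = 1 by rw [hq'_def, ← cj_mul, hq2, cj_one]),
          show q * (q * q') * q = q * q * (q' * q) by group, hq2, one_mul]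
      have h1 : cj q s = s * η⁻¹ := by
        rw [hη_def, mul_inv_rev, inv_eq_of_mul_eq_one_right hq2,
          inv_eq_of_mul_eq_one_right (show q' * q' = 1 by rw [hq'_def, ← cj_mul, hq2, cj_one]),
          hq'_def, cj, cj, inv_eq_of_mul_eq_one_right hq2]
        group
      have h2 : η⁻¹ * s = s * η := by
        have : cj s η⁻¹ = η := by rw [cj_inv, hsη, inv_inv]
        calc η⁻¹ * s = s * cj s η⁻¹ := by rw [cj]; group
          _ = s * η := by rw [this]
      rw [cj_mul, h0, h1, ← mul_assoc, h2, mul_inv_cancel_right]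
    obtain ⟨x, rfl⟩ := memR.1 hv
    have hq_R := h.cj_rEv h4 hc hρ (g := q) (Xt := (⟨true, true, false, (true, true)⟩, false))
      (Xa := (⟨false, true, false, (false, false)⟩, false)) (Xk := Xk) (Xu := Xu)
      (by rw [hqt, hev]) (by rw [hqa, va]) hqk (by rw [hqu]; exact vu.symm) hqr hqz x
    have := hcv.trans (isConj_cj q _)
    rw [cj_mul, hqs, hq_R] at this
    exact hsnone _ (memR' _) this
  -- counting
  set U := conjIn t ((H : Set G) \ M) with hU_def
  set U' := {y | y ∈ U ∧ y ∉ R}
  let S : Finset (TEl × Bool) := Finset.univ.filter fun x =>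
    rPar x = true ∧ x.1.e = true ∧ rMul false x x = (TEl.one, false)
  have hsplit : U = (S.image fun x => rEv x t u z a k r : Set G) ∪ U' := by
    ext y
    simp only [Set.mem_union, Finset.coe_image, Set.mem_image, Finset.mem_coe, S, Finset.mem_filter,
      Finset.mem_univ, true_and, U', Set.mem_setOf_eq]
    constructor
    · intro hy
      by_cases hyR : y ∈ R
      · refine Or.inl ?_
        obtain ⟨x, rfl⟩ := memR.1 hyR
        have hsq : rMul false x x = (TEl.one, false) := hinj (by
          simp only [hR, hone, h.conj_sq hy.2])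
        refine ⟨x, ⟨?_, (h.conj_R0_iff h4 hc hρ x hsq).1 hy.2, hsq⟩, rfl⟩
        by_contra hp
        exact hy.1.2 (le_extTwo (le_extTwo ⟨x, by simpa using hp, rfl⟩))
      · exact Or.inr ⟨hy, hyR⟩
    · rintro (⟨x, ⟨hp, he, hsq⟩, rfl⟩ | ⟨hy, -⟩)
      · refine ⟨⟨le_extTwo (le_extTwo (memR' x)), fun hm => ?_⟩, (h.conj_R0_iff h4 hc hρ x hsq).2 he⟩
        obtain ⟨x', hx', he'⟩ := hMR _ (memR' x) hm
        rw [hinj he'] at hx'
        rw [hp] at hx'
        exact Bool.noConfusion hx'
      · exact hy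
  have hdisj : Disjoint (S.image fun x => rEv x t u z a k r : Set G) U' := by
    rw [Set.disjoint_left]
    intro y hy hy'
    simp only [Finset.coe_image, Set.mem_image] at hy
    obtain ⟨x, -, rfl⟩ := hy
    exact hy'.2 (memR' x)
  -- elements outside `R₀` have small centralisers
  have hsmall : ∀ v ∈ U', Nat.card (H ⊓ centralizer ({v} : Set G) : Subgroup G) < 32 := by
    intro v hv'
    obtain ⟨⟨⟨hvH, -⟩, hvc⟩, hvR⟩ := hv'
    set C := H ⊓ centralizer ({v} : Set G)
    have hH2 : IsPGroup 2 H := IsPGroup.of_card (n := 8) (by rw [hH256]; norm_num)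
    have hC2 : IsPGroup 2 C := hH2.to_le inf_le_left
    refine lt_of_le_of_ne (h.card_le_32 hvc hC2 inf_le_right) fun h32 => ?_
    obtain ⟨x0, hx0⟩ : ∃ x0, rEv x0 t u z a k r = η⁻¹ * v := by
      rw [← memR]
      rcases mem_extTwo.1 hvH with hm | hm
      · rcases mem_extTwo.1 hm with hm | hm
        · exact absurd hm hvR
        · exact absurd (by simpa using hvc) (hsnone _ hm)
      · rcases mem_extTwo.1 hm with hm | hm
        · exact hm
        · exact absurd (by simpa [mul_assoc] using hvc) (hηsnone _ hm)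
    have hv : v = η * rEv x0 t u z a k r := by rw [hx0, mul_inv_cancel_left]
    have hvu : cj v u = u := by rw [hv, ← cj_cj, hηu, hRu _ (memR' x0)]
    have hsx : ∀ x ∈ C, s⁻¹ * x ∈ R → False := by
      intro x hx hxR
      obtain ⟨y, hy⟩ := memR.1 hxR
      have hxe : x = s * rEv y t u z a k r := by rw [hy, mul_inv_cancel_left]
      have hzf : cj (rEv y t u z a k r) z = z := hRz y
      have hxu : cj x u = u * z := by rw [hxe, ← cj_cj, hc.su, cj_mul, hRu _ (memR' y), hzf]
      have hxz : cj x z = z := by rw [hxe, ← cj_cj, hsz, hzf]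
      have hxt : cj x t = t * pw z y.2 * u := by
        rw [hxe, ← cj_cj, hc.st, cj_mul, hRt, hRu _ (memR' y)]
      have hx2t : cj (x * x) t = t * z := by
        rw [← cj_cj, hxt, cj_mul, cj_mul, hxt, hxu]
        cases y.2
        · simp only [pw_false, mul_one, cj_one]
          rw [show t * u * (u * z) = t * (u * u) * z by group, h.u2, mul_one]
        · simp only [pw_true, hxz]
          rw [show t * z * u * z * (u * z) = t * (z * u) * (z * u) * z by group, h.zu,
            show t * (u * z) * (u * z) * z = t * (u * (z * u) * (z * z)) by group, h.zu, h.z2, mul_one,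
            ← mul_assoc u, h.u2, one_mul]
      have hx21 : x * x ≠ 1 := fun e => h.z_ne_one (by
        rw [e, cj_by_one] at hx2t
        exact mul_eq_left.1 hx2t.symm)
      have huC : u ∈ C := mem_inf.2
        ⟨le_extTwo (le_extTwo (vu ▸ memR' _)), mem_cent.2 (cj_eq_self.1 hvu).symm⟩
      have hcomm : u * x = x * u * z := by
        rw [mul_assoc, ← hxu, cj]; group
      have := h.comm_eq hvc hC2 inf_le_right huC hx hx hcomm h.z_ne_one hx21
      rw [this, cj_eq_self.2 h.tz] at hx2t
      exact h.z_ne_one (mul_eq_left.1 hx2t.symm)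
    have hfix : ∀ d ∈ C, ∀ y, rEv y t u z a k r = d → y.1.e = false ∧ y.1.p = y.1.q := by
      intro d hd y hy
      have hcm : cj v d = d := cj_eq_self.2 (mem_cent.1 (mem_inf.1 hd).2).symm
      rw [hv, ← cj_cj, ← hy, hη, cj, mul_assoc, inv_mul_eq_iff_eq_mul, ← hR, ← hR] at hcm
      have he' := hinj hcm
      obtain ⟨c1, c2, c3, c4⟩ := rHom_coords Xt Xa Xk Xu y
      have d2 : xor (rHom Xt Xa Xk Xu y).1.p x0.1.p = xor x0.1.p y.1.p :=
        congrArg (fun X : TEl × Bool => X.1.p) he'
      have d4 : xor (rHom Xt Xa Xk Xu y).2 x0.2 = xor x0.2 y.2 :=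
        congrArg (fun X : TEl × Bool => X.2) he'
      rw [c2] at d2
      rw [c4] at d4
      simp only [Xt, Xa, Xk, Xu, rMul, TEl.cen] at d2 d4
      revert d2 d4
      cases x0.1.p <;> cases x0.2 <;> cases y.1.e <;> cases y.1.p <;> cases y.1.q <;> cases y.1.c.1 <;>
        cases y.2 <;> simp
    have hRcomm : ∀ y y' : TEl × Bool, y.1.e = false ∧ y.1.p = y.1.q → y'.1.e = false ∧ y'.1.p = y'.1.q →
        rMul false y y' = rMul false y' y := by decide +kernel
    have hvC : v ∈ C := mem_inf.2 ⟨hvH, mem_cent.2 rfl⟩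
    have hform : ∀ g ∈ C, ∃ d ∈ C, d ∈ R ∧ (g = d ∨ g = v * d) := by
      intro g hg
      rcases mem_extTwo.1 (mem_inf.1 hg).1 with hm | hm
      · rcases mem_extTwo.1 hm with hm | hm
        · exact ⟨g, hg, hm, Or.inl rfl⟩
        · exact (hsx g hg hm).elim
      · rcases mem_extTwo.1 hm with hm | hm
        · refine ⟨v⁻¹ * g, mul_mem (inv_mem hvC) hg, ?_, Or.inr (mul_inv_cancel_left v g).symm⟩
          rw [hv, mul_inv_rev, mul_assoc]
          exact mul_mem (inv_mem (memR' x0)) hm
        · refine (hsx (v⁻¹ * g) (mul_mem (inv_mem hvC) hg) ?_).elim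
          rw [show s⁻¹ * (v⁻¹ * g) = cj s (rEv x0 t u z a k r)⁻¹ * (s⁻¹ * (η⁻¹ * g)) by
            rw [hv, cj]; group]
          exact mul_mem (hsR _ (inv_mem (memR' x0))) hm
    refine h.not_abelian hvc hC2 inf_le_right h32 fun g hg f hf => ?_
    obtain ⟨d, hd, hdR, hgd⟩ := hform g hg
    obtain ⟨d', hd', hdR', hfd⟩ := hform f hf
    obtain ⟨y, hy⟩ := memR.1 hdR
    obtain ⟨y', hy'⟩ := memR.1 hdR'
    have cdd : d * d' = d' * d := by
      rw [← hy, ← hy', ← hR, ← hR, hRcomm y y' (hfix d hd y hy) (hfix d' hd' y' hy')]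
    have cv : d * v = v * d := mem_cent.1 (mem_inf.1 hd).2
    have cv' : d' * v = v * d' := mem_cent.1 (mem_inf.1 hd').2
    rcases hgd with rfl | rfl <;> rcases hfd with rfl | rfl
    · exact cdd
    · rw [← mul_assoc, cv, mul_assoc, cdd, ← mul_assoc]
    · rw [mul_assoc, cdd, ← mul_assoc, ← cv', mul_assoc]
    · calc v * d * (v * d') = v * (d * v) * d' := by group
        _ = v * (v * d) * d' := by rw [cv]
        _ = v * v * (d * d') := by group
        _ = v * v * (d' * d) := by rw [cdd]
        _ = v * (v * d') * d := by group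
        _ = v * (d' * v) * d := by rw [cv']
        _ = v * d' * (v * d) := by group
  have hinv : ∀ g ∈ H, ∀ y ∈ U', g * y * g⁻¹ ∈ U' := by
    have hHR : H ≤ nrm R := by
      have hsN : s ∈ nrm R := nrm_iff.2 hsR
      have hηN : η ∈ nrm R := nrm_iff.2 hηR
      intro g hg
      rcases mem_extTwo.1 hg with hm | hm
      · rcases mem_extTwo.1 hm with hm | hm
        · exact Subgroup.le_normalizer hm
        · simpa using mul_mem hsN (Subgroup.le_normalizer hm)
      · rcases mem_extTwo.1 hm with hm | hm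
        · simpa using mul_mem hηN (Subgroup.le_normalizer hm)
        · simpa [← mul_assoc] using mul_mem (mul_mem hηN hsN) (Subgroup.le_normalizer hm)
    intro g hg y hy
    obtain ⟨⟨⟨hyH, hyM⟩, hyc⟩, hyR⟩ := hy
    refine ⟨⟨⟨mul_mem (mul_mem hg hyH) (inv_mem hg), fun hm => hyM ?_⟩, ?_⟩, fun hm => hyR ?_⟩
    · have := subgroup_index_two_normal hMH hHM g⁻¹ (inv_mem hg) _ hm
      simpa [mul_assoc] using this
    · have := hyc.trans (isConj_cj g⁻¹ y)
      rwa [cj, inv_inv] at this
    · have := nrm_iff.1 (hHR hg) _ hm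
      simpa [cj, mul_assoc] using this
  obtain ⟨c, hcc⟩ := dvd_card_of_small_centralizer H U' 4 4 (by rw [hH256]; norm_num) hinv
    (fun v hv => by simpa using hsmall v hv)
  have hcount : Nat.card U = 8 + 16 * c := by
    rw [Nat.card_coe_set_eq, hsplit, Set.ncard_union_eq hdisj (Set.toFinite _) (Set.toFinite _),
      Set.ncard_coe_finset, Finset.card_image_of_injective _ hinj,
      show S.card = 8 by simp only [S]; decide +kernel, ← Nat.card_coe_set_eq, hcc]
    norm_num
  obtain ⟨m, hm, hcm⟩ := h.card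
  refine index_two_of_diff H M t h.t2 hMH hHM ((1 + 2 * c) * m) ?_ ?_
  · rw [← hU_def, hcount, hcm, hH256]; ring
  · exact Nat.odd_iff.1 ((odd_one.add_even (even_two_mul c)).mul hm)

end Hyp

end Cfsg.Agent.TwoTimesSym
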