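import Cfsg.Agent.TwoTimesSym.Orbit

/-!
The normaliser of `E = ⟨t, u, z, a⟩` and the orbit of `t` under it.
-/

set_option autoImplicit false

namespace Cfsg.Agent.TwoTimesSym

open Subgroup

variable {G : Type*} [Group G] {t u z a k : G}

/-- The central element of `T` conjugate under `C(t) ∩ N(E)` to a given element of `E`. -/
def TEl.rho (x : TEl) : Bool × Bool × Bool :=
  if x.p then (if x.c.1 then (x.e, false, true) else (x.e, true, false)) else (x.e, x.c.1, x.c.2)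

namespace Hyp

variable [Finite G] (h : Hyp t u z a k)
include h

theorem T_le_N1 : tG t u z a k ≤ nrm (eG t u z a) := by
  intro g hg
  obtain ⟨X, rfl⟩ := h.toFrame.mem_T.1 hg
  refine cj_closure fun x hx => ?_
  obtain ⟨Y, hY, rfl⟩ := h.toFrame.mem_E1.1 (subset_closure hx)
  obtain ⟨Z, hZ, hZe⟩ : ∃ Z : TEl, Z.q = false ∧ X.mul Z = Y.mul X := by
    have key : ∀ X Y : TEl, Y.q = false →
        X.mul ⟨Y.e, Y.p, false, (Y.c.1, xor Y.c.2 (X.q && Y.p))⟩ = Y.mul X := by decide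
    exact ⟨_, rfl, key X Y hY⟩
  refine h.toFrame.mem_E1.2 ⟨Z, hZ, ?_⟩
  have := congrArg (fun x : TEl => x.ev t u z a k) hZe
  simp only [h.toFrame.ev_mul] at this
  rw [cj, mul_assoc, ← this, inv_mul_cancel_left]

theorem card_N1C : Nat.card (nrm (eG t u z a) ⊓ centralizer ({t} : Set G) : Subgroup G) = 96 := by
  rw [← h.ne1]
  refine Nat.card_congr (Equiv.subtypeEquivRight fun g => ?_)
  rw [mem_inf, mem_cent, nrm_iff, and_comm]

theorem card_N1 : Nat.card (nrm (eG t u z a)) = Nat.card (orb (nrm (eG t u z a)) t) * 96 := by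
  rw [card_eq_orb_mul (nrm (eG t u z a)) t, h.card_N1C]

theorem orb1_mem {y : G} (hy : y ∈ orb (nrm (eG t u z a)) t) : y ∈ eG t u z a := by
  obtain ⟨g, hg, rfl⟩ := hy
  exact nrm_iff.1 hg t (subset_closure (.inl rfl))

theorem orb1_adjust {e i j : Bool} (hy : (TEl.cen e i j).ev t u z a k ∈ orb (nrm (eG t u z a)) t) :
    ∃ l ∈ nrm (eG t u z a) ⊓ nrm (tG t u z a k), cj l t = (TEl.cen e i j).ev t u z a k := by
  obtain ⟨g, hg, hgy⟩ := hy
  exact h.adjust h.T_le_N1 hg hgy h.T_le_cent (h.cen_le_cent e i j)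
    (fun P hP hle => h.card_le_32 (isConj_iff_cj.2 ⟨g, hgy⟩) hP (le_trans hle inf_le_right))

omit [Finite G] in
theorem w1_vals {w : G} (e2 : cj w a = a * z) (e3 : cj w (a * z) = u) : cj w z = a * z * u := by
  have : z = a * (a * z) := by rw [← mul_assoc, h.a2, one_mul]
  conv_lhs => rw [this]
  rw [cj_mul, e2, e3]

theorem exists_w1 : ∃ w ∈ nrm (eG t u z a) ⊓ centralizer ({t} : Set G),
    cj w u = a ∧ cj w a = a * z ∧ cj w z = a * z * u := by
  obtain ⟨w, hw, e1, e2, e3⟩ := h.w1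
  have e4 := h.w1_vals e2 e3
  refine ⟨w, mem_inf.2 ⟨cj_closure fun x hx => ?_, mem_cent.2 hw⟩, e1, e2, e4⟩
  have hm : ∀ v ∈ ({t, u, z, a} : Set G), v ∈ eG t u z a := fun v hv => subset_closure hv
  rcases hx with rfl | rfl | rfl | rfl
  · rw [cj_eq_self.2 hw]; exact hm _ (by simp)
  · rw [e1]; exact hm _ (by simp)
  · rw [e4]; exact mul_mem (mul_mem (hm _ (by simp)) (hm _ (by simp))) (hm _ (by simp))
  · rw [e2]; exact mul_mem (hm _ (by simp)) (hm _ (by simp))

/-- Conjugation by an element acting like `w1`, in coordinates. -/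
theorem w1_cj {w : G} (ht : cj w t = t) (e1 : cj w u = a) (e2 : cj w a = a * z) (e4 : cj w z = a * z * u)
    (x : TEl) (hx : x.q = false) :
    cj w (x.ev t u z a k) = (⟨x.e, xor (xor x.c.1 x.p) x.c.2, false, (x.c.2, xor x.p x.c.2)⟩ : TEl).ev
      t u z a k := by
  have F := h.toFrame
  obtain ⟨e, p, q, i, j⟩ := x
  obtain rfl : q = false := hx
  have hp : ∀ (v : G) (b : Bool), cj w (pw v b) = pw (cj w v) b := fun v b => by cases b <;> simp
  have he : ∀ (e p i j : Bool), (⟨e, p, false, (i, j)⟩ : TEl).ev t u z a k =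
      pw t e * pw a p * (pw u i * pw z j) := fun e p i j => by simp [TEl.ev, El.ev, pz]
  rw [he, cj_mul, cj_mul, cj_mul, hp, hp, hp, hp, ht, e1, e2, e4]
  have f1 : ∀ b, pw t b = (TEl.cen b false false).ev t u z a k := by
    intro b; cases b <;> simp [TEl.ev, El.ev, TEl.cen, pz]
  have f2 : ∀ b, pw (a * z) b = (⟨false, b, false, (false, b)⟩ : TEl).ev t u z a k := by
    intro b; cases b <;> simp [TEl.ev, El.ev, pz]
  have f3 : ∀ b, pw (a * z * u) b = (⟨false, b, false, (b, b)⟩ : TEl).ev t u z a k := by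
    intro b; cases b <;> simp [TEl.ev, El.ev, pz, mul_assoc, h.zu]
  have f4 : ∀ b, pw a b = (⟨false, b, false, (false, false)⟩ : TEl).ev t u z a k := by
    intro b; cases b <;> simp [TEl.ev, El.ev, pz]
  rw [f1, f2, f3, f4, ← F.ev_mul, ← F.ev_mul, ← F.ev_mul]
  congr 1
  revert e p i j
  decide

/-- Every element of `E` is conjugate in `N(E) ∩ C(t)` to a central element of `T`. -/
theorem E1_to_central {x : TEl} (hx : x.q = false) :
    ∃ g ∈ nrm (eG t u z a) ⊓ centralizer ({t} : Set G),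
      cj g (x.ev t u z a k) = (TEl.cen x.rho.1 x.rho.2.1 x.rho.2.2).ev t u z a k := by
  obtain ⟨w, hw, e1, e2, e4⟩ := h.exists_w1
  have ht : cj w t = t := cj_eq_self.2 (mem_cent.1 (mem_inf.1 hw).2)
  let f : TEl → TEl := fun y => ⟨y.e, xor (xor y.c.1 y.p) y.c.2, false, (y.c.2, xor y.p y.c.2)⟩
  have key : ∀ y : TEl, y.q = false → TEl.cen y.rho.1 y.rho.2.1 y.rho.2.2 = y ∨
      TEl.cen y.rho.1 y.rho.2.1 y.rho.2.2 = f y ∨ TEl.cen y.rho.1 y.rho.2.1 y.rho.2.2 = f (f y) := by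
    decide
  rcases key x hx with e | e | e
  · exact ⟨1, one_mem _, by rw [cj_by_one, e]⟩
  · exact ⟨w, hw, by rw [h.w1_cj ht e1 e2 e4 x hx, e]⟩
  · refine ⟨w * w, mul_mem hw hw, ?_⟩
    rw [← cj_cj, h.w1_cj ht e1 e2 e4 x hx, h.w1_cj ht e1 e2 e4 (f x) rfl, e]

theorem orb1_iff {x : TEl} (hx : x.q = false) :
    x.ev t u z a k ∈ orb (nrm (eG t u z a)) t ↔
      (TEl.cen x.rho.1 x.rho.2.1 x.rho.2.2).ev t u z a k ∈ orb (nrm (eG t u z a)) t := by
  obtain ⟨g, hg, he⟩ := h.E1_to_central hx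
  constructor
  · intro hy
    rw [← he]
    exact orb_cj hy (mem_inf.1 hg).1
  · intro hy
    rw [← cj_inv_left he]
    exact orb_cj hy (inv_mem (mem_inf.1 hg).1)

theorem card_orb1 (P : Bool → Bool → Bool → Bool)
    (hP : ∀ e i j, (TEl.cen e i j).ev t u z a k ∈ orb (nrm (eG t u z a)) t ↔ P e i j = true) :
    Nat.card (orb (nrm (eG t u z a)) t) =
      (Finset.univ.filter fun x : TEl => x.q = false ∧ P x.rho.1 x.rho.2.1 x.rho.2.2 = true).card := by
  rw [← Nat.card_eq_finsetCard]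
  set F := Finset.univ.filter fun x : TEl => x.q = false ∧ P x.rho.1 x.rho.2.1 x.rho.2.2 = true
  have hmem : ∀ x : F, (x : TEl).ev t u z a k ∈ orb (nrm (eG t u z a)) t := fun x => by
    have := (Finset.mem_filter.1 x.2).2
    rw [h.orb1_iff this.1, hP]
    exact this.2
  refine (Nat.card_congr (Equiv.ofBijective (fun x : F => ⟨(x : TEl).ev t u z a k, hmem x⟩) ⟨?_, ?_⟩)).symm
  · intro x y e
    exact Subtype.ext (h.ev_inj.1 (congrArg Subtype.val e))
  · rintro ⟨y, hy⟩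
    obtain ⟨X, hX, rfl⟩ := h.toFrame.mem_E1.1 (h.orb1_mem hy)
    refine ⟨⟨X, Finset.mem_filter.2 ⟨Finset.mem_univ _, hX, ?_⟩⟩, rfl⟩
    rw [← hP, ← h.orb1_iff hX]
    exact hy

end Hyp

end Cfsg.Agent.TwoTimesSym
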