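import Mathlib

/-!
Permutations of `Fin n` as lists of values, for fast evaluation of finite facts.
-/

set_option autoImplicit false

namespace Cfsg.Agent.TwoTimesSym

/-- The lists of length `m` without repetition and with entries below `n`. -/
def injL (n : ℕ) : ℕ → List (List ℕ)
  | 0 => [[]]
  | m + 1 => (injL n m).flatMap fun l => ((List.range n).filter fun x => !(l.elem x)).map fun x => x :: l

theorem mem_injL {n : ℕ} : ∀ (l : List ℕ), l.Nodup → (∀ x ∈ l, x < n) → l ∈ injL n l.length
  | [], _, _ => by simp [injL]
  | x :: l, hd, hb => by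
    rw [List.nodup_cons] at hd
    simp only [List.length_cons, injL, List.mem_flatMap, List.mem_map, List.mem_filter, List.mem_range]
    exact ⟨l, mem_injL l hd.2 fun y hy => hb y (List.mem_cons_of_mem _ hy), x,
      ⟨hb x (List.mem_cons_self ..), by simp [hd.1]⟩, rfl⟩

variable {n : ℕ}

/-- The list of values of a permutation. -/
def code (σ : Equiv.Perm (Fin n)) : List ℕ := List.ofFn fun i => (σ i : ℕ)

/-- Composition on lists of values. -/
def mulL (l m : List ℕ) : List ℕ := m.map fun i => l.getD i 0

theorem code_injective : Function.Injective (code (n := n)) := fun _ _ h =>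
  Equiv.ext fun i => Fin.ext (congrFun (List.ofFn_inj.1 h) i)

theorem code_getD (σ : Equiv.Perm (Fin n)) (i : Fin n) : (code σ).getD (i : ℕ) 0 = (σ i : ℕ) := by
  simp [code, List.getD_eq_getElem?_getD]

theorem code_mul (σ τ : Equiv.Perm (Fin n)) : code (σ * τ) = mulL (code σ) (code τ) := by
  refine List.ext_getElem (by simp [code, mulL]) fun i h1 h2 => ?_
  simp only [mulL, List.getElem_map]
  simp only [code, List.getElem_ofFn, Equiv.Perm.mul_apply]
  exact (code_getD σ _).symm

theorem code_one : code (1 : Equiv.Perm (Fin n)) = List.range n := by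
  refine List.ext_getElem (by simp [code]) fun i h1 h2 => ?_
  simp [code]

theorem code_mem (σ : Equiv.Perm (Fin n)) : code σ ∈ injL n n := by
  have := mem_injL (n := n) (code σ) (List.nodup_ofFn.2 fun i j h => σ.injective (Fin.ext h))
    (fun x hx => by obtain ⟨i, rfl⟩ := List.mem_ofFn.1 hx; exact (σ i).2)
  simpa [code] using this

theorem forall_perm {f : List ℕ → Bool} (h : (injL n n).all f = true) (σ : Equiv.Perm (Fin n)) :
    f (code σ) = true :=
  List.all_eq_true.1 h _ (code_mem σ)

theorem card_filter_perm {P : Equiv.Perm (Fin n) → Prop} [DecidablePred P] {f : List ℕ → Bool}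
    (hlen : (injL n n).length = n.factorial) (hf : ∀ σ, P σ ↔ f (code σ) = true) :
    (Finset.univ.filter P).card = (injL n n).countP f := by
  classical
  set L := injL n n
  have hc : (Finset.univ.image (code (n := n))).card = n.factorial := by
    rw [Finset.card_image_of_injective _ code_injective, Finset.card_univ, Fintype.card_perm, Fintype.card_fin]
  have hsub : Finset.univ.image (code (n := n)) ⊆ L.toFinset := fun l hl => by
    obtain ⟨σ, -, rfl⟩ := Finset.mem_image.1 hl
    exact List.mem_toFinset.2 (code_mem σ)
  have hle : L.toFinset.card ≤ n.factorial := hlen ▸ List.toFinset_card_le L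
  have heq : Finset.univ.image (code (n := n)) = L.toFinset :=
    Finset.eq_of_subset_of_card_le hsub (by rw [hc]; exact hle)
  have hnd : L.Nodup := by
    have e : L.dedup.length = L.length := by rw [← List.card_toFinset, ← heq, hc, hlen]
    have := L.dedup_sublist.eq_of_length e
    rw [← this]
    exact L.nodup_dedup
  rw [List.countP_eq_length_filter, ← List.toFinset_card_of_nodup (hnd.filter f), List.toFinset_filter, ← heq,
    Finset.filter_image, Finset.card_image_of_injective _ code_injective]
  congr 1
  ext σ
  simp [hf σ]

theorem forall_perm_iff {f : List ℕ → Bool} {P : Equiv.Perm (Fin n) → Prop}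
    (h : (injL n n).all f = true) (hf : ∀ σ, f (code σ) = true → P σ) (σ : Equiv.Perm (Fin n)) : P σ :=
  hf σ (forall_perm h σ)

/-- The number of moved points. -/
def movedL (n : ℕ) (l : List ℕ) : ℕ := (List.range n).countP fun i => l.getD i 0 != i

theorem card_support (σ : Equiv.Perm (Fin n)) : σ.support.card = movedL n (code σ) := by
  classical
  rw [movedL, ← List.map_coe_finRange_eq_range, List.countP_map, List.countP_eq_length_filter,
    ← List.toFinset_card_of_nodup ((List.nodup_finRange n).filter _)]
  congr 1
  ext i
  simp [← List.getD_eq_getElem?_getD, code_getD, Fin.ext_iff]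

end Cfsg.Agent.TwoTimesSym
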