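import Cfsg.Agent.TwoTimesSym.Instance
import Cfsg.Agent.TwoTimesSym.PermList

/-!
The facts on `Sₙ` reduced to evaluations on lists of values.
-/

set_option autoImplicit false

namespace Cfsg.Agent.TwoTimesSym

/-- The values of the sixteen elements. -/
def wSeven : Bool × Bool × Bool × Bool → List ℕ
  | (false, false, false, false) => [0, 1, 2, 3, 4, 5, 6]
  | (false, false, false, true) => [1, 0, 3, 2, 4, 5, 6]
  | (false, false, true, false) => [0, 1, 2, 3, 5, 4, 6]
  | (false, false, true, true) => [1, 0, 3, 2, 5, 4, 6]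
  | (false, true, false, false) => [2, 3, 0, 1, 4, 5, 6]
  | (false, true, false, true) => [3, 2, 1, 0, 4, 5, 6]
  | (false, true, true, false) => [2, 3, 0, 1, 5, 4, 6]
  | (false, true, true, true) => [3, 2, 1, 0, 5, 4, 6]
  | (true, false, false, false) => [1, 0, 2, 3, 4, 5, 6]
  | (true, false, false, true) => [0, 1, 3, 2, 4, 5, 6]
  | (true, false, true, false) => [1, 0, 2, 3, 5, 4, 6]
  | (true, false, true, true) => [0, 1, 3, 2, 5, 4, 6]
  | (true, true, false, false) => [2, 3, 1, 0, 4, 5, 6]
  | (true, true, false, true) => [3, 2, 0, 1, 4, 5, 6]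
  | (true, true, true, false) => [2, 3, 1, 0, 5, 4, 6]
  | (true, true, true, true) => [3, 2, 0, 1, 5, 4, 6]

/-- The values cut to `n` points. -/
def wL (n : ℕ) (b : Bool × Bool × Bool × Bool) : List ℕ := (wSeven b).take n

/-- All exponents. -/
def bitsL : List (Bool × Bool × Bool × Bool) :=
  [false, true].flatMap fun p => [false, true].flatMap fun q => [false, true].flatMap fun i =>
    [false, true].map fun j => (p, q, i, j)

/-- Exponents with `q` zero. -/
def bits1L : List (Bool × Bool × Bool × Bool) := bitsL.filter fun b => !b.2.1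

/-- Exponents with `p` zero. -/
def bits2L : List (Bool × Bool × Bool × Bool) := bitsL.filter fun b => !b.1

theorem mem_bitsL : ∀ b, b ∈ bitsL := by decide

theorem exists_bits1 {P : Bool × Bool × Bool × Bool → Prop} :
    (∃ b ∈ bits1L, P b) ↔ ∃ p i j, P (p, false, i, j) := by
  constructor
  · rintro ⟨⟨p, q, i, j⟩, hb, h⟩
    obtain rfl : q = false := by simpa [bits1L] using (List.mem_filter.1 hb).2
    exact ⟨p, i, j, h⟩
  · rintro ⟨p, i, j, h⟩
    exact ⟨_, List.mem_filter.2 ⟨mem_bitsL _, rfl⟩, h⟩

theorem exists_bits2 {P : Bool × Bool × Bool × Bool → Prop} :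
    (∃ b ∈ bits2L, P b) ↔ ∃ q i j, P (false, q, i, j) := by
  constructor
  · rintro ⟨⟨p, q, i, j⟩, hb, h⟩
    obtain rfl : p = false := by simpa [bits2L] using (List.mem_filter.1 hb).2
    exact ⟨q, i, j, h⟩
  · rintro ⟨q, i, j, h⟩
    exact ⟨_, List.mem_filter.2 ⟨mem_bitsL _, rfl⟩, h⟩

theorem exists_bits {P : Bool × Bool × Bool × Bool → Prop} : (∃ b ∈ bitsL, P b) ↔ ∃ b, P b :=
  ⟨fun ⟨b, _, h⟩ => ⟨b, h⟩, fun ⟨b, h⟩ => ⟨b, mem_bitsL b, h⟩⟩

/-- Commutation of lists of values. -/
def commL (l m : List ℕ) : Bool := mulL l m == mulL m l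

/-- `v` is moved by `l` into the chosen elements. -/
def normL (n : ℕ) (S : List (Bool × Bool × Bool × Bool)) (v l : List ℕ) : Bool :=
  S.any fun b => mulL v l == mulL l (wL n b)

/-- `l` is one of the chosen elements. -/
def inL (n : ℕ) (S : List (Bool × Bool × Bool × Bool)) (l : List ℕ) : Bool := S.any fun b => l == wL n b

/-- The values of the transposition of `0` and `i`. -/
def swapL (n i : ℕ) : List ℕ := (List.range n).map fun j => if j = 0 then i else if j = i then 0 else j

/-- The checks on lists. -/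
def checkCenter (n : ℕ) (l : List ℕ) : Bool :=
  !((List.range n).all fun i => commL l (swapL n i)) || l == List.range n

/-- The check for the normaliser of `T`. -/
def checkNormT (n : ℕ) (l : List ℕ) : Bool :=
  !(normL n bitsL (wL n (true, false, false, false)) l && normL n bitsL (wL n (false, true, false, false)) l &&
    normL n bitsL (wL n (false, false, true, false)) l && normL n bitsL (wL n (false, false, false, true)) l) ||
    inL n bitsL l

/-- The check for `C(E)`. -/
def checkCent1 (n : ℕ) (l : List ℕ) : Bool :=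
  !(commL l (wL n (false, false, true, false)) && commL l (wL n (false, false, false, true)) &&
    commL l (wL n (true, false, false, false))) || inL n bits1L l

/-- The check for `C(E')`. -/
def checkCent2 (n : ℕ) (l : List ℕ) : Bool :=
  !(commL l (wL n (false, false, true, false)) && commL l (wL n (false, false, false, true)) &&
    commL l (wL n (false, true, false, false))) || inL n bits2L l

/-- Membership in `N(E)`. -/
def inNE1 (n : ℕ) (l : List ℕ) : Bool :=
  normL n bits1L (wL n (false, false, true, false)) l &&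
    (normL n bits1L (wL n (false, false, false, true)) l && normL n bits1L (wL n (true, false, false, false)) l)

/-- Membership in `N(E')`. -/
def inNE2 (n : ℕ) (l : List ℕ) : Bool :=
  normL n bits2L (wL n (false, false, true, false)) l &&
    (normL n bits2L (wL n (false, false, false, true)) l && normL n bits2L (wL n (false, true, false, false)) l)

/-- The check for `C(u) ∩ N(E)`. -/
def checkNU (n : ℕ) (l : List ℕ) : Bool :=
  !(commL l (wL n (false, false, true, false)) && normL n bits1L (wL n (false, false, false, true)) l &&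
    normL n bits1L (wL n (true, false, false, false)) l) || inL n bitsL l

/-- The check for `C(uz) ∩ N(E')`. -/
def checkNB (n : ℕ) (l : List ℕ) : Bool :=
  !(commL l (wL n (false, false, true, true)) && normL n bits2L (wL n (false, false, true, false)) l &&
    normL n bits2L (wL n (false, true, false, false)) l) || inL n bitsL l

/-- Involutions moving `c` points. -/
def isInv (n c : ℕ) (l : List ℕ) : Bool := movedL n l == c && mulL l l == List.range n

variable {n : ℕ}

theorem commL_iff (σ v : Equiv.Perm (Fin n)) : commL (code σ) (code v) = true ↔ σ * v = v * σ := by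
  rw [commL, beq_iff_eq, ← code_mul, ← code_mul, code_injective.eq_iff]

theorem isInv_iff (c : ℕ) (σ : Equiv.Perm (Fin n)) :
    σ * σ = 1 ∧ σ.support.card = c ↔ isInv n c (code σ) = true := by
  rw [isInv, Bool.and_eq_true, beq_iff_eq, beq_iff_eq, ← code_mul, ← code_one, code_injective.eq_iff,
    card_support, and_comm]

theorem pfacts_of_lists [NeZero n] (hW : ∀ b, code (pW b : Equiv.Perm (Fin n)) = wL n b)
    (hS : ∀ i : Fin n, code (Equiv.swap 0 i) = swapL n i)
    (hlen : (injL n n).length = n.factorial)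
    (rel : (pU * pU = (1 : Equiv.Perm (Fin n))) ∧ pZ * pZ = (1 : Equiv.Perm (Fin n)) ∧
      pA * pA = (1 : Equiv.Perm (Fin n)) ∧ pK * pK = (1 : Equiv.Perm (Fin n)) ∧
      pZ * pU = (pU * pZ : Equiv.Perm (Fin n)) ∧ pU * pA = (pA * pU : Equiv.Perm (Fin n)) ∧
      pU * pK = (pK * pU : Equiv.Perm (Fin n)) ∧ pZ * pA = (pA * pZ : Equiv.Perm (Fin n)) ∧
      pZ * pK = (pK * pZ : Equiv.Perm (Fin n)) ∧ pK * pA = (pA * pK * pZ : Equiv.Perm (Fin n)))
    (hinj : ∀ b, wL n b = List.range n → b = (false, false, false, false))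
    (hcard : ∃ m, Odd m ∧ 2 * n.factorial = 32 * m) (small : n < 8)
    (w1 : ∃ σ : Equiv.Perm (Fin n), pU * σ = σ * pA ∧ pA * σ = σ * (pA * pZ) ∧ pA * pZ * σ = σ * pU)
    (w2 : ∃ σ : Equiv.Perm (Fin n), pU * σ = σ * pU ∧ pZ * σ = σ * pK ∧ pK * σ = σ * (pK * pZ))
    (supp : (pU : Equiv.Perm (Fin n)).support.card = 2 ∧ (pA : Equiv.Perm (Fin n)).support.card = 2 ∧
      (pZ : Equiv.Perm (Fin n)).support.card = 4 ∧ (pK : Equiv.Perm (Fin n)).support.card = 4 ∧
      (pU * pZ : Equiv.Perm (Fin n)).support.card = 6 ∧ (pU * pK : Equiv.Perm (Fin n)).support.card = 6)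
    (k1 : (injL n n).all (checkCenter n) = true) (k2 : (injL n n).all (checkNormT n) = true)
    (k3 : (injL n n).all (checkCent1 n) = true) (k4 : (injL n n).all (checkCent2 n) = true)
    (k5 : (injL n n).countP (inNE1 n) = 48) (k6 : (injL n n).countP (inNE2 n) = 48)
    (k7 : (injL n n).all (checkNU n) = true) (k8 : (injL n n).all (checkNB n) = true)
    (k9 : (injL n n).countP (isInv n 4) % 4 = 1) (k10 : (injL n n).countP (isInv n 2) % 2 = 1)
    (k11 : (injL n n).countP (isInv n 6) % 2 = 1) : PFacts n := by
  have eA : code (pA : Equiv.Perm (Fin n)) = wL n (true, false, false, false) := by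
    rw [← hW]; simp [pW, pA]
  have eK : code (pK : Equiv.Perm (Fin n)) = wL n (false, true, false, false) := by
    rw [← hW]; simp [pW, pK]
  have eU : code (pU : Equiv.Perm (Fin n)) = wL n (false, false, true, false) := by
    rw [← hW]; simp [pW, pU]
  have eZ : code (pZ : Equiv.Perm (Fin n)) = wL n (false, false, false, true) := by
    rw [← hW]; simp [pW, pZ]
  have eB : code (pU * pZ : Equiv.Perm (Fin n)) = wL n (false, false, true, true) := by
    rw [← hW]; simp [pW, pU, pZ]
  have nrmIff : ∀ (S : List (Bool × Bool × Bool × Bool)) (v σ : Equiv.Perm (Fin n)),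
      normL n S (code v) (code σ) = true ↔ ∃ b ∈ S, v * σ = σ * pW b := fun S v σ => by
    simp only [normL, List.any_eq_true, beq_iff_eq, ← hW, ← code_mul, code_injective.eq_iff]
  have inIff : ∀ (S : List (Bool × Bool × Bool × Bool)) (σ : Equiv.Perm (Fin n)),
      inL n S (code σ) = true ↔ ∃ b ∈ S, σ = pW b := fun S σ => by
    simp only [inL, List.any_eq_true, beq_iff_eq, ← hW, code_injective.eq_iff]
  refine
    { rel := rel, inj := ?_, center := ?_, card := hcard, normT := ?_, cent1 := ?_, cent2 := ?_, ne1 := ?_,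
      ne2 := ?_, nu1 := ?_, nb2 := ?_, w1 := w1, w2 := w2, small := small, supp := supp, nz := ?_, nu := ?_,
      nb := ?_ }
  · intro b hb
    exact hinj b (by rw [← hW, hb, code_one])
  · intro σ hσ
    have := forall_perm k1 σ
    simp only [checkCenter, Bool.or_eq_true, Bool.not_eq_true', beq_iff_eq, ← code_one,
      code_injective.eq_iff] at this
    refine this.resolve_left fun hf => ?_
    have ht : ((List.range n).all fun i => commL (code σ) (swapL n i)) = true := by
      rw [List.all_eq_true]
      intro i hi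
      have := hS ⟨i, List.mem_range.1 hi⟩
      simp only at this
      rw [← this, commL_iff]
      exact hσ _
    rw [code_one, ht] at hf
    exact Bool.noConfusion hf
  · intro σ h1 h2 h3 h4
    have := forall_perm k2 σ
    simp only [checkNormT, ← eA, ← eK, ← eU, ← eZ, Bool.or_eq_true, Bool.not_eq_true', ← Bool.not_eq_true,
      Bool.and_eq_true, nrmIff, inIff, exists_bits] at this
    exact this.resolve_left (fun hn => hn ⟨⟨⟨h1, h2⟩, h3⟩, h4⟩)
  · intro σ h1 h2 h3
    have := forall_perm k3 σ
    simp only [checkCent1, ← eA, ← eU, ← eZ, Bool.or_eq_true, Bool.not_eq_true', ← Bool.not_eq_true,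
      Bool.and_eq_true, commL_iff, inIff, exists_bits1] at this
    exact this.resolve_left (fun hn => hn ⟨⟨h1, h2⟩, h3⟩)
  · intro σ h1 h2 h3
    have := forall_perm k4 σ
    simp only [checkCent2, ← eK, ← eU, ← eZ, Bool.or_eq_true, Bool.not_eq_true', ← Bool.not_eq_true,
      Bool.and_eq_true, commL_iff, inIff, exists_bits2] at this
    exact this.resolve_left (fun hn => hn ⟨⟨h1, h2⟩, h3⟩)
  · rw [card_filter_perm hlen (f := inNE1 n) (fun σ => ?_)]
    · exact k5
    · simp only [inNE1, ← eA, ← eU, ← eZ, Bool.and_eq_true, nrmIff, exists_bits1]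
  · rw [card_filter_perm hlen (f := inNE2 n) (fun σ => ?_)]
    · exact k6
    · simp only [inNE2, ← eK, ← eU, ← eZ, Bool.and_eq_true, nrmIff, exists_bits2]
  · intro σ h1 h2 h3
    have := forall_perm k7 σ
    simp only [checkNU, ← eA, ← eU, ← eZ, Bool.or_eq_true, Bool.not_eq_true', ← Bool.not_eq_true,
      Bool.and_eq_true, commL_iff, nrmIff, inIff, exists_bits1, exists_bits] at this
    exact this.resolve_left (fun hn => hn ⟨⟨h1, h2⟩, h3⟩)
  · intro σ h1 h2 h3
    have := forall_perm k8 σ
    simp only [checkNB, ← eK, ← eU, ← eB, Bool.or_eq_true, Bool.not_eq_true', ← Bool.not_eq_true,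
      Bool.and_eq_true, commL_iff, nrmIff, inIff, exists_bits2, exists_bits] at this
    exact this.resolve_left (fun hn => hn ⟨⟨h1, h2⟩, h3⟩)
  · rw [card_filter_perm hlen (f := isInv n 4) (fun σ => isInv_iff 4 σ)]; exact k9
  · rw [card_filter_perm hlen (f := isInv n 2) (fun σ => isInv_iff 2 σ)]; exact k10
  · rw [card_filter_perm hlen (f := isInv n 6) (fun σ => isInv_iff 6 σ)]; exact k11

end Cfsg.Agent.TwoTimesSym
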