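import Cfsg.Agent.TwoTimesSym.FixSetup

/-!
`L` fixes `u` and the element taking `t` to `tu` centralises `a`: then `Q` has order `128`.
-/

set_option autoImplicit false

namespace Cfsg.Agent.TwoTimesSym

open Subgroup

variable {G : Type*} [Group G] {t u z a k s g : G} {P : LP}

/-- The product of translations. -/
theorem TEl.trans_split : ∀ p i j p' i' j' : Bool,
    (⟨true, p', false, (i', j')⟩ : TEl).mul ⟨false, p, false, (i, j)⟩ =
      ⟨true, xor p p', false, (xor i i', xor j j')⟩ := by decide

namespace Hyp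

variable [Finite G] (h : Hyp t u z a k) (h4 : Four t u z)
include h h4

/-- `Q` acts by translations. -/
theorem Q_act {x : G} (hx : x ∈ qG t u z a) {p i j : Bool}
    (ht : cj x t = (⟨true, p, false, (i, j)⟩ : TEl).ev t u z a k) (p' i' j' : Bool) :
    cj x ((⟨true, p', false, (i', j')⟩ : TEl).ev t u z a k) =
      (⟨true, xor p p', false, (xor i i', xor j j')⟩ : TEl).ev t u z a k := by
  have hA : (⟨false, p', false, (i', j')⟩ : TEl).ev t u z a k ∈ aG u z a := h.mem_A.2 ⟨_, _, _, rfl⟩
  have hsplit : (⟨true, p', false, (i', j')⟩ : TEl).ev t u z a k =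
      (TEl.cen true false false).ev t u z a k * (⟨false, p', false, (i', j')⟩ : TEl).ev t u z a k := by
    rw [← h.toFrame.ev_mul]
    congr 1
    clear hA
    revert p' i' j'
    decide
  rw [hsplit, Frame.ev_t, cj_mul, ht, h.Q_fix_A hx hA, ← h.toFrame.ev_mul, TEl.trans_split,
    Bool.xor_comm p' p, Bool.xor_comm i' i, Bool.xor_comm j' j]

theorem transSet_cj {w c : G} (hw : w ∈ nrm (eG t u z a)) (hwt : cj w t = t)
    (hc : c ∈ transSet t u z a) : cj w c ∈ transSet t u z a := by
  obtain ⟨y, hy, hyc, rfl⟩ := hc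
  refine ⟨cj w y, h.Q_conj h4 hw hy, hyc.trans (isConj_cj w y), ?_⟩
  rw [show cj w y = w⁻¹ * y * w from rfl, ← cj_cj, ← cj_cj, cj_inv_left hwt]

variable (hP : LGen t u z a k s g P)
include hP

theorem fix_Q_mem (hfix : ∀ g ∈ nrm (tG t u z a k), cj g u = u) (hx : P.x = false) :
    s ∈ qG t u z a ∧ g ∈ qG t u z a := by
  refine ⟨mem_qG.2 ⟨h.L_le_N1 h4 hfix hP.sL, hP.su, h.cj_z hP.sL, ?_⟩,
    mem_qG.2 ⟨h.L_le_N1 h4 hfix hP.gL, hP.gu, h.cj_z hP.gL, hP.ga⟩⟩
  rw [hP.sa, hx, pw_false, mul_one]

omit h4 in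
theorem lEv_mem_Q (hsg : s ∈ qG t u z a ∧ g ∈ qG t u z a) (e : El) (he : e.b3 = false) :
    e.ev t a k s g u z ∈ qG t u z a := by
  have hm : ∀ v ∈ ({t, u, z, a} : Set G), v ∈ qG t u z a := fun v hv => h.E1_le_Q (subset_closure hv)
  exact El.ev_mem e (fun _ => hm t (by simp)) (fun _ => hm a (by simp))
    (fun e' => by simp [he] at e') (fun _ => hsg.1) (fun _ => hsg.2) (hm u (by simp)) (hm z (by simp))

omit h4 in
/-- An element of `Q` with central translation lies in `L`. -/
theorem Q_to_L (hsg : s ∈ qG t u z a ∧ g ∈ qG t u z a) {y : G} (hy : y ∈ qG t u z a) {i j : Bool}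
    (ht : cj y t = (TEl.cen true i j).ev t u z a k) :
    ∃ e : El, e.b3 = false ∧ e.b4 = xor i j ∧ e.b5 = j ∧ e.ev t a k s g u z = y := by
  let d : El := ⟨false, false, false, xor i j, j, (false, false)⟩
  have hd := h.lEv_mem_Q hP hsg d rfl
  have hE : y * (d.ev t a k s g u z)⁻¹ ∈ eG t u z a := by
    rw [← h.Q_inf_cent]
    refine mem_inf.2 ⟨mul_mem hy (inv_mem hd), mem_cent.2 (cj_eq_self.1 ?_)⟩
    rw [← cj_cj]
    refine cj_inv_left ?_
    rw [h.lEv_cj_t hP, ht]
    congr 2
    simp [d]
  obtain ⟨⟨e1, p, q, c⟩, hX, hXe⟩ := h.toFrame.mem_E1.1 hE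
  obtain rfl : q = false := hX
  let m : El := ⟨e1, p, false, false, false, c⟩
  refine ⟨(lData P).mul m d, rfl, by simp [CData.mul, m, d], by simp [CData.mul, m, d], ?_⟩
  rw [h.lEv_mul hP, show m.ev t a k s g u z = _ from hXe, inv_mul_cancel_right]

theorem fix_constraint (hx : P.x = false) : xor (xor (xor P.i P.j) P.c.1) P.y = false := by
  have hM := h.lEv_mul hP
  have hinj := h.lEv_injective hP
  have hone := (h.real_L hP).ev_one
  let w : El := ⟨false, false, true, true, true, (false, false)⟩
  let ta : El := ⟨true, true, false, false, false, (false, false)⟩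
  let ea : El := ⟨false, true, false, false, false, (false, false)⟩
  let ez : El := ⟨false, false, false, false, false, (false, true)⟩
  have key : ∀ P : LP, P.x = false →
      (lData P).mul w ta = (lData P).mul ta w ∧
        (lData P).mul ea w = (lData P).mul ((lData P).mul w ea) ez ∧
        ((lData P).mul w w = El.one ∨ (lData P).mul w w = ez →
          xor (xor (xor P.i P.j) P.c.1) P.y = false) := by decide +kernel
  obtain ⟨k1, k2, k3⟩ := key P hx
  have htac : IsConj t (ta.ev t a k s g u z) :=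
    (h.conj_T_iff h4 ⟨true, true, false, (false, false)⟩ rfl).2 rfl
  have hev : ez.ev t a k s g u z = z := by simp [ez, El.ev, pz]
  set C := nrm (tG t u z a k) ⊓ centralizer ({ta.ev t a k s g u z} : Set G)
  have hmem : ∀ e : El, (lData P).mul e ta = (lData P).mul ta e → e.ev t a k s g u z ∈ C := fun e he => by
    refine mem_inf.2 ⟨?_, mem_cent.2 (by rw [← hM, ← hM, he])⟩
    rw [← h.lRange_eq hP h4]
    exact (CReal.mem_range _).2 ⟨e, rfl⟩
  have ha : ea.ev t a k s g u z ∈ C := hmem ea (by
    have : ∀ P : LP, (lData P).mul ea ta = (lData P).mul ta ea := by decide +kernel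
    exact this P)
  have hne : ea.ev t a k s g u z * w.ev t a k s g u z = w.ev t a k s g u z * ea.ev t a k s g u z * z := by
    have h2 := congrArg (fun e : El => e.ev t a k s g u z) k2
    simp only [hM, hev] at h2
    exact h2
  refine k3 ?_
  by_cases hw : w.ev t a k s g u z * w.ev t a k s g u z = 1
  · exact Or.inl (hinj (by simp only [hM, hone, hw]))
  · refine Or.inr (hinj ?_)
    simp only [hM, hev]
    exact h.comm_eq htac ((h.isPGroup_L h4).to_le inf_le_left) inf_le_right ha (hmem w k1) (hmem w k1) hne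
      h.z_ne_one hw

theorem case_fix_A (hfix : ∀ g ∈ nrm (tG t u z a k), cj g u = u) (hx : P.x = false) :
    ∃ K : Subgroup G, K.index = 2 := by
  classical
  obtain ⟨χ0, hχ0⟩ := h.exists_chi hP h4
  have hcon := h.fix_constraint h4 hP hx
  have hM := h.lEv_mul hP
  have hone := (h.real_L hP).ev_one
  have hinj := h.lEv_injective hP
  obtain ⟨Px, y, i, j, c1, c2⟩ := P
  obtain rfl : Px = false := hx
  simp only at hcon
  obtain rfl : c1 = xor (xor i j) y := by revert hcon; cases i <;> cases j <;> cases y <;> cases c1 <;> simp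
  set P : LP := ⟨false, y, i, j, (xor (xor i j) y, c2)⟩ with hPdef
  -- relations between the unknown values
  have hshift : ∀ (e d : El) (X : TEl), d.ev t a k s g u z = X.ev t u z a k → (X.p && X.q) = false →
      (lData P).mul e e = El.one → (lData P).mul d d = El.one →
      (lData P).mul ((lData P).mul e d) ((lData P).mul e d) = El.one →
      (((lData P).mul e d).bits.pred P χ0 = xor (e.bits.pred P χ0) X.e) := by
    intro e d X hd hX he hd2 hed
    have e1 := congrArg (fun e : El => e.ev t a k s g u z) he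
    have e2 := congrArg (fun e : El => e.ev t a k s g u z) hd2
    have e3 := congrArg (fun e : El => e.ev t a k s g u z) hed
    simp only [hM, hone] at e1 e2 e3
    have hcomm : e.ev t a k s g u z * d.ev t a k s g u z = d.ev t a k s g u z * e.ev t a k s g u z := by
      calc _ = (e.ev t a k s g u z * d.ev t a k s g u z)⁻¹ := eq_inv_of_mul_eq_one_left e3
        _ = _ := by rw [mul_inv_rev, inv_eq_of_mul_eq_one_right e1, inv_eq_of_mul_eq_one_right e2]
    have hc := h.chi_mul h4 e1 e2 hcomm
    rw [← hM, hχ0, hχ0, hd, h.conj_T_iff h4 X hX] at hc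
    revert hc
    cases ((lData P).mul e d).bits.pred P χ0 <;> cases e.bits.pred P χ0 <;> cases X.e <;> simp
  have hz11 : χ0.z11 = !χ0.z01 := by
    have key : ∀ y i j c2 : Bool, ∃ ε : Bool,
        (lData ⟨false, y, i, j, (xor (xor i j) y, c2)⟩).mul ⟨ε, false, true, true, true, (false, false)⟩
            ⟨ε, false, true, true, true, (false, false)⟩ = El.one ∧
          (lData ⟨false, y, i, j, (xor (xor i j) y, c2)⟩).mul ⟨true, true, false, false, false, (false, false)⟩
            ⟨true, true, false, false, false, (false, false)⟩ = El.one ∧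
          ∃ c, (lData ⟨false, y, i, j, (xor (xor i j) y, c2)⟩).mul ⟨ε, false, true, true, true, (false, false)⟩
            ⟨true, true, false, false, false, (false, false)⟩ = ⟨!ε, true, true, true, true, c⟩ ∧
            (lData ⟨false, y, i, j, (xor (xor i j) y, c2)⟩).mul ⟨!ε, true, true, true, true, c⟩
              ⟨!ε, true, true, true, true, c⟩ = El.one := by decide +kernel
    obtain ⟨ε, q1, q2, c, q3, q4⟩ := key y i j c2
    have := hshift _ _ ⟨true, true, false, (false, false)⟩ rfl rfl q1 q2 (by rw [q3]; exact q4)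
    rw [q3] at this
    have s1 := (mul_self_eq_one_iff _ _).1 q1
    have s2 := (mul_self_eq_one_iff _ _).1 q4
    simp only [El.bits] at s1 s2
    rw [← hPdef] at s1 s2
    simp only [Bits.pred, El.bits, s1, s2, Chi.z, Bool.true_and, if_true, Bool.false_eq_true, if_false,
      Bool.xor_true] at this
    exact this
  have hz10 : y = false → χ0.z10 = χ0.z00 := by
    intro hy
    subst hy
    have key : ∀ i j c2 : Bool, ∃ ε : Bool,
        (lData ⟨false, false, i, j, (xor (xor i j) false, c2)⟩).mul ⟨ε, false, false, true, true, (false, false)⟩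
            ⟨ε, false, false, true, true, (false, false)⟩ = El.one ∧
          (lData ⟨false, false, i, j, (xor (xor i j) false, c2)⟩).mul ⟨false, true, false, false, false, (false, false)⟩
            ⟨false, true, false, false, false, (false, false)⟩ = El.one ∧
          ∃ c, (lData ⟨false, false, i, j, (xor (xor i j) false, c2)⟩).mul
            ⟨ε, false, false, true, true, (false, false)⟩
            ⟨false, true, false, false, false, (false, false)⟩ = ⟨ε, true, false, true, true, c⟩ ∧
            (lData ⟨false, false, i, j, (xor (xor i j) false, c2)⟩).mul ⟨ε, true, false, true, true, c⟩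
              ⟨ε, true, false, true, true, c⟩ = El.one := by decide +kernel
    obtain ⟨ε, q1, q2, c, q3, q4⟩ := key i j c2
    have := hshift _ _ ⟨false, true, false, (false, false)⟩ rfl rfl q1 q2 (by rw [q3]; exact q4)
    rw [q3] at this
    have s1 := (mul_self_eq_one_iff _ _).1 q1
    have s2 := (mul_self_eq_one_iff _ _).1 q4
    simp only [El.bits] at s1 s2
    rw [← hPdef] at s1 s2
    simp only [Bits.pred, El.bits, s1, s2, Chi.z, Bool.true_and, if_true, Bool.false_eq_true, if_false,
      Bool.xor_false] at this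
    exact this
  set χ : Chi := ⟨χ0.u, χ0.b, χ0.z00, χ0.z00, χ0.z01, !χ0.z01⟩ with hχdef
  have hχ : ∀ e : El, IsConj t (e.ev t a k s g u z) ↔ e.bits.pred P χ = true := by
    intro e
    rw [hχ0 e]
    suffices e.bits.pred P χ0 = e.bits.pred P χ by rw [this]
    obtain ⟨b1, b2, b3, b4, b5, c⟩ := e
    simp only [Bits.pred, El.bits, Chi.z, hχdef]
    cases b4 <;> cases b5 <;> cases b2 <;> cases b3 <;> simp [hz11]
    cases y
    · simp [hz10 rfl]
    · have key : ∀ i j c2 b1 : Bool,
          Bits.sqOne ⟨false, true, i, j, (xor (xor i j) true, c2)⟩ ⟨b1, true, false, true, true⟩ = false := by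
        decide +kernel
      have := key i j c2 b1
      simp only [Bool.xor_true] at this
      simp [P, this]
  -- the two functionals on `L`
  by_cases hu : χ0.u = false
  · refine h.L_criterion hP h4 hχ (fun b => b.b4) (fun _ _ => rfl) (by decide) ?_
    have key : ∀ y i j c2 ub z0 z1 : Bool,
        units ⟨false, y, i, j, (xor (xor i j) y, c2)⟩ ⟨false, ub, z0, z0, z1, !z1⟩ (fun b => b.b4) % 2 = 1 := by
      decide +kernel
    simpa [hχdef, hu, P] using key y i j c2 χ0.b χ0.z00 χ0.z01
  by_cases hb : χ0.b = y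
  · refine h.L_criterion hP h4 hχ (fun b => b.b5) (fun _ _ => rfl) (by decide) ?_
    have key : ∀ y i j c2 uu z0 z1 : Bool,
        units ⟨false, y, i, j, (xor (xor i j) y, c2)⟩ ⟨uu, y, z0, z0, z1, !z1⟩ (fun b => b.b5) % 2 = 1 := by
      decide +kernel
    simpa [hχdef, hb, P] using key y i j c2 χ0.u χ0.z00 χ0.z01
  replace hu : χ0.u = true := by simpa using hu
  replace hb : χ0.b = !y := by revert hb; cases χ0.b <;> cases y <;> simp
  have hχ' : χ = ⟨true, !y, χ0.z00, χ0.z00, χ0.z01, !χ0.z01⟩ := by rw [hχdef, hu, hb]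
  have hsg : s ∈ qG t u z a ∧ g ∈ qG t u z a := h.fix_Q_mem h4 hP hfix rfl
  set Q := qG t u z a
  set N := nrm (eG t u z a)
  obtain ⟨w, hw, w1, w2, w3⟩ := h.exists_w1
  obtain ⟨hwN, hwC⟩ := mem_inf.1 hw
  have hwt : cj w t = t := cj_eq_self.2 (mem_cent.1 hwC)
  have hW := fun X hX => h.w1_cj hwt w1 w2 w3 X hX
  -- all translations occur in `Q`
  have hwtr : ∀ x ∈ Q, cj w x ∈ Q ∧ cj (cj w x) t = cj w (cj x t) := fun x hx => by
    refine ⟨h.Q_conj h4 hwN hx, ?_⟩
    rw [show cj w x = w⁻¹ * x * w from rfl, ← cj_cj, ← cj_cj, cj_inv_left hwt]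
  have hcomp : ∀ p i j p' i' j', (⟨true, p, false, (i, j)⟩ : TEl).ev t u z a k ∈ orb Q t →
      (⟨true, p', false, (i', j')⟩ : TEl).ev t u z a k ∈ orb Q t →
      (⟨true, xor p p', false, (xor i i', xor j j')⟩ : TEl).ev t u z a k ∈ orb Q t := by
    rintro p i j p' i' j' ⟨x, hx, ex⟩ ⟨x', hx', ex'⟩
    exact ⟨x' * x, mul_mem hx' hx, by rw [← cj_cj, ex', h.Q_act h4 hx ex]⟩
  have oS : (⟨true, false, false, (true, false)⟩ : TEl).ev t u z a k ∈ orb Q t :=
    ⟨s, hsg.1, by rw [hP.st]; simp [TEl.ev, El.ev, pz]⟩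
  have oG : (⟨true, false, false, (true, true)⟩ : TEl).ev t u z a k ∈ orb Q t :=
    ⟨g, hsg.2, by rw [hP.gt]; simp [TEl.ev, El.ev, pz]⟩
  have oA : (⟨true, true, false, (false, false)⟩ : TEl).ev t u z a k ∈ orb Q t := by
    obtain ⟨x, hx, ex⟩ := oS
    obtain ⟨q1, r1⟩ := hwtr x hx
    exact ⟨_, q1, by rw [r1, ex, hW _ rfl]; rfl⟩
  have oZ := hcomp _ _ _ _ _ _ oS oG
  have oT : (⟨true, false, false, (false, false)⟩ : TEl).ev t u z a k ∈ orb Q t :=
    ⟨1, one_mem _, by rw [cj_by_one]; exact Frame.ev_t.symm⟩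
  have horbQ : orb Q t = orb N t := by
    refine Set.Subset.antisymm (fun x ⟨q, hq, e⟩ => ⟨q, (mem_qG.1 hq).1, e⟩) fun x hx => ?_
    obtain ⟨⟨e, p, q, i', j'⟩, hX, rfl⟩ := h.toFrame.mem_E1.1 (h.orb1_mem hx)
    obtain rfl : q = false := hX
    obtain ⟨n, -, hn⟩ := hx
    have he := (h.E1_conj_iff h4 (X := ⟨e, p, false, (i', j')⟩) rfl).1 (hn ▸ isConj_cj n t)
    subst he
    cases p <;> cases i' <;> cases j'
    · exact oT
    · exact oZ
    · exact oS
    · exact oG
    · exact oA
    · exact hcomp _ _ _ _ _ _ oA oZ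
    · exact hcomp _ _ _ _ _ _ oA oS
    · exact hcomp _ _ _ _ _ _ oA oG
  have hcQ : Nat.card Q = 128 := by rw [h.card_Q, horbQ, h.fix_orb1 h4 hfix]
  have hkN : k ∈ N := h.T_le_N1 h.k_mem
  have hknQ : k ∉ Q := fun hm => h.ak_ne (cj_eq_self.1 (mem_qG.1 hm).2.2.2).symm
  let R := extTwo Q k (fun v hv => h.Q_conj h4 hkN hv) (by rw [h.k2]; exact one_mem _)
  have hR : Nat.card R = 256 := by rw [card_extTwo hknQ, hcQ]
  -- translations of conjugates in `Q`
  have hpB : ∀ e : El, e.b3 = false → e.bits.pred P χ = true →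
      (TEl.cen true (xor e.b4 e.b5) e.b5).ev t u z a k ∈ transSet t u z a := fun e he hp =>
    ⟨_, h.lEv_mem_Q hP hsg e he, (hχ e).2 hp, h.lEv_cj_t hP e⟩
  have sU : (⟨true, false, false, (true, false)⟩ : TEl).ev t u z a k ∈ transSet t u z a := by
    have key : ∀ y i j c2 z0 z1 : Bool, (⟨i, false, false, true, false⟩ : Bits).pred
        ⟨false, y, i, j, (xor (xor i j) y, c2)⟩ ⟨true, !y, z0, z0, z1, !z1⟩ = true := by decide +kernel
    exact hpB ⟨i, false, false, true, false, (false, false)⟩ rfl (by rw [hχ']; exact key _ _ _ _ _ _)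
  have sA : (⟨true, true, false, (false, false)⟩ : TEl).ev t u z a k ∈ transSet t u z a := by
    have := h.transSet_cj h4 hwN hwt sU
    rw [hW _ rfl] at this
    exact this
  have sAZ : (⟨true, true, false, (false, true)⟩ : TEl).ev t u z a k ∈ transSet t u z a := by
    have := h.transSet_cj h4 hwN hwt sA
    rw [hW _ rfl] at this
    exact this
  have sT : (⟨true, false, false, (false, false)⟩ : TEl).ev t u z a k ∈ transSet t u z a :=
    ⟨t, h.E1_le_Q (subset_closure (.inl rfl)), IsConj.refl t, (cj_eq_self.2 rfl).trans Frame.ev_t.symm⟩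
  -- conjugates in `Q⟨k⟩` outside `Q` lie in `L`
  have houter : conjIn t ((R : Set G) \ Q) =
      {v | ∃ e : El, e.b3 = true ∧ e.ev t a k s g u z = v ∧ IsConj t v} := by
    ext v
    constructor
    · rintro ⟨⟨hvR, hvQ⟩, hvc⟩
      have hx' : k⁻¹ * v ∈ Q := (mem_extTwo.1 hvR).resolve_left hvQ
      set x := k⁻¹ * v
      have hv : v = k * x := (mul_inv_cancel_left k v).symm
      have hkt : cj k t = t := cj_eq_self.2 h.tk
      obtain ⟨d, hd, hdt⟩ := h.Q_translation h4 hx'
      obtain ⟨p, i', j', rfl⟩ := h.mem_A.1 hd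
      have htt : t * (⟨false, p, false, (i', j')⟩ : TEl).ev t u z a k =
          (⟨true, p, false, (i', j')⟩ : TEl).ev t u z a k := by
        rw [show t * (⟨false, p, false, (i', j')⟩ : TEl).ev t u z a k =
          ((TEl.cen true false false).mul ⟨false, p, false, (i', j')⟩).ev t u z a k by
            rw [h.toFrame.ev_mul, Frame.ev_t]]
        congr 1
        clear * -
        revert p i' j'
        decide
      rw [htt] at hdt
      have hv2 : cj v (cj v t) = t := by rw [cj_cj, h.conj_sq hvc, cj_by_one]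
      have hvt : cj v t = (⟨true, p, false, (i', j')⟩ : TEl).ev t u z a k := by
        rw [hv, ← cj_cj, hkt, hdt]
      have hkX : cj k ((⟨true, p, false, (i', j')⟩ : TEl).ev t u z a k) =
          (⟨true, p, false, (i', xor j' p)⟩ : TEl).ev t u z a k := by
        rw [cj, inv_eq_of_mul_eq_one_right h.k2,
          show k * (⟨true, p, false, (i', j')⟩ : TEl).ev t u z a k * k =
            (((⟨false, false, true, (false, false)⟩ : TEl).mul ⟨true, p, false, (i', j')⟩).mul
              ⟨false, false, true, (false, false)⟩).ev t u z a k by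
            rw [h.toFrame.ev_mul, h.toFrame.ev_mul, Frame.ev_k]]
        congr 1
        clear * -
        revert p i' j'
        decide
      obtain rfl : p = false := by
        rw [hvt, hv, ← cj_cj, hkX, h.Q_act h4 hx' hdt] at hv2
        have := h.ev_inj.1 (hv2.trans Frame.ev_t.symm)
        simp only [TEl.cen, TEl.mk.injEq, Prod.mk.injEq] at this
        revert this
        cases p <;> cases i' <;> cases j' <;> simp
      obtain ⟨e, he3, -, -, hee⟩ := h.Q_to_L hP hsg hx' (i := i') (j := j') hdt
      refine ⟨(lData P).mul ⟨false, false, true, false, false, (false, false)⟩ e, ?_, ?_, hvc⟩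
      · simp [CData.mul, he3]
      · rw [hM, hee, hv]; simp [El.ev, pz]
    · rintro ⟨e, he, rfl, hvc⟩
      have hm : ∀ v ∈ ({t, u, z, a} : Set G), v ∈ R := fun v hv =>
        le_extTwo (h.E1_le_Q (subset_closure hv))
      refine ⟨⟨El.ev_mem e (fun _ => hm t (by simp)) (fun _ => hm a (by simp)) (fun _ => self_mem_extTwo)
        (fun _ => le_extTwo hsg.1) (fun _ => le_extTwo hsg.2) (hm u (by simp)) (hm z (by simp)),
        fun hq => ?_⟩, hvc⟩
      obtain ⟨e', he', -, -, hee⟩ := h.Q_to_L hP hsg hq (h.lEv_cj_t hP e)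
      rw [hinj hee] at he'
      rw [he] at he'
      exact Bool.noConfusion he'
  obtain ⟨m, hm, hcm⟩ := h.card
  cases y with
  | false =>
    let F : Subgroup G :=
      { carrier := {x | x ∈ Q ∧ ∃ p j', cj x t = (⟨true, p, false, (p, j')⟩ : TEl).ev t u z a k}
        one_mem' := ⟨one_mem _, false, false, by rw [cj_by_one]; exact Frame.ev_t.symm⟩
        mul_mem' := by
          rintro x x' ⟨hx, p, jx, ex⟩ ⟨hx', p', jx', ex'⟩
          exact ⟨mul_mem hx hx', xor p' p, xor jx' jx, by rw [← cj_cj, ex, h.Q_act h4 hx' ex']⟩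
        inv_mem' := by
          rintro x ⟨hx, p, jx, ex⟩
          refine ⟨inv_mem hx, p, jx, ?_⟩
          refine cj_inv_left ?_
          rw [h.Q_act h4 hx ex, Bool.xor_self, Bool.xor_self]
          exact Frame.ev_t }
    have hFQ : F ≤ Q := fun x hx => hx.1
    have hF : Nat.card F = 64 := by
      have hst : F ⊓ centralizer ({t} : Set G) = eG t u z a := by
        rw [← h.Q_inf_cent]
        ext x
        simp only [mem_inf]
        exact ⟨fun hx => ⟨hFQ hx.1, hx.2⟩, fun hx => ⟨⟨hx.1, false, false, by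
          rw [cj_eq_self.2 (mem_cent.1 hx.2)]; exact Frame.ev_t.symm⟩, hx.2⟩⟩
      let f : Bool × Bool → orb F t := fun p =>
        ⟨(⟨true, p.1, false, (p.1, p.2)⟩ : TEl).ev t u z a k, by
          obtain ⟨x, hx, ex⟩ : (⟨true, p.1, false, (p.1, p.2)⟩ : TEl).ev t u z a k ∈ orb Q t := by
            rw [horbQ]
            obtain ⟨p1, p2⟩ := p
            rw [← horbQ]
            cases p1 <;> cases p2
            · exact oT
            · exact oZ
            · exact hcomp _ _ _ _ _ _ oA oS
            · exact hcomp _ _ _ _ _ _ oA oG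
          exact ⟨x, ⟨hx, p.1, p.2, ex⟩, ex⟩⟩
      have hb' : Function.Bijective f := by
        refine ⟨fun p q e => ?_, fun ⟨v, x, ⟨_, p, jx, ex⟩, hv⟩ => ⟨(p, jx), Subtype.ext (ex.symm.trans hv)⟩⟩
        have := h.ev_inj.1 (congrArg Subtype.val e)
        simp only [TEl.mk.injEq, Prod.mk.injEq] at this
        exact Prod.ext this.2.1 this.2.2.2.2
      rw [card_eq_orb_mul F t, hst, h.card_E1, ← Nat.card_congr (Equiv.ofBijective f hb'),
        Nat.card_eq_fintype_card]
      rfl
    have hkF : ∀ x ∈ F, cj k x ∈ F := by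
      rintro x ⟨hx, p, jx, ex⟩
      refine ⟨h.Q_conj h4 hkN hx, p, xor jx p, ?_⟩
      rw [show cj k x = k⁻¹ * x * k from rfl, ← cj_cj, ← cj_cj, cj_inv_left (cj_eq_self.2 h.tk), ex,
        cj, inv_eq_of_mul_eq_one_right h.k2,
        show k * (⟨true, p, false, (p, jx)⟩ : TEl).ev t u z a k * k =
          (((⟨false, false, true, (false, false)⟩ : TEl).mul ⟨true, p, false, (p, jx)⟩).mul
            ⟨false, false, true, (false, false)⟩).ev t u z a k by
          rw [h.toFrame.ev_mul, h.toFrame.ev_mul, Frame.ev_k]]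
      congr 1
      clear * -
      revert p jx
      decide
    let M := extTwo F k hkF (by rw [h.k2]; exact one_mem _)
    have hMR : M ≤ R := fun x hx => hx.imp (fun e => hFQ e) (fun e => hFQ e)
    have hM128 : Nat.card M = 128 := by rw [card_extTwo (fun e => hknQ (hFQ e)), hF]
    let C : Finset G := (Finset.univ.filter fun X : TEl => X.q = false ∧ X.e = true ∧ X.p ≠ X.c.1).image
      fun X => X.ev t u z a k
    have hC : (C : Set G) ⊆ transSet t u z a := by
      intro x hx
      simp only [C, Finset.coe_image, Set.mem_image, Finset.mem_coe, Finset.mem_filter] at hx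
      obtain ⟨⟨e', p, q, i', j'⟩, ⟨-, hq', he', hne⟩, rfl⟩ := hx
      simp only at hq' he' hne
      subst hq' he'
      cases p <;> cases i' <;> simp at hne <;> cases j'
      · exact sU
      · have key : ∀ i j c2 z0 z1 : Bool, (⟨j, false, false, false, true⟩ : Bits).pred
            ⟨false, false, i, j, (xor (xor i j) false, c2)⟩ ⟨true, !false, z0, z0, z1, !z1⟩ = true := by
          decide +kernel
        exact hpB ⟨j, false, false, false, true, (false, false)⟩ rfl (by rw [hχ']; exact key _ _ _ _ _)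
      · exact sA
      · exact sAZ
    have hset : conjIn t ((R : Set G) \ M) = {v | v ∈ Q ∧ IsConj t v ∧ cj v t ∈ (C : Set G)} ∪
        {v | ∃ e : El, (e.bits.b3 && xor e.bits.b4 e.bits.b5) = true ∧ e.ev t a k s g u z = v ∧ IsConj t v} := by
      ext v
      simp only [Set.mem_union, Set.mem_setOf_eq]
      constructor
      · rintro ⟨⟨hvR, hvM⟩, hvc⟩
        by_cases hvQ : v ∈ Q
        · refine Or.inl ⟨hvQ, hvc, ?_⟩
          obtain ⟨d, hd, hdt⟩ := h.Q_translation h4 hvQ
          obtain ⟨p, i', j', rfl⟩ := h.mem_A.1 hd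
          simp only [C, Finset.coe_image, Set.mem_image, Finset.mem_coe, Finset.mem_filter]
          have htt : t * (⟨false, p, false, (i', j')⟩ : TEl).ev t u z a k =
              (⟨true, p, false, (i', j')⟩ : TEl).ev t u z a k := by
            rw [show t * (⟨false, p, false, (i', j')⟩ : TEl).ev t u z a k =
              ((TEl.cen true false false).mul ⟨false, p, false, (i', j')⟩).ev t u z a k by
                rw [h.toFrame.ev_mul, Frame.ev_t]]
            congr 1
            clear * -
            revert p i' j'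
            decide
          refine ⟨⟨true, p, false, (i', j')⟩, ⟨Finset.mem_univ _, rfl, rfl, fun e => ?_⟩, (hdt.trans htt).symm⟩
          simp only at e
          subst e
          exact hvM (le_extTwo ⟨hvQ, p, j', hdt.trans htt⟩)
        · obtain ⟨e, he3, hev, -⟩ := (Set.ext_iff.1 houter v).1 ⟨⟨hvR, hvQ⟩, hvc⟩
          refine Or.inr ⟨e, ?_, hev, hvc⟩
          simp only [El.bits, he3, Bool.true_and]
          by_contra h45
          refine hvM (Or.inr ?_)
          have hx' : k⁻¹ * v ∈ Q := (mem_extTwo.1 hvR).resolve_left hvQ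
          refine ⟨hx', false, e.b5, ?_⟩
          rw [← cj_cj, cj_inv_left (cj_eq_self.2 h.tk), ← hev, h.lEv_cj_t hP]
          revert h45
          cases e.b4 <;> cases e.b5 <;> simp [TEl.cen]
      · rintro (⟨hvQ, hvc, hvC⟩ | ⟨e, he, hev, hvc⟩)
        · refine ⟨⟨le_extTwo hvQ, fun hm => ?_⟩, hvc⟩
          rcases mem_extTwo.1 hm with hm | hm
          · obtain ⟨-, p, j', hp⟩ := hm
            simp only [C, Finset.coe_image, Set.mem_image, Finset.mem_coe, Finset.mem_filter] at hvC
            obtain ⟨X, ⟨-, -, -, hne⟩, hX⟩ := hvC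
            rw [hp] at hX
            rw [h.ev_inj.1 hX] at hne
            exact hne rfl
          · exact hknQ (inv_mem_iff.1 ((mul_mem_cancel_right hvQ).1 (hFQ hm)))
        · simp only [El.bits, Bool.and_eq_true] at he
          obtain ⟨⟨hvR, hvQ⟩, -⟩ := (Set.ext_iff.1 houter v).2 ⟨e, he.1, hev, hvc⟩
          refine ⟨⟨hvR, fun hm => ?_⟩, hvc⟩
          rcases mem_extTwo.1 hm with hm | hm
          · exact hvQ (hFQ hm)
          · obtain ⟨-, p, j', hp⟩ := hm
            rw [← cj_cj, cj_inv_left (cj_eq_self.2 h.tk), ← hev, h.lEv_cj_t hP] at hp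
            have := h.ev_inj.1 hp
            simp only [TEl.cen, TEl.mk.injEq, Prod.mk.injEq] at this
            obtain ⟨-, hp0, -, hi, -⟩ := this
            rw [he.2, ← hp0] at hi
            exact Bool.noConfusion hi
    refine index_two_of_diff R M t h.t2 hMR (by rw [hR, hM128]) (5 * m) ?_ ?_
    · have hdisj : Disjoint {v | v ∈ Q ∧ IsConj t v ∧ cj v t ∈ (C : Set G)}
          {v | ∃ e : El, (e.bits.b3 && xor e.bits.b4 e.bits.b5) = true ∧ e.ev t a k s g u z = v ∧ IsConj t v} := by
        rw [Set.disjoint_left]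
        rintro v ⟨hvQ, -, -⟩ ⟨e, he, hev, hvc⟩
        simp only [El.bits, Bool.and_eq_true] at he
        exact ((Set.ext_iff.1 houter v).2 ⟨e, he.1, hev, hvc⟩).1.2 hvQ
      have hk := h.card_conj_bits hP hχ (fun b => b.b3 && xor b.b4 b.b5)
      have hq := h.card_conjIn_Q_of h4 (C : Set G)
      have key : ∀ i j c2 z0 z1 : Bool, units ⟨false, false, i, j, (xor (xor i j) false, c2)⟩
          ⟨true, !false, z0, z0, z1, !z1⟩ (fun b => b.b3 && xor b.b4 b.b5) = 2 := by decide +kernel
      have hC4 : C.card = 4 := by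
        simp only [C]
        rw [Finset.card_image_of_injective _ h.ev_injective]
        rfl
      rw [hset, Nat.card_coe_set_eq, Set.ncard_union_eq hdisj (Set.toFinite _) (Set.toFinite _),
        ← Nat.card_coe_set_eq, ← Nat.card_coe_set_eq, hk, hq, Set.inter_eq_self_of_subset_right hC,
        Nat.card_coe_set_eq, Set.ncard_coe_finset, hC4, hχ', key, hR, hcm]
      ring
    · obtain ⟨l, rfl⟩ := hm
      omega
  | true =>
    let D : Finset G := (Finset.univ.filter fun X : TEl =>
      X.q = false ∧ X.e = true ∧ X.rho.2.2 = false).image fun X => X.ev t u z a k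
    have hSig : transSet t u z a = D := by
      ext c
      simp only [D, Finset.coe_image, Set.mem_image, Finset.mem_coe, Finset.mem_filter, Finset.mem_univ,
        true_and]
      constructor
      · intro hc
        obtain ⟨v, hv, hvc, rfl⟩ := hc
        obtain ⟨d, hd, hdt⟩ := h.Q_translation h4 hv
        obtain ⟨p, i', j', rfl⟩ := h.mem_A.1 hd
        have htt : t * (⟨false, p, false, (i', j')⟩ : TEl).ev t u z a k =
            (⟨true, p, false, (i', j')⟩ : TEl).ev t u z a k := by
          rw [show t * (⟨false, p, false, (i', j')⟩ : TEl).ev t u z a k =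
            ((TEl.cen true false false).mul ⟨false, p, false, (i', j')⟩).ev t u z a k by
              rw [h.toFrame.ev_mul, Frame.ev_t]]
          congr 1
          clear * -
          revert p i' j'
          decide
        rw [htt] at hdt
        refine ⟨⟨true, p, false, (i', j')⟩, ⟨rfl, rfl, ?_⟩, hdt.symm⟩
        obtain ⟨n, hn, hnX⟩ := h.E1_to_central (x := ⟨true, p, false, (i', j')⟩) rfl
        obtain ⟨hnN, hnC⟩ := mem_inf.1 hn
        have h2 : (TEl.cen true (⟨true, p, false, (i', j')⟩ : TEl).rho.2.1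
            (⟨true, p, false, (i', j')⟩ : TEl).rho.2.2).ev t u z a k ∈ transSet t u z a := by
          have hrho : (⟨true, p, false, (i', j')⟩ : TEl).rho.1 = true := by
            simp only [TEl.rho]; cases p <;> cases i' <;> rfl
          have h2' := h.transSet_cj h4 hnN (cj_eq_self.2 (mem_cent.1 hnC)) (c := cj v t) ⟨v, hv, hvc, rfl⟩
          rw [hdt, hnX, hrho] at h2'
          exact h2'
        obtain ⟨v', hv', hvc', hvt'⟩ := h2
        obtain ⟨e, he3, he4, he5, hee⟩ := h.Q_to_L hP hsg hv' hvt'
        by_contra hne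
        simp only [Bool.not_eq_false] at hne
        rw [hne] at he5
        have hpred := (hχ e).1 (hee.symm ▸ hvc')
        rw [hχ'] at hpred
        obtain ⟨b1, b2, b3, b4, b5, cc⟩ := e
        simp only at he3 he5
        subst he3 he5
        have key : ∀ i j c2 z0 z1 b1 b2 b4 : Bool, (⟨b1, b2, false, b4, true⟩ : Bits).pred
            ⟨false, true, i, j, (xor (xor i j) true, c2)⟩ ⟨true, !true, z0, z0, z1, !z1⟩ = false := by
          decide +kernel
        simp only [El.bits, hPdef, key] at hpred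
        exact Bool.noConfusion hpred
      · rintro ⟨⟨e', p, q, i', j'⟩, ⟨hq', he', hr⟩, rfl⟩
        simp only at hq' he'
        subst hq' he'
        cases p <;> cases i' <;> cases j' <;> simp [TEl.rho] at hr
        exacts [sT, sU, sA, sAZ]
    have hD4 : D.card = 4 := by
      simp only [D]
      rw [Finset.card_image_of_injective _ h.ev_injective]
      rfl
    have hS4 : Nat.card (transSet t u z a) = 4 := by
      rw [hSig, Nat.card_coe_set_eq, Set.ncard_coe_finset, hD4]
    have hcount : Nat.card (conjIn t (R : Set G)) = 48 := by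
      have hsplit : conjIn t (R : Set G) = conjIn t (Q : Set G) ∪ conjIn t ((R : Set G) \ Q) := by
        ext v
        simp only [mem_conjIn, Set.mem_union, Set.mem_diff, SetLike.mem_coe]
        constructor
        · rintro ⟨h1, h2⟩
          by_cases hq : v ∈ Q
          · exact Or.inl ⟨hq, h2⟩
          · exact Or.inr ⟨⟨h1, hq⟩, h2⟩
        · rintro (⟨h1, h2⟩ | ⟨⟨h1, -⟩, h2⟩)
          · exact ⟨le_extTwo h1, h2⟩
          · exact ⟨h1, h2⟩
      have hdisj : Disjoint (conjIn t (Q : Set G)) (conjIn t ((R : Set G) \ Q)) := by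
        rw [Set.disjoint_left]
        exact fun v hv hv' => hv'.1.2 hv.1
      have hk := h.card_conj_bits hP hχ (fun b => b.b3)
      have key : ∀ i j c2 z0 z1 : Bool, units ⟨false, true, i, j, (xor (xor i j) true, c2)⟩
          ⟨true, !true, z0, z0, z1, !z1⟩ (fun b => b.b3) = 4 := by decide +kernel
      rw [hsplit, Nat.card_coe_set_eq, Set.ncard_union_eq hdisj (Set.toFinite _) (Set.toFinite _),
        ← Nat.card_coe_set_eq, ← Nat.card_coe_set_eq, h.card_conjIn_Q h4, hS4, houter]
      rw [show {v | ∃ e : El, e.b3 = true ∧ e.ev t a k s g u z = v ∧ IsConj t v} =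
        {v | ∃ e : El, (fun b : Bits => b.b3) e.bits = true ∧ e.ev t a k s g u z = v ∧ IsConj t v} from rfl,
        hk, hχ', key]
    obtain ⟨y1, hy1, hy1c, hy1t⟩ := sU
    obtain ⟨q1, r1⟩ := hwtr y1 hy1
    obtain ⟨q2, r2⟩ := hwtr _ q1
    rw [hy1t, hW _ rfl] at r1
    rw [r1, hW _ rfl] at r2
    have hdvd : 4 * Nat.card N ∣ Nat.card G := by
      refine h.psi h4 (by rw [h.fix_card_N2 h4 hfix, h.fix_card_N1 h4 hfix]) (by rw [horbQ])
        (V := transSet t u z a) (fun v hv hvc => ⟨v, hv, hvc, rfl⟩) (le_of_eq hS4)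
        (g2 := w) (g3 := w * w) hy1 hy1c hwN (mul_mem hwN hwN) rfl (cj_cj w w y1).symm ?_ ?_ ?_ ?_ ?_ ?_
      all_goals simp only [hy1t, r1, r2]
      all_goals first
        | exact fun e => absurd (h.ev_inj.1 (e.trans Frame.ev_t.symm)) (by decide)
        | exact fun e => absurd (h.ev_inj.1 e) (by decide)
    have hidx := R.card_mul_index
    rw [hR] at hidx
    rw [h.fix_card_N1 h4 hfix, ← hidx] at hdvd
    refine index_two_of_count R t h.t2 (6 * m) ?_ ?_ ?_
    · obtain ⟨l, hl⟩ := hdvd
      exact ⟨3 * l, by omega⟩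
    · rw [hcount, hcm, hR]; ring
    · obtain ⟨l, rfl⟩ := hm
      omega

end Hyp

end Cfsg.Agent.TwoTimesSym
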