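import Cfsg.Agent.TwoTimesSym.FixSetup

/-!
`L` fixes `u` and neither generator centralises `⟨a, k⟩`: a group of order `256` containing `L`.
-/

set_option autoImplicit false

namespace Cfsg.Agent.TwoTimesSym

open Subgroup

variable {G : Type*} [Group G] {t u z a k s g : G} {P : LP}

namespace Hyp

variable [Finite G] (h : Hyp t u z a k) (h4 : Four t u z)
include h h4

theorem case_fix_B (hP : LGen t u z a k s g P)
    (hfix : ∀ g ∈ nrm (tG t u z a k), cj g u = u) (hx : P.x = true) (hy : P.y = true) :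
    ∃ K : Subgroup G, K.index = 2 := by
  classical
  obtain ⟨χ, hχ⟩ := h.exists_chi hP h4
  have hM := h.lEv_mul hP
  have hinj := h.lEv_injective hP
  have hone := (h.real_L hP).ev_one
  obtain ⟨Px, Py, i, j, c⟩ := P
  obtain rfl : Px = true := hx
  obtain rfl : Py = true := hy
  set P : LP := ⟨true, true, i, j, c⟩ with hPdef
  by_cases h1 : units P χ (fun b => b.b4) % 2 = 1
  · exact h.L_criterion hP h4 hχ _ (fun _ _ => rfl) (by decide) h1
  by_cases h2 : units P χ (fun b => b.b5) % 2 = 1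
  · exact h.L_criterion hP h4 hχ _ (fun _ _ => rfl) (by decide) h2
  by_cases h3 : units P χ (fun b => b.b2) % 2 = 1
  · exact h.L_criterion hP h4 hχ _ (fun _ _ => rfl) (by decide) h3
  by_cases h5 : units P χ (fun b => b.b3) % 2 = 1
  · exact h.L_criterion hP h4 hχ _ (fun _ _ => rfl) (by decide) h5
  obtain ⟨hu2, hno⟩ : units P χ (fun b => b.b5) = 2 ∧
      ∀ b1 b2 : Bool, (⟨b1, b2, true, true, true⟩ : Bits).pred P χ = false := by
    have key : ∀ (i j c1 c2 : Bool) (u b z0 z1 z2 z3 : Bool),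
        units ⟨true, true, i, j, (c1, c2)⟩ ⟨u, b, z0, z1, z2, z3⟩ (fun b => b.b4) % 2 = 0 →
        units ⟨true, true, i, j, (c1, c2)⟩ ⟨u, b, z0, z1, z2, z3⟩ (fun b => b.b5) % 2 = 0 →
        units ⟨true, true, i, j, (c1, c2)⟩ ⟨u, b, z0, z1, z2, z3⟩ (fun b => b.b2) % 2 = 0 →
        units ⟨true, true, i, j, (c1, c2)⟩ ⟨u, b, z0, z1, z2, z3⟩ (fun b => b.b3) % 2 = 0 →
        units ⟨true, true, i, j, (c1, c2)⟩ ⟨u, b, z0, z1, z2, z3⟩ (fun b => b.b5) = 2 ∧
          ∀ b1 b2 : Bool, (⟨b1, b2, true, true, true⟩ : Bits).pred ⟨true, true, i, j, (c1, c2)⟩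
            ⟨u, b, z0, z1, z2, z3⟩ = false := by decide +kernel
    exact key i j c.1 c.2 χ.u χ.b χ.z00 χ.z10 χ.z01 χ.z11
      (Nat.mod_two_ne_one.1 h1) (Nat.mod_two_ne_one.1 h2) (Nat.mod_two_ne_one.1 h3) (Nat.mod_two_ne_one.1 h5)
  have F := h.toFrame
  obtain ⟨w, hw, w1, w2, w3⟩ := h.exists_w1
  obtain ⟨hwN, hwC⟩ := mem_inf.1 hw
  have hwt : cj w t = t := cj_eq_self.2 (mem_cent.1 hwC)
  have hsz := h.cj_z hP.sL
  have hgz := h.cj_z hP.gL
  have cka : cj k a = a * z := by
    rw [cj, inv_eq_of_mul_eq_one_right h.k2, h.ka, show a * k * z * k = a * (k * (z * k)) by group,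
      h.zk, ← mul_assoc k k, h.k2, one_mul]
  have ckt : cj k t = t := cj_eq_self.2 h.tk
  have cku : cj k u = u := cj_eq_self.2 h.uk.symm
  have ckz : cj k z = z := cj_eq_self.2 h.zk.symm
  have sa : cj s a = a * u := by rw [hP.sa]; simp [P]
  have aa : ∀ x, a * (a * x) = x := fun x => by rw [← mul_assoc, h.a2, one_mul]
  have uu : ∀ x, u * (u * x) = x := fun x => by rw [← mul_assoc, h.u2, one_mul]
  have zz : ∀ x, z * (z * x) = x := fun x => by rw [← mul_assoc, h.z2, one_mul]
  have au : ∀ x, u * (a * x) = a * (u * x) := fun x => by rw [← mul_assoc, h.ua, mul_assoc]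
  have az : ∀ x, z * (a * x) = a * (z * x) := fun x => by rw [← mul_assoc, h.za, mul_assoc]
  have zu : ∀ x, z * (u * x) = u * (z * x) := fun x => by rw [← mul_assoc, h.zu, mul_assoc]
  -- the element exchanging `u` and `z`
  set v := cj w (s * k) with hv_def
  have hvw : ∀ x, cj v (cj w x) = cj w (cj k (cj s x)) := fun x => by
    rw [cj_cj, cj_cj, cj_cj, show w * v = s * k * w by rw [hv_def, cj]; group, mul_assoc]
  have vt : cj v t = t * a := by
    have := hvw t
    rwa [hwt, hP.st, cj_mul k, ckt, cku, cj_mul w, hwt, w1] at this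
  have va : cj v a = a := by
    have := hvw u
    rwa [w1, hP.su, cku, w1] at this
  have vu : cj v u = z := by
    have hwaz : cj w (a * z) = u := by
      rw [cj_mul, w2, w3]; simp [mul_assoc, h.z2, h.u2, h.za, h.ua, h.zu, aa, uu, zz, au, az, zu]
    have := hvw (a * z)
    rw [hwaz, cj_mul s, sa, hsz, cj_mul k, cj_mul k, cka, cku, ckz, cj_mul w, cj_mul w, cj_mul w, w2, w3,
      w1] at this
    rw [this]
    simp [mul_assoc, h.z2, h.u2, h.a2, h.za, h.ua, h.zu, aa, uu, zz, au, az, zu]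
  have vz : cj v z = u := by
    have := hvw a
    rw [w2, cj_mul v, va, sa, cj_mul k, cka, cku, cj_mul w, cj_mul w, w2, w3, w1] at this
    have h2 : a * cj v z = a * u := by
      rw [this]; simp [mul_assoc, h.z2, h.u2, h.a2, h.za, h.ua, h.zu, aa, uu, zz, au, az, zu]
    exact mul_left_cancel h2
  -- values of the model
  set R := (h.real_L hP).range
  have memR : ∀ e : El, e.ev t a k s g u z ∈ R := fun e => (CReal.mem_range _).2 ⟨e, rfl⟩
  let Rel : G → Bool → Bool → Bool → Prop := fun x q σ γ =>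
    ∃ e : El, e.b3 = q ∧ e.b4 = σ ∧ e.b5 = γ ∧ e.ev t a k s g u z = x
  have hRmul : ∀ {x q σ γ x' q' σ' γ'}, Rel x q σ γ → Rel x' q' σ' γ' →
      Rel (x * x') (xor q q') (xor σ σ') (xor γ γ') := by
    rintro _ _ _ _ _ _ _ _ ⟨e, rfl, rfl, rfl, rfl⟩ ⟨f, rfl, rfl, rfl, rfl⟩
    exact ⟨(lData P).mul e f, rfl, rfl, rfl, hM e f⟩
  have hE : ∀ x ∈ eG t u z a, Rel x false false false := by
    intro x hx
    obtain ⟨⟨e1, p, q, cc⟩, hX, hXe⟩ := F.mem_E1.1 hx
    obtain rfl : q = false := hX
    exact ⟨⟨e1, p, false, false, false, cc⟩, rfl, rfl, rfl, hXe⟩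
  have hk : Rel k true false false :=
    ⟨⟨false, false, true, false, false, (false, false)⟩, rfl, rfl, rfl, by simp [El.ev, pz]⟩
  have hs : Rel s false true false :=
    ⟨⟨false, false, false, true, false, (false, false)⟩, rfl, rfl, rfl, by simp [El.ev, pz]⟩
  have hg : Rel g false false true :=
    ⟨⟨false, false, false, false, true, (false, false)⟩, rfl, rfl, rfl, by simp [El.ev, pz]⟩
  have hact : ∀ {y l q σ γ}, Rel l q σ γ → cj y t = cj l t → cj y u = cj l u → cj y z = cj l z →
      cj y a = cj l a → Rel y q σ γ := by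
    intro y l q σ γ hl e1 e2 e3 e4
    have hm : y * l⁻¹ ∈ eG t u z a := h.cent1 _
      (cj_eq_self.1 (by rw [← cj_cj, e1, cj_cj, mul_inv_cancel, cj_by_one]))
      (cj_eq_self.1 (by rw [← cj_cj, e2, cj_cj, mul_inv_cancel, cj_by_one]))
      (cj_eq_self.1 (by rw [← cj_cj, e3, cj_cj, mul_inv_cancel, cj_by_one]))
      (cj_eq_self.1 (by rw [← cj_cj, e4, cj_cj, mul_inv_cancel, cj_by_one]))
    have := hRmul (hE _ hm) hl
    simpa using this
  have hE' : ∀ x ∈ ({t, u, z, a} : Set G), x ∈ eG t u z a := fun x hx => subset_closure hx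
  have hvx : ∀ l x, cj (cj v l) (cj v x) = cj v (cj l x) := fun l x => by
    rw [cj_cj, cj_cj, show v * cj v l = l * v by rw [cj]; group]
  have hvta : cj v (t * a) = t := by rw [cj_mul, vt, va, mul_assoc, h.a2, mul_one]
  have Rvk : Rel (cj v k) false true false := by
    refine hact hs ?_ ?_ ?_ ?_
    · have := hvx k (t * a)
      rw [hvta, cj_mul k, ckt, cka, cj_mul v, cj_mul v, vt, va, vz] at this
      rw [this, hP.st, ← mul_assoc (t * a), mul_assoc t, h.a2, mul_one]
    · have := hvx k z; rw [vz, ckz, vz] at this; rw [this, hP.su]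
    · have := hvx k u; rw [vu, cku, vu] at this; rw [this, hsz]
    · have := hvx k a; rw [va, cka, cj_mul v, va, vz] at this; rw [this, sa]
  have Rvs : Rel (cj v s) true false false := by
    refine hact hk ?_ ?_ ?_ ?_
    · have := hvx s (t * a)
      rw [hvta, cj_mul s, hP.st, sa, show t * u * (a * u) = t * a by
        simp [mul_assoc, au, h.u2], hvta] at this
      rw [this, ckt]
    · have := hvx s z; rw [vz, hsz, vz] at this; rw [this, cku]
    · have := hvx s u; rw [vu, hP.su, vu] at this; rw [this, ckz]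
    · have := hvx s a; rw [va, sa, cj_mul v, va, vu] at this; rw [this, cka]
  have Rvg : Rel (cj v g) false false true := by
    refine hact hg ?_ ?_ ?_ ?_
    · have := hvx g (t * a)
      rw [hvta, cj_mul g, hP.gt, hP.ga, cj_mul v, cj_mul v, cj_mul v, vt, vu, vz, va] at this
      rw [this, hP.gt]
      simp [mul_assoc, h.a2, h.za, h.ua, h.zu, aa, au, az, zu]
    · have := hvx g z; rw [vz, hgz, vz] at this; rw [this, hP.gu]
    · have := hvx g u; rw [vu, hP.gu, vu] at this; rw [this, hgz]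
    · have := hvx g a; rw [va, hP.ga, va] at this; rw [this, hP.ga]
  have hvE : ∀ x ∈ eG t u z a, cj v x ∈ eG t u z a := by
    refine nrm_iff.1 (cj_closure fun x hx => ?_)
    rcases hx with rfl | rfl | rfl | rfl
    · rw [vt]; exact mul_mem (hE' _ (by simp)) (hE' _ (by simp))
    · rw [vu]; exact hE' _ (by simp)
    · rw [vz]; exact hE' _ (by simp)
    · rw [va]; exact hE' _ (by simp)
  have hpwR : ∀ {x q σ γ} (b : Bool), Rel x q σ γ → Rel (pw x b) (b && q) (b && σ) (b && γ) := by
    intro x q σ γ b hx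
    cases b
    · exact ⟨El.one, rfl, rfl, rfl, hone⟩
    · exact hx
  have hsplit : ∀ e : El, ∃ E0 ∈ eG t u z a, ∃ E1' ∈ eG t u z a,
      e.ev t a k s g u z = E0 * (pw k e.b3 * (pw s e.b4 * pw g e.b5)) * E1' := by
    intro e
    refine ⟨pw t e.b1 * pw a e.b2, mul_mem ?_ ?_, pz u z e.c, mul_mem ?_ ?_, by simp [El.ev, mul_assoc]⟩
    · cases e.b1; exacts [one_mem _, hE' _ (by simp)]
    · cases e.b2; exacts [one_mem _, hE' _ (by simp)]
    · cases e.c.1; exacts [one_mem _, hE' _ (by simp)]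
    · cases e.c.2; exacts [one_mem _, hE' _ (by simp)]
  have hcpw : ∀ (y x : G) (b : Bool), cj y (pw x b) = pw (cj y x) b := fun y x b => by cases b <;> simp
  have hconjv : ∀ e : El, Rel (cj v (e.ev t a k s g u z)) e.b4 e.b3 e.b5 := by
    intro e
    obtain ⟨E0, h0, E1', h1', he⟩ := hsplit e
    rw [he, cj_mul, cj_mul, cj_mul, cj_mul, hcpw, hcpw, hcpw]
    have := hRmul (hRmul (hE _ (hvE _ h0)) (hRmul (hpwR e.b3 Rvk) (hRmul (hpwR e.b4 Rvs) (hpwR e.b5 Rvg))))
      (hE _ (hvE _ h1'))
    simpa using this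
  -- the square of `v`
  have hv2 : Rel (v * v) false false false := by
    have e : s * k * (s * k) = pw u i := by
      have := cj_eq_self.1 hP.sk
      calc s * k * (s * k) = s * (k * s) * k := by group
        _ = s * (s * k) * k := by rw [this]
        _ = s * s * (k * k) := by group
        _ = pw u i := by rw [hP.s2, h.k2, mul_one]
    refine hE _ ?_
    rw [hv_def, ← cj_mul, e, hcpw, w1]
    cases i; exacts [one_mem _, hE' _ (by simp)]
  have hvR : v ∉ R := fun hm => by
    have : cj v u = u := hfix v (by rw [← h.lRange_eq hP h4]; exact hm)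
    rw [vu] at this
    exact absurd (h.ev_inj.1 ((Frame.ev_z (t := t) (u := u) (z := z) (a := a) (k := k)).trans
      (this.trans (Frame.ev_u (t := t) (u := u) (z := z) (a := a) (k := k)).symm))) (by decide)
  let K : Subgroup G :=
    { carrier := {x | ∃ q σ, Rel x q σ false}
      one_mem' := ⟨false, false, El.one, rfl, rfl, rfl, hone⟩
      mul_mem' := by
        rintro x x' ⟨q, σ, hx⟩ ⟨q', σ', hx'⟩
        exact ⟨_, _, hRmul hx hx'⟩
      inv_mem' := by
        rintro x ⟨q, σ, e, rfl, rfl, e5, rfl⟩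
        obtain ⟨d, hd⟩ := (CReal.mem_range (h.real_L hP)).1 (inv_mem (memR e))
        refine ⟨_, _, d, rfl, rfl, ?_, hd⟩
        have e1 : (lData P).mul e d = El.one := hinj (by simp only [hM, hd, mul_inv_cancel, hone])
        have e2 := congrArg El.b5 e1
        simp only [CData.mul, e5, Bool.false_xor] at e2
        exact e2 }
  have hKR : K ≤ R := by
    rintro x ⟨q, σ, e, -, -, -, rfl⟩
    exact memR e
  have hvRR : ∀ x ∈ R, cj v x ∈ R := by
    intro x hx
    obtain ⟨e, rfl⟩ := (CReal.mem_range _).1 hx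
    obtain ⟨e', -, -, -, he'⟩ := hconjv e
    exact he' ▸ memR e'
  have hvKK : ∀ x ∈ K, cj v x ∈ K := by
    rintro x ⟨q, σ, e, rfl, rfl, e5, rfl⟩
    have := hconjv e
    rw [e5] at this
    exact ⟨_, _, this⟩
  have hv2K : v * v ∈ K := ⟨_, _, hv2⟩
  let P1 := extTwo R v hvRR (hKR hv2K)
  let M1 := extTwo K v hvKK hv2K
  have hK64 : Nat.card K = 64 := by
    let f : {e : El // e.b5 = false} ≃ K :=
      Equiv.ofBijective (fun e => ⟨e.1.ev t a k s g u z, e.1.b3, e.1.b4, e.1, rfl, rfl, e.2, rfl⟩)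
        ⟨fun e e' he => Subtype.ext (hinj (congrArg Subtype.val he)), fun p => by
          obtain ⟨x, q, σ, e, -, -, e5, he⟩ := p
          exact ⟨⟨e, e5⟩, Subtype.ext he⟩⟩
    let g5 : {e : El // e.b5 = false} ≃ Bool × Bool × Bool × Bool × Z2 :=
      { toFun := fun e => (e.1.b1, e.1.b2, e.1.b3, e.1.b4, e.1.c)
        invFun := fun p => ⟨⟨p.1, p.2.1, p.2.2.1, p.2.2.2.1, false, p.2.2.2.2⟩, rfl⟩
        left_inv := by rintro ⟨⟨b1, b2, b3, b4, b5, cc⟩, hb⟩; cases hb; rfl
        right_inv := fun p => rfl }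
    rw [← Nat.card_congr f, Nat.card_congr g5, Nat.card_eq_fintype_card]
    rfl
  have hcP : Nat.card P1 = 256 := by rw [card_extTwo hvR, h.card_lRange hP]
  have hcM : Nat.card M1 = 128 := by rw [card_extTwo (fun hm => hvR (hKR hm)), hK64]
  have hno' : ∀ {x}, Rel x true true true → ¬ IsConj t x := by
    rintro x ⟨⟨b1, b2, b3, b4, b5, cc⟩, e3, e4, e5, rfl⟩ hcx
    simp only at e3 e4 e5
    subst e3 e4 e5
    have := (hχ _).1 hcx
    simp only [El.bits, hno] at this
    exact Bool.noConfusion this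
  -- outside `L` there are no conjugates with `g`-exponent one
  have hB : ∀ {x}, Rel x false false true → ¬ IsConj t (v * x) := by
    intro x hx hcx
    have hwi : ∀ y, cj w⁻¹ (cj w y) = y := fun y => by rw [cj_cj, mul_inv_cancel, cj_by_one]
    have hwg : Rel (cj w⁻¹ g) false false true := by
      have hgx : ∀ y, cj (cj w⁻¹ g) y = cj w⁻¹ (cj g (cj w y)) := fun y => by
        rw [cj_cj, cj_cj, show w * (g * w⁻¹) = cj w⁻¹ g from by simp [cj, mul_assoc]]
      refine hact hg ?_ ?_ ?_ ?_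
      · rw [hgx, hwt, hP.gt]
        refine cj_inv_left (x := t * (u * z)) ?_
        rw [cj_mul, cj_mul, hwt, w1, w3, show a * (a * z * u) = u * z by simp [mul_assoc, aa, h.zu]]
      · rw [hgx, w1, hP.ga, hP.gu]; exact cj_inv_left w1
      · rw [hgx, w3, cj_mul g, cj_mul g, hP.ga, hgz, hP.gu]; exact cj_inv_left w3
      · rw [hgx, w2, cj_mul g, hP.ga, hgz]; exact cj_inv_left w2
    obtain ⟨e, e3, e4, e5, rfl⟩ := hx
    obtain ⟨E0, h0, E1', h1', he⟩ := hsplit e
    rw [e3, e4, e5, pw_false, pw_false, pw_true, one_mul, one_mul] at he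
    have hR' : Rel (cj w⁻¹ (e.ev t a k s g u z)) false false true := by
      rw [he, cj_mul, cj_mul]
      have := hRmul (hRmul (hE _ (nrm_iff.1 (inv_mem hwN) _ h0)) hwg) (hE _ (nrm_iff.1 (inv_mem hwN) _ h1'))
      simpa using this
    have hsk : cj w⁻¹ v = s * k := by rw [hv_def]; exact hwi _
    have h2 := hcx.trans (isConj_cj w⁻¹ _)
    rw [cj_mul, hsk] at h2
    have := hRmul (hRmul hs hk) hR'
    exact hno' (by simpa using this) h2
  have houtside : ∀ e : El, e.b5 = true → ¬ IsConj t (v * e.ev t a k s g u z) := by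
    intro e e5 hc
    have hR0 : Rel (e.ev t a k s g u z) e.b3 e.b4 true := ⟨e, rfl, rfl, e5, rfl⟩
    by_cases hq : e.b3 = e.b4
    · cases he3 : e.b3
      · rw [← hq, he3] at hR0
        exact hB hR0 hc
      · rw [← hq, he3] at hR0
        have e1 : cj k (v * e.ev t a k s g u z) = v * (cj v k * k * cj k (e.ev t a k s g u z)) := by
          have hki : k⁻¹ = k := inv_eq_of_mul_eq_one_right h.k2
          rw [cj_mul, show cj k v = k * v * k by rw [cj, hki], cj, cj, hki]
          group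
        have hkl : Rel (cj k (e.ev t a k s g u z)) true true true := by
          rw [cj, inv_eq_of_mul_eq_one_right h.k2]
          have := hRmul (hRmul hk hR0) hk
          simpa using this
        have h2 := hc.trans (isConj_cj k _)
        rw [e1] at h2
        have := hRmul (hRmul Rvk hk) hkl
        exact hB (by simpa using this) h2
    · have hsq := h.conj_sq hc
      have e1 : v * e.ev t a k s g u z * (v * e.ev t a k s g u z) =
          v * v * cj v (e.ev t a k s g u z) * e.ev t a k s g u z := by rw [cj]; group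
      rw [e1] at hsq
      obtain ⟨d, d3, -, -, hd⟩ := hRmul (hRmul hv2 (hconjv e)) hR0
      rw [hsq] at hd
      rw [hinj (hd.trans hone.symm)] at d3
      revert d3 hq
      simp only [El.one]
      cases e.b3 <;> cases e.b4 <;> simp
  have hset : conjIn t ((P1 : Set G) \ M1) =
      {x | ∃ e : El, (fun b : Bits => b.b5) e.bits = true ∧ e.ev t a k s g u z = x ∧ IsConj t x} := by
    ext x
    constructor
    · rintro ⟨⟨hxP, hxM⟩, hxc⟩
      rcases mem_extTwo.1 hxP with hx | hx
      · obtain ⟨e, rfl⟩ := (CReal.mem_range _).1 hx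
        refine ⟨e, ?_, rfl, hxc⟩
        by_contra hne
        exact hxM (le_extTwo ⟨_, _, e, rfl, rfl, by simpa [El.bits] using hne, rfl⟩)
      · exfalso
        obtain ⟨e, he⟩ := (CReal.mem_range _).1 hx
        have hx' : x = v * e.ev t a k s g u z := by rw [he, mul_inv_cancel_left]
        cases e5 : e.b5
        · exact hxM (Or.inr ⟨_, _, e, rfl, rfl, e5, he⟩)
        · exact houtside e e5 (hx' ▸ hxc)
    · rintro ⟨e, e5, rfl, hxc⟩
      refine ⟨⟨le_extTwo (memR e), fun hm => ?_⟩, hxc⟩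
      rcases mem_extTwo.1 hm with hm | hm
      · obtain ⟨q, σ, d, -, -, d5, hd⟩ := hm
        rw [hinj hd] at d5
        simp only [El.bits] at e5
        rw [e5] at d5
        exact Bool.noConfusion d5
      · exact hvR (inv_mem_iff.1 ((mul_mem_cancel_right (memR e)).1 (hKR hm)))
  obtain ⟨m, hm, hcm⟩ := h.card
  refine index_two_of_diff P1 M1 t h.t2 (fun x hx => hx.imp (fun e => hKR e) (fun e => hKR e))
    (by rw [hcP, hcM]) m ?_ (Nat.odd_iff.1 hm)
  rw [hset, h.card_conj_bits hP hχ, hu2, hcm, hcP]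
  ring

end Hyp

end Cfsg.Agent.TwoTimesSym
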