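import Cfsg.Agent.TwoTimesSym.LModel

/-!
`L = N(T)` fixes `u`: it lies in both normalisers `N(E)` and contains generators of the shape required by
the model of `L`.
-/

set_option autoImplicit false

namespace Cfsg.Agent.TwoTimesSym

open Subgroup

variable {G : Type*} [Group G] {t u z a k : G}

namespace Hyp

variable [Finite G] (h : Hyp t u z a k) (h4 : Four t u z)
variable (hfix : ∀ g ∈ nrm (tG t u z a k), cj g u = u)
include h h4 hfix

theorem fix_mirror : ∀ g ∈ nrm (tG t (u * z) z (u * k) (u * a)), cj g (u * z) = u * z := by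
  intro g hg
  rw [show tG t (u * z) z (u * k) (u * a) = tG t u z a k from h.toFrame.closure_mirror] at hg
  rw [cj_mul, hfix g hg, h.cj_z hg]

theorem L_le_N1 : nrm (tG t u z a k) ≤ nrm (eG t u z a) := by
  have key : ∀ g ∈ nrm (tG t u z a k), cj g t = t * (u * z) → g ∈ nrm (eG t u z a) := by
    intro g hg e
    have hg' : g ∈ nrm (tG t (u * z) z (u * k) (u * a)) := by
      rw [show tG t (u * z) z (u * k) (u * a) = tG t u z a k from h.toFrame.closure_mirror]; exact hg
    have := h.mirror.mem_N1_of_fix_u hg' (h.fix_mirror h4 hfix g hg') (Or.inr e)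
    rw [show eG t (u * z) z (u * k) = eG t u z k from h.toFrame.closure_mirror1] at this
    exact (h.mem_N2_iff hg).1 this
  intro g hg
  rcases h.cj_t_four h4 hg with e | e | e | e
  · exact h.mem_N1_of_fix_u hg (hfix g hg) (Or.inl e)
  · obtain ⟨l, hl, hlt⟩ := h.exists_L_cj h4 (e := true) (i := true) (j := false) rfl
    rw [show (TEl.cen true true false).ev t u z a k = t * u by simp [Frame.ev_cen, pz]] at hlt
    have hlN := h.mem_N1_of_fix_u hl (hfix l hl) (Or.inr hlt)
    have hgl : cj (g * l) t = t * (u * z) := by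
      rw [← cj_cj, e, cj_mul, hlt, h.cj_z hl, mul_assoc]
    exact (mul_mem_cancel_right hlN).1 (key _ (mul_mem hg hl) hgl)
  · exact h.mem_N1_of_fix_u hg (hfix g hg) (Or.inr e)
  · exact key g hg e

theorem fix_orb1 : Nat.card (orb (nrm (eG t u z a)) t) = 8 := by
  rw [h.card_orb1 (fun e _ _ => e) ?_]
  · rfl
  · intro e i j
    refine ⟨fun ⟨g, _, hge⟩ => (h.conj_cen_iff h4 e i j).1 (isConj_iff_cj.2 ⟨g, hge⟩), fun he => ?_⟩
    obtain ⟨g, hg, hge⟩ := h.exists_L_cj h4 (e := e) (i := i) (j := j) he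
    exact ⟨g, h.L_le_N1 h4 hfix hg, hge⟩

theorem fix_card_N1 : Nat.card (nrm (eG t u z a)) = 768 := by rw [h.card_N1, h.fix_orb1 h4 hfix]

theorem fix_card_N2 : Nat.card (nrm (eG t u z k)) = 768 := by
  rw [show eG t u z k = eG t (u * z) z (u * k) from h.toFrame.closure_mirror1.symm]
  exact h.mirror.fix_card_N1 (h.four_mirror h4) (h.fix_mirror h4 hfix)

omit hfix in
/-- No element takes `t` to `tu` and shears `k` by `u`. -/
theorem no_shear {g : G} (gt : cj g t = t * u) (gu : cj g u = u) (gz : cj g z = z)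
    (gk : cj g k = k * u) : False := by
  obtain ⟨w, hw, w1, w2, w3⟩ := h.w2
  have hwt := cj_eq_self.2 hw
  have hg' : ∀ x, cj (cj w g) (cj w x) = cj w (cj g x) := fun x => by
    rw [cj_cj, cj_cj, show w * cj w g = g * w by rw [cj]; group]
  have e1 : cj (cj w g) t = t * u := by
    have := hg' t; rwa [hwt, gt, cj_mul w, hwt, w1] at this
  have e2 : cj (cj w g) u = u := by
    have := hg' u; rwa [w1, gu, w1] at this
  have hkz : cj w (k * z) = z := by
    rw [cj_mul, w2, w3, mul_assoc, h.zk, ← mul_assoc, h.k2, one_mul]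
  have e3 : cj (cj w g) z = z * u := by
    have := hg' (k * z)
    rw [hkz, cj_mul g, gk, gz, cj_mul w, cj_mul w, w3, w1, w2] at this
    rw [this, show k * z * u * k = k * (z * (u * k)) by group, h.uk, ← mul_assoc z, h.zk,
      show k * (k * z * u) = k * k * (z * u) by group, h.k2, one_mul]
  have hc : cj (g * cj w g) t = t ∧ cj (g * cj w g) z = z * u := by
    refine ⟨?_, ?_⟩
    · rw [← cj_cj, gt, cj_mul, e1, e2, mul_assoc, h.u2, mul_one]
    · rw [← cj_cj, gz, e3]
  have := h.eq_of_conj_C (e := false) (i := false) (j := true) (e' := false) (i' := true) (j' := true)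
    (cj_eq_self.1 hc.1) (by rw [Frame.ev_z, hc.2, h.zu]; simp [Frame.ev_cen, pz])
  simp at this

theorem exists_gu : ∃ s ∈ nrm (tG t u z a k), cj s t = t * u ∧ cj s k = k ∧
    ∃ x : Bool, cj s a = a * pw u x := by
  obtain ⟨g, hg, hgt⟩ := h.exists_L_cj h4 (e := true) (i := true) (j := false) rfl
  rw [show (TEl.cen true true false).ev t u z a k = t * u by simp [Frame.ev_cen, pz]] at hgt
  have hgN := h.L_le_N1 h4 hfix hg
  have hgu := hfix g hg
  have hgz := h.cj_z hg
  have hnc : ∀ e i j, cj g⁻¹ ((TEl.cen e i j).ev t u z a k) ≠ a ∧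
      cj g⁻¹ ((TEl.cen e i j).ev t u z a k) ≠ k := by
    intro e i j
    obtain ⟨e', i', j', he⟩ := h.cj_cen (inv_mem hg) e i j
    rw [← he]
    constructor
    · intro hh
      have := h.ev_inj.1 (hh.trans (Frame.ev_a (t := t) (u := u) (z := z) (a := a) (k := k)).symm)
      simp [TEl.cen] at this
    · intro hh
      have := h.ev_inj.1 (hh.trans (Frame.ev_k (t := t) (u := u) (z := z) (a := a) (k := k)).symm)
      simp [TEl.cen] at this
  have hinvx : ∀ x, cj g⁻¹ (cj g x) = x := fun x => by rw [cj_cj, mul_inv_cancel, cj_by_one]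
  obtain ⟨x, x', hga⟩ : ∃ x x', cj g a = (⟨false, true, false, (x, x')⟩ : TEl).ev t u z a k := by
    obtain ⟨p, i, j, he⟩ := h.mem_A.1 (h.N1_cj_A h4 hgN (subset_closure (by simp) : a ∈ aG u z a))
    cases p with
    | false => exact absurd ((congrArg (cj g⁻¹) he).trans (hinvx a)) (hnc false i j).1
    | true => exact ⟨i, j, he.symm⟩
  obtain ⟨y, y', hgk⟩ : ∃ y y', cj g k = (⟨false, false, true, (y, y')⟩ : TEl).ev t u z a k := by
    obtain ⟨⟨e, p, q, i, j⟩, hX, hXe⟩ := h.toFrame.mem_E2.1
      (nrm_iff.1 ((h.mem_N2_iff hg).2 hgN) k (subset_closure (.inr (.inr (.inr rfl)))))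
    obtain rfl : p = false := hX
    have he : e = false := by
      by_contra hne
      simp only [Bool.not_eq_false] at hne
      have hc := (h.conj_T_iff h4 ⟨e, false, q, (i, j)⟩ (by simp)).2 hne
      rw [hXe] at hc
      have := (h.conj_T_iff h4 ⟨false, false, true, (false, false)⟩ rfl).1
        (by rw [Frame.ev_k]; exact hc.trans (isConj_cj g k).symm)
      simp at this
    subst he
    cases q with
    | false => exact absurd ((congrArg (cj g⁻¹) hXe).trans (hinvx k)) (hnc false i j).2
    | true => exact ⟨i, j, hXe.symm⟩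
  let l := g * pw k x' * pw a y'
  have hl : l ∈ nrm (tG t u z a k) := by
    refine mul_mem (mul_mem hg ?_) ?_
    · cases x'
      · exact one_mem _
      · exact Subgroup.le_normalizer h.k_mem
    · cases y'
      · exact one_mem _
      · exact Subgroup.le_normalizer h.a_mem
  have cka : cj k a = a * z := by
    rw [cj, inv_eq_of_mul_eq_one_right h.k2, h.ka, show a * k * z * k = a * (k * (z * k)) by group,
      h.zk, ← mul_assoc k k, h.k2, one_mul]
  have cak : cj a k = k * z := by
    rw [cj, inv_eq_of_mul_eq_one_right h.a2, mul_assoc, h.ka,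
      show a * (a * k * z) = a * a * (k * z) by group, h.a2, one_mul]
  have ckt : cj k t = t := cj_eq_self.2 h.tk
  have cat : cj a t = t := cj_eq_self.2 h.ta
  have cku : cj k u = u := cj_eq_self.2 h.uk.symm
  have cau : cj a u = u := cj_eq_self.2 h.ua.symm
  have ckz : cj k z = z := cj_eq_self.2 h.zk.symm
  have caz : cj a z = z := cj_eq_self.2 h.za.symm
  have cpk : ∀ (v : G) (b : Bool), cj k v = v → cj (pw k b) v = v := fun v b e => by cases b <;> simp [e]
  have cpa : ∀ (v : G) (b : Bool), cj a v = v → cj (pw a b) v = v := fun v b e => by cases b <;> simp [e]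
  have vt : cj l t = t * u := by
    rw [← cj_cj, ← cj_cj, hgt, cj_mul, cj_mul, cpk _ _ ckt, cpk _ _ cku, cpa _ _ cat, cpa _ _ cau]
  have va : cj l a = a * pw u x := by
    rw [← cj_cj, ← cj_cj, hga, show (⟨false, true, false, (x, x')⟩ : TEl).ev t u z a k = a * (pw u x * pw z x') by
      simp [TEl.ev, El.ev, pz], cj_mul, cj_mul, cj_mul, cj_mul,
      show cj (pw k x') (pw u x) = pw u x by cases x <;> simp [cpk _ _ cku],
      show cj (pw k x') (pw z x') = pw z x' by cases x' <;> simp [ckz],
      show cj (pw a y') (pw u x) = pw u x by cases x <;> simp [cpa _ _ cau],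
      show cj (pw a y') (pw z x') = pw z x' by cases x' <;> simp [cpa _ _ caz]]
    cases x'
    · simp [cpa _ _ (cj_eq_self.2 (rfl : a * a = a * a))]
    · simp only [pw_true, cka, cj_mul, cpa _ _ caz, cpa _ _ (cj_eq_self.2 (rfl : a * a = a * a))]
      cases x
      · simp [mul_assoc, h.z2]
      · rw [pw_true, show a * z * (u * z) = a * ((z * u) * z) by group, h.zu, mul_assoc, h.z2, mul_one]
  have vk : cj l k = k * pw u y := by
    rw [← cj_cj, ← cj_cj, hgk, show (⟨false, false, true, (y, y')⟩ : TEl).ev t u z a k = k * (pw u y * pw z y') by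
      simp [TEl.ev, El.ev, pz], cj_mul, cj_mul, cj_mul, cj_mul,
      show cj (pw k x') (pw u y) = pw u y by cases y <;> simp [cpk _ _ cku],
      show cj (pw k x') (pw z y') = pw z y' by cases y' <;> simp [cpk _ _ ckz],
      show cj (pw a y') (pw u y) = pw u y by cases y <;> simp [cpa _ _ cau],
      show cj (pw a y') (pw z y') = pw z y' by cases y' <;> simp [caz],
      cpk _ _ (cj_eq_self.2 (rfl : k * k = k * k))]
    cases y'
    · simp
    · simp only [pw_true, cak]
      cases y
      · simp [mul_assoc, h.z2]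
      · rw [pw_true, show k * z * (u * z) = k * ((z * u) * z) by group, h.zu, mul_assoc, h.z2, mul_one]
  cases y with
  | false => exact ⟨l, hl, vt, by simpa using vk, x, va⟩
  | true => exact (h.no_shear h4 vt (hfix l hl) (h.cj_z hl) (by simpa using vk)).elim

omit hfix in
theorem gu_sq {s : G} (hs : s ∈ nrm (tG t u z a k)) {x : Bool} (st : cj s t = t * u) (su : cj s u = u)
    (sa : cj s a = a * pw u x) (sk : cj s k = k) : ∃ i : Bool, s * s = pw u i := by
  have sz := h.cj_z hs
  have hpu : cj s (pw u x) = pw u x := by cases x <;> simp [su]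
  have s2t : cj (s * s) t = t := by rw [← cj_cj, st, cj_mul, st, su, mul_assoc, h.u2, mul_one]
  have s2a : cj (s * s) a = a := by
    rw [← cj_cj, sa, cj_mul, sa, hpu]; cases x <;> simp [mul_assoc, h.u2]
  have s2k : cj (s * s) k = k := by rw [← cj_cj, sk, sk]
  obtain ⟨e, i, j, he⟩ := h.center_T (h.cj_fix_of_T (mul_mem hs hs) s2t) (cj_eq_self.1 s2a) (cj_eq_self.1 s2k)
  have hf : ∀ e i j, (TEl.cen e i j).ev t u z a k = pw t e * (pw u i * pw z j) := fun e i j => by
    simp [Frame.ev_cen, pz]
  have hfs : cj s ((TEl.cen e i j).ev t u z a k) = (TEl.cen e i j).ev t u z a k := by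
    rw [he, cj_eq_self]; group
  have he0 : e = false := by
    have h2 : cj s ((TEl.cen e i j).ev t u z a k) = (TEl.cen e (xor i e) j).ev t u z a k := by
      have uu : ∀ y, u * (u * y) = y := fun y => by rw [← mul_assoc, h.u2, one_mul]
      rw [hf, hf, cj_mul, cj_mul]
      cases e <;> cases i <;> cases j <;> simp [st, su, sz, mul_assoc, h.u2, uu]
    rw [hfs] at h2
    have := h.ev_inj.1 h2
    simp only [TEl.cen, TEl.mk.injEq, Prod.mk.injEq, true_and] at this
    revert this
    cases e <;> cases i <;> simp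
  subst he0
  refine ⟨i, ?_⟩
  obtain ⟨w, hw, w1, w2, w3⟩ := h.w2
  have hwt := cj_eq_self.2 hw
  set s' := cj w s with hs'def
  have hg' : ∀ x, cj s' (cj w x) = cj w (cj s x) := fun x => by
    rw [cj_cj, cj_cj, show w * s' = s * w by rw [hs'def, cj]; group]
  have e1 : cj s' t = t * u := by
    have := hg' t; rwa [hwt, st, cj_mul w, hwt, w1] at this
  have e2 : cj s' u = u := by
    have := hg' u; rwa [w1, su, w1] at this
  have e3 : cj s' z = z := by
    have hkz : cj w (k * z) = z := by
      rw [cj_mul, w2, w3, mul_assoc, h.zk, ← mul_assoc, h.k2, one_mul]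
    have := hg' (k * z)
    rwa [hkz, cj_mul s, sk, sz, hkz] at this
  have e4 : cj s' k = k := by
    have := hg' z; rwa [w2, sz, w2] at this
  have hm : s' * s⁻¹ ∈ eG t u z k := h.cent2 _
    (cj_eq_self.1 (by rw [← cj_cj, e1]; exact cj_inv_left st))
    (cj_eq_self.1 (by rw [← cj_cj, e2]; exact cj_inv_left su))
    (cj_eq_self.1 (by rw [← cj_cj, e3]; exact cj_inv_left sz))
    (cj_eq_self.1 (by rw [← cj_cj, e4]; exact cj_inv_left sk))
  obtain ⟨⟨ε, p, q, i', j'⟩, hX, hXe⟩ := h.toFrame.mem_E2.1 hm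
  obtain rfl : p = false := hX
  have hsplit : (⟨ε, false, q, (i', j')⟩ : TEl).ev t u z a k = pw t ε * (pw k q * (pw u i' * pw z j')) := by
    simp [TEl.ev, El.ev, pz, mul_assoc]
  have hsi : cj s⁻¹ ((⟨ε, false, q, (i', j')⟩ : TEl).ev t u z a k) =
      (⟨ε, false, q, (xor i' ε, j')⟩ : TEl).ev t u z a k := by
    have st' : cj s⁻¹ t = t * u := by
      refine cj_inv_left (x := t * u) ?_
      rw [cj_mul, st, su, mul_assoc, h.u2, mul_one]
    have su' : cj s⁻¹ u = u := cj_inv_left su
    have sz' : cj s⁻¹ z = z := cj_inv_left sz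
    have sk' : cj s⁻¹ k = k := cj_inv_left sk
    rw [hsplit, cj_mul, cj_mul, cj_mul,
      show cj s⁻¹ (pw t ε) = pw (t * u) ε by cases ε <;> simp [st'],
      show cj s⁻¹ (pw k q) = pw k q by cases q <;> simp [sk'],
      show cj s⁻¹ (pw u i') = pw u i' by cases i' <;> simp [su'],
      show cj s⁻¹ (pw z j') = pw z j' by cases j' <;> simp [sz']]
    have uu : ∀ y, u * (u * y) = y := fun y => by rw [← mul_assoc, h.u2, one_mul]
    have uk' : ∀ y, u * (k * y) = k * (u * y) := fun y => by rw [← mul_assoc, h.uk, mul_assoc]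
    cases ε <;> cases q <;> cases i' <;> cases j' <;> simp [TEl.ev, El.ev, pz, mul_assoc, h.u2, uu, uk', h.uk]
  have hsq : cj w (s * s) = (TEl.cen false ε false).ev t u z a k * (s * s) := by
    rw [cj_mul, ← hs'def]
    have : s' = (⟨ε, false, q, (i', j')⟩ : TEl).ev t u z a k * s := by
      rw [hXe, inv_mul_cancel_right]
    rw [this, show ∀ E : G, E * s * (E * s) = E * cj s⁻¹ E * (s * s) from fun E => by simp [cj, mul_assoc],
      hsi, ← h.toFrame.ev_mul]
    congr 2
    clear * -
    revert ε q i' j'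
    decide
  rw [← he, ← h.toFrame.ev_mul, hf, cj_mul, cj_mul,
    show cj w (pw t false) = 1 by simp, show cj w (pw u i) = pw u i by cases i <;> simp [w1],
    show cj w (pw z j) = pw k j by cases j <;> simp [w2]] at hsq
  cases j with
  | false => rw [← he]; simp [Frame.ev_cen, pz]
  | true =>
    exfalso
    have hk : pw u i * k = (⟨false, false, true, (i, false)⟩ : TEl).ev t u z a k := by
      cases i <;> simp [TEl.ev, El.ev, pz, h.uk]
    rw [one_mul, pw_true, hk] at hsq
    have := h.ev_inj.1 hsq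
    simp [TEl.mul, TEl.cen] at this

omit hfix in
theorem mk_gen {s g : G} {x y : Bool} (sL : s ∈ nrm (tG t u z a k)) (gL : g ∈ nrm (tG t u z a k))
    (st : cj s t = t * u) (su : cj s u = u) (sa : cj s a = a * pw u x) (sk : cj s k = k)
    (gt : cj g t = t * (u * z)) (gu : cj g u = u) (ga : cj g a = a) (gk : cj g k = k * pw (u * z) y) :
    ∃ i j c, LGen t u z a k s g ⟨x, y, i, j, c⟩ := by
  have sz := h.cj_z sL
  have gz := h.cj_z gL
  obtain ⟨i, hi⟩ := h.gu_sq h4 sL st su sa sk
  have zz : ∀ v, u * (u * v) = v := fun v => by rw [← mul_assoc, h.u2, one_mul]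
  have hgL' : g ∈ nrm (tG t (u * z) z (u * k) (u * a)) := by
    rw [show tG t (u * z) z (u * k) (u * a) = tG t u z a k from h.toFrame.closure_mirror]; exact gL
  obtain ⟨j, hj⟩ := h.mirror.gu_sq (h.four_mirror h4) hgL' (x := y) gt (by rw [cj_mul, gu, gz])
    (by rw [cj_mul, gu, gk, mul_assoc]) (by rw [cj_mul, gu, ga])
  have hub : cj s (u * z) = u * z := by rw [cj_mul, su, sz]
  have hpx : cj g (pw u x) = pw u x := by cases x <;> simp [gu]
  have hpy : cj s (pw (u * z) y) = pw (u * z) y := by cases y <;> simp [hub]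
  set c1 := g * s * (s * g)⁻¹ with hc1
  have hcfix : ∀ v, cj (g * s) v = cj (s * g) v → cj c1 v = v := fun v hv => by
    rw [hc1, ← cj_cj (g * s), hv, cj_cj, mul_inv_cancel, cj_by_one]
  have ct : cj c1 t = t := hcfix t (by
    rw [← cj_cj, gt, cj_mul, st, hub, ← cj_cj, st, cj_mul, gt, gu, mul_assoc, mul_assoc t (u * z) u,
      show u * (u * z) = z by exact zz z, show u * z * u = z by rw [mul_assoc, h.zu, zz]])
  have ca : cj c1 a = a := hcfix a (by rw [← cj_cj, ga, sa, ← cj_cj, sa, cj_mul, ga, hpx])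
  have ck : cj c1 k = k := hcfix k (by rw [← cj_cj, gk, cj_mul, sk, hpy, ← cj_cj, sk, gk])
  have cL : c1 ∈ nrm (tG t u z a k) := mul_mem (mul_mem gL sL) (inv_mem (mul_mem sL gL))
  obtain ⟨e, c'i, c'j, he⟩ := h.center_T (h.cj_fix_of_T cL ct) (cj_eq_self.1 ca) (cj_eq_self.1 ck)
  have he0 : e = false := by
    by_contra hne
    simp only [Bool.not_eq_false] at hne
    subst hne
    have hcen : (TEl.cen true c'i c'j).ev t u z a k = t * pz u z (c'i, c'j) := by simp [Frame.ev_cen]
    have gt' : cj g⁻¹ t = t * (u * z) := by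
      refine cj_inv_left (x := t * (u * z)) ?_
      rw [cj_mul, gt, cj_mul, gu, gz, mul_assoc, mul_assoc u z (u * z), ← mul_assoc z u z, h.zu,
        mul_assoc u z z, h.z2, mul_one, h.u2, mul_one]
    have gp : cj g⁻¹ (pz u z (c'i, c'j)) = pz u z (c'i, c'j) := by
      refine cj_inv_left ?_
      cases c'i <;> cases c'j <;> simp [pz, cj_mul, gu, gz]
    have h2 : cj g⁻¹ c1 * c1 = 1 := by
      have e2 : g * g * s = s * (g * g) := by
        rw [hj]
        cases j
        · simp
        · simpa using (cj_eq_self.1 hub).symm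
      calc cj g⁻¹ c1 * c1 = g * (g * s * (s * g)⁻¹) * g⁻¹ * (g * s * (s * g)⁻¹) := by
            rw [hc1, cj, inv_inv]
        _ = (g * g * s) * (g * g)⁻¹ * s⁻¹ := by group
        _ = 1 := by rw [e2]; group
    rw [← he, hcen, cj_mul, gt', gp] at h2
    have hb : t * (u * z) * pz u z (c'i, c'j) * (t * pz u z (c'i, c'j)) =
        (TEl.cen false true true).ev t u z a k := by
      have e1 : t * (u * z) * pz u z (c'i, c'j) = (TEl.cen true (!c'i) (!c'j)).ev t u z a k := by
        rw [Frame.ev_cen, mul_assoc, show u * z = pz u z (true, true) by simp [pz],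
          pz_add h.u2 h.z2 h.zu]
        cases c'i <;> cases c'j <;> rfl
      rw [e1, ← hcen, ← h.toFrame.ev_mul]
      congr 1
      clear * -
      revert c'i c'j
      decide
    rw [hb] at h2
    have := h.inj _ h2
    simp [TEl.cen, TEl.one] at this
  subst he0
  have hc : g * s = c1 * (s * g) := by rw [hc1, inv_mul_cancel_right]
  have hcomm : c1 * (s * g) = s * g * c1 := by
    refine Eq.symm (cj_eq_self.1 ?_)
    have hc1' : c1 = pz u z (c'i, c'j) := by rw [← he]; simp [Frame.ev_cen]
    rw [← cj_cj, hc1']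
    cases c'i <;> cases c'j <;> simp [pz, cj_mul, su, sz, gu, gz]
  refine ⟨i, j, (c'i, c'j), ⟨sL, gL, st, su, sa, sk, gt, gu, ga, gk, hi, hj, ?_⟩⟩
  rw [hc, hcomm, ← he]
  simp [Frame.ev_cen]

theorem exists_gen : ∃ s g, ∃ P : LP, LGen t u z a k s g P := by
  obtain ⟨s, sL, st, sk, x, sa⟩ := h.exists_gu h4 hfix
  obtain ⟨g, gL', gt, ga', y, gk'⟩ := h.mirror.exists_gu (h.four_mirror h4) (h.fix_mirror h4 hfix)
  have gL : g ∈ nrm (tG t u z a k) := by
    rwa [show tG t (u * z) z (u * k) (u * a) = tG t u z a k from h.toFrame.closure_mirror] at gL'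
  have gu := hfix g gL
  rw [cj_mul, gu] at ga' gk'
  rw [mul_assoc] at gk'
  obtain ⟨i, j, c, hP⟩ := h.mk_gen h4 sL gL st (hfix s sL) sa sk gt gu (mul_left_cancel ga')
    (mul_left_cancel gk')
  exact ⟨s, g, _, hP⟩

end Hyp

end Cfsg.Agent.TwoTimesSym
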