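import Cfsg.Agent.TwoTimesSym.CentCount
import Cfsg.Agent.TwoTimesSym.NormT

/-!
The case where the central conjugates of `t` in `T` are `t, tz, tu, tuz`.

Then being conjugate to `t` is additive on commuting pairs of involutions.
-/

set_option autoImplicit false

namespace Cfsg.Agent.TwoTimesSym

open Subgroup

variable {G : Type*} [Group G] {t u z a k : G}

/-- The central conjugates of `t` in `T` are `t, tz, tu, tuz`. -/
structure Four (t u z : G) : Prop where
  cz : IsConj t (t * z)
  cu : IsConj t (t * u)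
  cb : IsConj t (t * (u * z))
  nu : ¬ IsConj t u
  nb : ¬ IsConj t (u * z)

namespace Hyp

variable [Finite G] (h : Hyp t u z a k) (h4 : Four t u z)
include h h4

omit [Finite G] in
theorem four_mirror : Four t (u * z) z := by
  have e : u * z * z = u := by rw [mul_assoc, h.z2, mul_one]
  exact ⟨h4.cz, h4.cb, by rw [e]; exact h4.cu, h4.nb, by rw [e]; exact h4.nu⟩

theorem conj_cen_iff (e i j : Bool) : IsConj t ((TEl.cen e i j).ev t u z a k) ↔ e = true := by
  have n1 := h.not_conj_one
  have n2 := h.not_conj_z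
  cases e <;> cases i <;> cases j <;> simp only [Frame.ev_cen, pz, pw_true, pw_false, one_mul, mul_one,
    h4.cz, h4.cu, h4.cb, h4.nu, h4.nb, n1, n2, IsConj.refl, Bool.false_eq_true]

theorem conj_t_mul {y : G} (hy : y * t = t * y) (hy2 : y * y = 1) :
    IsConj t (t * y) ↔ ¬ IsConj t y := by
  rcases h.rep y hy hy2 with rfl | ⟨g, hg, hm⟩
  · simp only [mul_one, IsConj.refl, h.not_conj_one, not_false_eq_true]
  · have ht := cj_eq_self.2 hg
    have e1 : IsConj (t * y) (t * cj g y) := by
      have := isConj_cj g (t * y)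
      rwa [cj_mul, ht] at this
    have e2 := isConj_cj g y
    rw [show IsConj t (t * y) ↔ IsConj t (t * cj g y) from ⟨fun e => e.trans e1, fun e => e.trans e1.symm⟩,
      show IsConj t y ↔ IsConj t (cj g y) from ⟨fun e => e.trans e2, fun e => e.trans e2.symm⟩]
    have tt : ∀ x : G, t * (t * x) = x := fun x => by rw [← mul_assoc, h.t2, one_mul]
    have n1 := h.not_conj_one
    have n2 := h.not_conj_z
    simp only [Set.mem_insert_iff, Set.mem_singleton_iff] at hm
    rcases hm with e | e | e | e | e | e | e <;> rw [e]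
    · simp only [h.t2, IsConj.refl, n1, not_true_eq_false]
    · simp only [h4.cu, h4.nu, not_false_eq_true]
    · simp only [h4.cz, n2, not_false_eq_true]
    · simp only [h4.cb, h4.nb, not_false_eq_true]
    · simp only [tt, h4.cu, h4.nu, not_true_eq_false]
    · simp only [tt, h4.cz, n2, not_true_eq_false]
    · simp only [tt, h4.cb, h4.nb, not_true_eq_false]

/-- Additivity of being conjugate to `t`. -/
theorem chi_mul {x y : G} (hx : x * x = 1) (hy : y * y = 1) (hxy : x * y = y * x) :
    IsConj t (x * y) ↔ ¬ (IsConj t x ↔ IsConj t y) := by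
  have key : ∀ {x y : G}, y * y = 1 → x * y = y * x → IsConj t x → (IsConj t (x * y) ↔ ¬ IsConj t y) := by
    intro x y hy hxy hc
    obtain ⟨g, hg⟩ := isConj_iff_cj.1 hc
    have hgi := cj_inv_left hg
    have e1 := isConj_cj g⁻¹ (x * y)
    have e2 := isConj_cj g⁻¹ y
    rw [cj_mul, hgi] at e1
    rw [show IsConj t (x * y) ↔ IsConj t (t * cj g⁻¹ y) from ⟨fun e => e.trans e1, fun e => e.trans e1.symm⟩,
      show IsConj t y ↔ IsConj t (cj g⁻¹ y) from ⟨fun e => e.trans e2, fun e => e.trans e2.symm⟩]
    refine h.conj_t_mul h4 ?_ (by rw [← cj_mul, hy, cj_one])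
    rw [← hgi, ← cj_mul, ← cj_mul, hxy]
  by_cases hcx : IsConj t x
  · rw [key hy hxy hcx]
    simp only [hcx, true_iff]
  by_cases hcy : IsConj t y
  · rw [hxy, key hx hxy.symm hcy]
    simp only [hcx, hcy, false_iff, not_not, not_false_eq_true, iff_true, not_true_eq_false]
  · simp only [hcx, hcy, iff_self, not_true_eq_false, iff_false]
    intro hc
    have h2 : x * y * (x * y) = 1 := by
      calc x * y * (x * y) = x * (y * x) * y := by group
        _ = x * x * (y * y) := by rw [← hxy]; group
        _ = 1 := by rw [hx, hy, one_mul]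
    have := (key hx (by rw [mul_assoc, ← hxy]) hc).2 hcx
    rw [mul_assoc, ← hxy, ← mul_assoc, hx, one_mul] at this
    exact hcy this

/-- Which involutions of `T` are conjugate to `t`. -/
theorem conj_T_iff (X : TEl) (hX : (X.p && X.q) = false) :
    IsConj t (X.ev t u z a k) ↔ X.e = true := by
  obtain ⟨e, p, q, i, j⟩ := X
  have hna : ¬ IsConj t a := fun hc => by
    obtain ⟨g, -, hg⟩ := h.ua_conj
    exact h4.nu (hc.trans (hg ▸ isConj_cj g u).symm)
  have hnk : ¬ IsConj t k := fun hc => by
    obtain ⟨g, -, hg⟩ := h.zk_conj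
    exact h.not_conj_z (hc.trans (hg ▸ isConj_cj g z).symm)
  have hc2 : (TEl.cen e i j).ev t u z a k * (TEl.cen e i j).ev t u z a k = 1 := by
    rw [← h.toFrame.ev_mul]
    have : ∀ e i j, (TEl.cen e i j).mul (TEl.cen e i j) = TEl.one := by decide
    rw [this, Frame.ev_one]
  cases p <;> cases q
  · exact h.conj_cen_iff h4 e i j
  · have he : (⟨e, false, true, (i, j)⟩ : TEl).ev t u z a k = k * (TEl.cen e i j).ev t u z a k := by
      rw [show ∀ X : TEl, k * X.ev t u z a k = ((⟨false, false, true, (false, false)⟩ : TEl).mul X).ev t u z a k from fun X => by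
        rw [h.toFrame.ev_mul, Frame.ev_k]]
      congr 1
      clear hc2
      revert e i j
      decide
    rw [he, h.chi_mul h4 h.k2 hc2 (h.cen_comm e i j h.k_mem), h.conj_cen_iff h4]
    simp only [hnk, false_iff, not_not]
  · have he : (⟨e, true, false, (i, j)⟩ : TEl).ev t u z a k = a * (TEl.cen e i j).ev t u z a k := by
      rw [show ∀ X : TEl, a * X.ev t u z a k = ((⟨false, true, false, (false, false)⟩ : TEl).mul X).ev t u z a k from fun X => by
        rw [h.toFrame.ev_mul, Frame.ev_a]]
      congr 1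
      clear hc2
      revert e i j
      decide
    rw [he, h.chi_mul h4 h.a2 hc2 (h.cen_comm e i j h.a_mem), h.conj_cen_iff h4]
    simp only [hna, false_iff, not_not]
  · simp at hX

theorem card_orbL_four : Nat.card (orb (nrm (tG t u z a k)) t) = 4 := by
  classical
  rw [h.card_orbL, card_triples]
  simp only [h.conj_cen_iff h4, if_true, Bool.false_eq_true, if_false]

theorem card_L_four : Nat.card (nrm (tG t u z a k)) = 128 := by
  rw [h.card_L, h.card_orbL_four h4]

theorem isPGroup_L : IsPGroup 2 (nrm (tG t u z a k)) :=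
  IsPGroup.of_card (n := 7) (by rw [h.card_L_four h4]; norm_num)

theorem cj_t_four {g : G} (hg : g ∈ nrm (tG t u z a k)) :
    cj g t = t ∨ cj g t = t * z ∨ cj g t = t * u ∨ cj g t = t * (u * z) := by
  obtain ⟨e, i, j, he, hc⟩ := h.orb_L_subset ⟨g, hg, rfl⟩
  rw [← he, h.conj_cen_iff h4] at hc
  subst hc
  cases i <;> cases j <;> simp [Frame.ev_cen, pz] at he <;> simp [← he]

theorem cj_u_four {g : G} (hg : g ∈ nrm (tG t u z a k)) : cj g u = u ∨ cj g u = u * z := by
  obtain ⟨e, i, j, he⟩ := h.cj_cen hg false true false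
  rw [Frame.ev_u] at he
  cases e with
  | true =>
    exact absurd (((h.conj_cen_iff h4 true i j).2 rfl).trans (he ▸ (isConj_cj g u).symm)) h4.nu
  | false =>
    cases i <;> cases j <;> simp only [Frame.ev_cen, pz, pw_true, pw_false, one_mul, mul_one] at he
    · exfalso
      have := cj_injective g (he.symm.trans (cj_one g).symm)
      exact absurd (h.inj (TEl.cen false true false) (by rw [Frame.ev_u, this])) (by decide)
    · exfalso
      have := cj_injective g (he.symm.trans (h.cj_z hg).symm)
      exact absurd (h.ev_inj.1 ((Frame.ev_u (t := t) (u := u) (z := z) (a := a) (k := k)).trans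
        (this.trans (Frame.ev_z (t := t) (u := u) (z := z) (a := a) (k := k)).symm))) (by decide)
    · exact Or.inl he.symm
    · exact Or.inr he.symm

theorem exists_L_cj {e i j : Bool} (he : e = true) :
    ∃ g ∈ nrm (tG t u z a k), cj g t = (TEl.cen e i j).ev t u z a k :=
  h.mem_orb_L ((h.conj_cen_iff h4 e i j).2 he)

omit h4 in
theorem cj_fix_of_T {g : G} (hg : g ∈ nrm (tG t u z a k)) (ht : cj g t = t) : g ∈ tG t u z a k := by
  rw [← h.cent_inf_nrm]; exact mem_inf.2 ⟨mem_cent.2 (cj_eq_self.1 ht), hg⟩

omit h4 in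
/-- An element fixing `u` and taking `t` into `{t, tu}` fixes the elementary abelian groups. -/
theorem mem_N1_of_fix_u {g : G} (hg : g ∈ nrm (tG t u z a k)) (hgu : cj g u = u)
    (hgt : cj g t = t ∨ cj g t = t * u) : g ∈ nrm (eG t u z a) := by
  by_contra hn
  have hsw := h.swap_of_notMem hg hn
  obtain ⟨w, hw, w1, w2, w3⟩ := h.w2
  have hwt := cj_eq_self.2 hw
  have hwN : w ∈ nrm (eG t u z k) := cj_closure fun x hx => by
    have hm : ∀ v ∈ ({t, u, z, k} : Set G), v ∈ eG t u z k := fun v hv => subset_closure hv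
    rcases hx with rfl | rfl | rfl | rfl
    · rw [hwt]; exact hm _ (by simp)
    · rw [w1]; exact hm _ (by simp)
    · rw [w2]; exact hm _ (by simp)
    · rw [w3]; exact mul_mem (hm _ (by simp)) (hm _ (by simp))
  let w' := g⁻¹ * w * g
  have hw'v : ∀ x, cj w x = x → cj w' (cj g x) = cj g x := fun x hx => by
    rw [cj_cj, show g * w' = w * g by simp only [w']; group, ← cj_cj, hx]
  have hw'u : cj w' u = u := by have := hw'v u w1; rwa [hgu] at this
  have hw't : cj w' t = t := by
    rcases hgt with e | e
    · have := hw'v t hwt; rwa [e] at this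
    · have := hw'v t hwt
      rw [e, cj_mul, hw'u] at this
      exact mul_right_cancel this
  have hw'N : ∀ x ∈ eG t u z a, cj w' x ∈ eG t u z a := by
    intro x hx
    have hsw' := h.swap_of_notMem (inv_mem hg) fun hm => hn (inv_mem_iff.1 hm)
    have := nrm_iff.1 hwN _ (hsw'.1 x hx)
    have h2 := hsw.2 _ this
    rwa [cj_cj, cj_cj, ← mul_assoc] at h2
  have hw'T := h.nu1 w' (cj_eq_self.1 hw't) (cj_eq_self.1 hw'u) hw'N
  have hwT : w ∈ tG t u z a k := by
    have := nrm_iff.1 (inv_mem hg) w' hw'T
    simpa [cj, w', mul_assoc] using this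
  have : cj w z = z := cj_eq_self.2 (by
    have := h.cen_comm false false true hwT
    rwa [Frame.ev_z] at this)
  rw [w2] at this
  exact absurd (h.ev_inj.1 ((Frame.ev_k (t := t) (u := u) (z := z) (a := a) (k := k)).trans
    (this.trans (Frame.ev_z (t := t) (u := u) (z := z) (a := a) (k := k)).symm))) (by decide)

end Hyp

end Cfsg.Agent.TwoTimesSym
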