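import Cfsg.Agent.TwoTimesSym.CExt
import Cfsg.Agent.TwoTimesSym.Criterion

/-!
The hypothesis "the centraliser of the involution `t` looks like `2 × S₆` or `2 × S₇`", stated through
five involutions: `t`, and `u = (56)`, `z = (12)(34)`, `a = (12)`, `k = (13)(24)`.
-/

set_option autoImplicit false

namespace Cfsg.Agent.TwoTimesSym

open Subgroup

variable {G : Type*} [Group G]

/-- Conjugation on the right. -/
def cj (g x : G) : G := g⁻¹ * x * g

theorem cj_mul (g x y : G) : cj g (x * y) = cj g x * cj g y := by simp [cj, mul_assoc]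
theorem cj_cj (g h x : G) : cj h (cj g x) = cj (g * h) x := by simp [cj, mul_assoc]
@[simp] theorem cj_by_one (x : G) : cj 1 x = x := by simp [cj]
@[simp] theorem cj_one (g : G) : cj g (1 : G) = 1 := by simp [cj]
theorem cj_injective (g : G) : Function.Injective (cj g) := fun x y h => by simpa [cj] using h
theorem cj_inv (g x : G) : cj g x⁻¹ = (cj g x)⁻¹ := by simp [cj, mul_assoc]
theorem cj_eq_self {g x : G} : cj g x = x ↔ g * x = x * g := by
  rw [cj, mul_assoc, inv_mul_eq_iff_eq_mul]; exact eq_comm
theorem cj_inv_left {g x y : G} (h : cj g x = y) : cj g⁻¹ y = x := by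
  rw [← h, cj_cj, mul_inv_cancel, cj_by_one]
theorem isConj_iff_cj {x y : G} : IsConj x y ↔ ∃ g, cj g x = y := isConj_iff_inv
theorem isConj_cj (g x : G) : IsConj x (cj g x) := isConj_iff_cj.2 ⟨g, rfl⟩

/-- The data of the five involutions. -/
structure Frame (t u z a k : G) : Prop where
  t2 : t * t = 1
  u2 : u * u = 1
  z2 : z * z = 1
  a2 : a * a = 1
  k2 : k * k = 1
  tu : u * t = t * u
  tz : z * t = t * z
  ta : a * t = t * a
  tk : k * t = t * k
  zu : z * u = u * z
  ua : u * a = a * u
  uk : u * k = k * u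
  za : z * a = a * z
  zk : z * k = k * z
  ka : k * a = a * k * z

/-- The model of `T = ⟨t, u, z, a, k⟩`. -/
def tData : CData where
  q1 := (false, false)
  q2 := (false, false)
  q3 := (false, false)
  q4 := (false, false)
  q5 := (false, false)
  k21 := (false, false)
  k31 := (false, false)
  k41 := (false, false)
  k51 := (false, false)
  k32 := (false, true)
  k42 := (false, false)
  k52 := (false, false)
  k43 := (false, false)
  k53 := (false, false)
  k54 := (false, false)

/-- Normal forms of elements of `T`. -/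
structure TEl where
  e : Bool
  p : Bool
  q : Bool
  c : Z2
deriving DecidableEq

/-- A normal form as a tuple. -/
def TEl.equiv : TEl ≃ Bool × Bool × Bool × Z2 where
  toFun e := (e.e, e.p, e.q, e.c)
  invFun p := ⟨p.1, p.2.1, p.2.2.1, p.2.2.2⟩
  left_inv _ := rfl
  right_inv _ := rfl

instance : Fintype TEl := Fintype.ofEquiv _ TEl.equiv.symm

/-- The trivial element of the model. -/
def TEl.one : TEl := ⟨false, false, false, (false, false)⟩

/-- The product in the model of `T`. -/
def TEl.mul (x y : TEl) : TEl :=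
  ⟨xor x.e y.e, xor x.p y.p, xor x.q y.q, zadd (zadd x.c y.c) (false, x.q && y.p)⟩

/-- The element of `T` with given normal form. -/
def TEl.ev (x : TEl) (t u z a k : G) : G :=
  (El.mk x.e x.p x.q false false x.c).ev t a k 1 1 u z

/-- The set of conjugates of `x` under elements centralising `t`. -/
def cls (t x : G) : Set G := {y | ∃ g, g * t = t * g ∧ cj g x = y}

/-- `t` has centraliser looking like `2 × S₆` or `2 × S₇`. -/
structure Hyp (t u z a k : G) : Prop extends Frame t u z a k where
  inj : ∀ x : TEl, x.ev t u z a k = 1 → x = TEl.one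
  card : ∃ m, Odd m ∧ Nat.card (centralizer ({t} : Set G)) = 32 * m
  normT : ∀ g : G, g * t = t * g →
    (∀ x ∈ closure ({t, u, z, a, k} : Set G), cj g x ∈ closure ({t, u, z, a, k} : Set G)) →
    g ∈ closure ({t, u, z, a, k} : Set G)
  cent1 : ∀ g : G, g * t = t * g → g * u = u * g → g * z = z * g → g * a = a * g →
    g ∈ closure ({t, u, z, a} : Set G)
  cent2 : ∀ g : G, g * t = t * g → g * u = u * g → g * z = z * g → g * k = k * g →
    g ∈ closure ({t, u, z, k} : Set G)
  ne1 : Nat.card {g : G // g * t = t * g ∧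
    ∀ x ∈ closure ({t, u, z, a} : Set G), cj g x ∈ closure ({t, u, z, a} : Set G)} = 96
  ne2 : Nat.card {g : G // g * t = t * g ∧
    ∀ x ∈ closure ({t, u, z, k} : Set G), cj g x ∈ closure ({t, u, z, k} : Set G)} = 96
  nu1 : ∀ g : G, g * t = t * g → g * u = u * g →
    (∀ x ∈ closure ({t, u, z, a} : Set G), cj g x ∈ closure ({t, u, z, a} : Set G)) →
    g ∈ closure ({t, u, z, a, k} : Set G)
  nb2 : ∀ g : G, g * t = t * g → g * (u * z) = (u * z) * g →
    (∀ x ∈ closure ({t, u, z, k} : Set G), cj g x ∈ closure ({t, u, z, k} : Set G)) →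
    g ∈ closure ({t, u, z, a, k} : Set G)
  w1 : ∃ w : G, w * t = t * w ∧ cj w u = a ∧ cj w a = a * z ∧ cj w (a * z) = u
  w2 : ∃ w : G, w * t = t * w ∧ cj w u = u ∧ cj w z = k ∧ cj w k = k * z
  rep : ∀ x : G, x * t = t * x → x * x = 1 → x = 1 ∨ ∃ g, g * t = t * g ∧
    cj g x ∈ ({t, u, z, u * z, t * u, t * z, t * (u * z)} : Set G)
  ua_conj : ∃ g, g * t = t * g ∧ cj g u = a
  zk_conj : ∃ g, g * t = t * g ∧ cj g z = k
  b_conj : ∃ g, g * t = t * g ∧ cj g (u * z) = u * k
  nz : Nat.card (cls t z) % 4 = 1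
  nu : Odd (Nat.card (cls t u))
  nb : Odd (Nat.card (cls t (u * z)))

end Cfsg.Agent.TwoTimesSym
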