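import Cfsg.Agent.TwoTimesSym.Main

/-!
From an isomorphism `C(t) ≅ 2 × Sₙ` and finitely many facts on `Sₙ` (for `n = 6, 7`) to the hypothesis used
in the case distinction.
-/

set_option autoImplicit false

namespace Cfsg.Agent.TwoTimesSym

open Subgroup

section Perm

variable {n : ℕ}

/-- The five chosen involutions of `Sₙ`: exponents of `a`, `k`, `u`, `z`. -/
def pW [NeZero n] (b : Bool × Bool × Bool × Bool) : Equiv.Perm (Fin n) :=
  pw (Equiv.swap 0 1) b.1 * pw (Equiv.swap 0 2 * Equiv.swap 1 3) b.2.1 *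
    (pw (Equiv.swap 4 5) b.2.2.1 * pw (Equiv.swap 0 1 * Equiv.swap 2 3) b.2.2.2)

/-- `a`. -/
def pA [NeZero n] : Equiv.Perm (Fin n) := Equiv.swap 0 1
/-- `k`. -/
def pK [NeZero n] : Equiv.Perm (Fin n) := Equiv.swap 0 2 * Equiv.swap 1 3
/-- `u`. -/
def pU [NeZero n] : Equiv.Perm (Fin n) := Equiv.swap 4 5
/-- `z`. -/
def pZ [NeZero n] : Equiv.Perm (Fin n) := Equiv.swap 0 1 * Equiv.swap 2 3

/-- The finite facts on `Sₙ`. -/
structure PFacts (n : ℕ) [NeZero n] : Prop where
  rel : (pU * pU = (1 : Equiv.Perm (Fin n))) ∧ pZ * pZ = (1 : Equiv.Perm (Fin n)) ∧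
    pA * pA = (1 : Equiv.Perm (Fin n)) ∧ pK * pK = (1 : Equiv.Perm (Fin n)) ∧
    pZ * pU = (pU * pZ : Equiv.Perm (Fin n)) ∧ pU * pA = (pA * pU : Equiv.Perm (Fin n)) ∧
    pU * pK = (pK * pU : Equiv.Perm (Fin n)) ∧ pZ * pA = (pA * pZ : Equiv.Perm (Fin n)) ∧
    pZ * pK = (pK * pZ : Equiv.Perm (Fin n)) ∧ pK * pA = (pA * pK * pZ : Equiv.Perm (Fin n))
  inj : ∀ b, pW b = (1 : Equiv.Perm (Fin n)) → b = (false, false, false, false)
  center : ∀ σ : Equiv.Perm (Fin n), (∀ i, σ * Equiv.swap 0 i = Equiv.swap 0 i * σ) → σ = 1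
  card : ∃ m, Odd m ∧ 2 * n.factorial = 32 * m
  normT : ∀ σ : Equiv.Perm (Fin n), (∃ b, pA * σ = σ * pW b) → (∃ b, pK * σ = σ * pW b) →
    (∃ b, pU * σ = σ * pW b) → (∃ b, pZ * σ = σ * pW b) → ∃ b, σ = pW b
  cent1 : ∀ σ : Equiv.Perm (Fin n), σ * pU = pU * σ → σ * pZ = pZ * σ → σ * pA = pA * σ →
    ∃ p i j, σ = pW (p, false, i, j)
  cent2 : ∀ σ : Equiv.Perm (Fin n), σ * pU = pU * σ → σ * pZ = pZ * σ → σ * pK = pK * σ →
    ∃ q i j, σ = pW (false, q, i, j)
  ne1 : (Finset.univ.filter fun σ : Equiv.Perm (Fin n) => (∃ p i j, pU * σ = σ * pW (p, false, i, j)) ∧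
    (∃ p i j, pZ * σ = σ * pW (p, false, i, j)) ∧ (∃ p i j, pA * σ = σ * pW (p, false, i, j))).card = 48
  ne2 : (Finset.univ.filter fun σ : Equiv.Perm (Fin n) => (∃ q i j, pU * σ = σ * pW (false, q, i, j)) ∧
    (∃ q i j, pZ * σ = σ * pW (false, q, i, j)) ∧ (∃ q i j, pK * σ = σ * pW (false, q, i, j))).card = 48
  nu1 : ∀ σ : Equiv.Perm (Fin n), σ * pU = pU * σ → (∃ p i j, pZ * σ = σ * pW (p, false, i, j)) →
    (∃ p i j, pA * σ = σ * pW (p, false, i, j)) → ∃ b, σ = pW b
  nb2 : ∀ σ : Equiv.Perm (Fin n), σ * (pU * pZ) = pU * pZ * σ →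
    (∃ q i j, pU * σ = σ * pW (false, q, i, j)) → (∃ q i j, pK * σ = σ * pW (false, q, i, j)) →
    ∃ b, σ = pW b
  w1 : ∃ σ : Equiv.Perm (Fin n), pU * σ = σ * pA ∧ pA * σ = σ * (pA * pZ) ∧ pA * pZ * σ = σ * pU
  w2 : ∃ σ : Equiv.Perm (Fin n), pU * σ = σ * pU ∧ pZ * σ = σ * pK ∧ pK * σ = σ * (pK * pZ)
  small : n < 8
  supp : (pU : Equiv.Perm (Fin n)).support.card = 2 ∧ (pA : Equiv.Perm (Fin n)).support.card = 2 ∧
    (pZ : Equiv.Perm (Fin n)).support.card = 4 ∧ (pK : Equiv.Perm (Fin n)).support.card = 4 ∧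
    (pU * pZ : Equiv.Perm (Fin n)).support.card = 6 ∧ (pU * pK : Equiv.Perm (Fin n)).support.card = 6
  nz : (Finset.univ.filter fun σ : Equiv.Perm (Fin n) => σ * σ = 1 ∧ σ.support.card = 4).card % 4 = 1
  nu : (Finset.univ.filter fun σ : Equiv.Perm (Fin n) => σ * σ = 1 ∧ σ.support.card = 2).card % 2 = 1
  nb : (Finset.univ.filter fun σ : Equiv.Perm (Fin n) => σ * σ = 1 ∧ σ.support.card = 6).card % 2 = 1

theorem cycleType_invol {σ : Equiv.Perm (Fin n)} (h : σ * σ = 1) :
    σ.cycleType = Multiset.replicate (Multiset.card σ.cycleType) 2 ∧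
      σ.support.card = 2 * Multiset.card σ.cycleType := by
  have h2 : ∀ m ∈ σ.cycleType, m = 2 := fun m hm => by
    have hd : m ∣ orderOf σ := Equiv.Perm.dvd_of_mem_cycleType hm
    have ho : orderOf σ ∣ 2 := orderOf_dvd_of_pow_eq_one (by rw [pow_two, h])
    have := Nat.le_of_dvd (by norm_num) (hd.trans ho)
    have := Equiv.Perm.two_le_of_mem_cycleType hm
    omega
  have e := Multiset.eq_replicate_card.2 h2
  refine ⟨e, ?_⟩
  rw [← Equiv.Perm.sum_cycleType]
  conv_lhs => rw [e]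
  rw [Multiset.sum_replicate, smul_eq_mul, mul_comm]

theorem isConj_of_supp {σ τ : Equiv.Perm (Fin n)} (h : σ * σ = 1) (h' : τ * τ = 1)
    (he : σ.support.card = τ.support.card) : IsConj σ τ := by
  obtain ⟨e1, c1⟩ := cycleType_invol h
  obtain ⟨e2, c2⟩ := cycleType_invol h'
  rw [Equiv.Perm.isConj_iff_cycleType_eq, e1, e2, show Multiset.card σ.cycleType = Multiset.card τ.cycleType by
    omega]

theorem isConj_invol_iff {σ τ : Equiv.Perm (Fin n)} (h : σ * σ = 1) :
    IsConj σ τ ↔ τ * τ = 1 ∧ τ.support.card = σ.support.card := by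
  refine ⟨fun hc => ⟨?_, ?_⟩, fun hc => isConj_of_supp h hc.1 hc.2.symm⟩
  · obtain ⟨g, rfl⟩ := isConj_iff_cj.1 hc
    rw [← cj_mul, h, cj_one]
  · rw [← Equiv.Perm.sum_cycleType, ← Equiv.Perm.sum_cycleType,
      Equiv.Perm.isConj_iff_cycleType_eq.1 hc]

end Perm

variable {G : Type*} [Group G] [Finite G] {n : ℕ} [NeZero n]

theorem index_two_of_centralizer (F : PFacts n) {t : G} (ht : orderOf t = 2)
    (hC : Nonempty (↥(Subgroup.centralizer ({t} : Set G)) ≃*
      Multiplicative (ZMod 2) × Equiv.Perm (Fin n))) :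
    ∃ H : Subgroup G, H.index = 2 := by
  classical
  obtain ⟨φ⟩ := hC
  let P := Multiplicative (ZMod 2) × Equiv.Perm (Fin n)
  let τ : Multiplicative (ZMod 2) := Multiplicative.ofAdd 1
  let ψ : P →* G := (centralizer ({t} : Set G)).subtype.comp φ.symm.toMonoidHom
  have hψ : Function.Injective ψ := Subtype.val_injective.comp φ.symm.injective
  have hmem : ∀ g : G, g * t = t * g → ∃ p, ψ p = g := fun g hg =>
    ⟨φ ⟨g, mem_cent.2 hg⟩, by simp [ψ]⟩
  have hψt : ∀ p, ψ p * t = t * ψ p := fun p => mem_cent.1 (φ.symm p).2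
  have hbit : ∀ b : Multiplicative (ZMod 2), ∃ e : Bool, pw τ e = b := by decide
  have htz : ψ (τ, 1) = t := by
    obtain ⟨⟨b, σ⟩, hb⟩ := hmem t rfl
    have hσ : σ = 1 := F.center σ fun i => by
      have := hψt (1, Equiv.swap 0 i)
      rw [← hb, ← map_mul, ← map_mul] at this
      exact (congrArg Prod.snd (hψ this)).symm
    subst hσ
    obtain ⟨e, rfl⟩ := hbit b
    cases e with
    | true => exact hb
    | false =>
      exfalso
      rw [pw_false, show ((1, 1) : P) = 1 from rfl, map_one] at hb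
      rw [← hb, orderOf_one] at ht
      exact absurd ht (by norm_num)
  obtain ⟨ru, rz, ra, rk, rzu, rua, ruk, rza, rzk, rka⟩ := F.rel
  let u := ψ (1, pU)
  let z := ψ (1, pZ)
  let a := ψ (1, pA)
  let k := ψ (1, pK)
  have hmul : ∀ b c b' c', ψ (b, c) * ψ (b', c') = ψ (b * b', c * c') := fun b c b' c' =>
    (map_mul ψ (b, c) (b', c')).symm
  have h11 : ψ (1, 1) = 1 := map_one ψ
  have tt : t * t = 1 := by rw [← pow_two, ← ht, pow_orderOf_eq_one]
  have frame : Frame t u z a k :=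
    { t2 := tt
      u2 := by simp only [u, hmul, ru, mul_one, h11]
      z2 := by simp only [z, hmul, rz, mul_one, h11]
      a2 := by simp only [a, hmul, ra, mul_one, h11]
      k2 := by simp only [k, hmul, rk, mul_one, h11]
      tu := hψt _
      tz := hψt _
      ta := hψt _
      tk := hψt _
      zu := by simp only [u, z, hmul, rzu]
      ua := by simp only [u, a, hmul, rua]
      uk := by simp only [u, k, hmul, ruk]
      za := by simp only [z, a, hmul, rza]
      zk := by simp only [z, k, hmul, rzk]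
      ka := by simp only [z, a, k, hmul, rka, mul_one] }
  have hpw : ∀ (p : P) b, ψ (pw p b) = pw (ψ p) b := fun p b => by cases b <;> simp
  have hev : ∀ x : TEl, x.ev t u z a k = ψ (pw τ x.e, pW (x.p, x.q, x.c.1, x.c.2)) := by
    intro x
    have e1 : ∀ b, pw t b = ψ (pw τ b, 1) := fun b => by cases b <;> simp [htz, h11]
    have e2 : ∀ (σ : Equiv.Perm (Fin n)) b, pw (ψ (1, σ)) b = ψ (1, pw σ b) := fun σ b => by
      cases b <;> simp [h11]
    simp only [TEl.ev, El.ev, pz, pw_false, mul_one, e1, e2, u, z, a, k, hmul, one_mul, pW, pU, pZ, pA, pK]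
  have hb : ∀ x : TEl, ∀ b σ, x.ev t u z a k = ψ (b, σ) → σ = pW (x.p, x.q, x.c.1, x.c.2) := by
    intro x b σ e
    rw [hev] at e
    exact (congrArg Prod.snd (hψ e)).symm
  have inT : ∀ (b : Multiplicative (ZMod 2)) σ, ψ (b, σ) ∈ closure ({t, u, z, a, k} : Set G) ↔
      ∃ c, σ = pW c := by
    intro b σ
    rw [frame.mem_T]
    constructor
    · rintro ⟨x, hx⟩; exact ⟨_, hb x b σ hx⟩
    · rintro ⟨c, rfl⟩
      obtain ⟨e, rfl⟩ := hbit b
      exact ⟨⟨e, c.1, c.2.1, (c.2.2.1, c.2.2.2)⟩, hev _⟩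
  have inE1 : ∀ (b : Multiplicative (ZMod 2)) σ, ψ (b, σ) ∈ closure ({t, u, z, a} : Set G) ↔
      ∃ p i j, σ = pW (p, false, i, j) := by
    intro b σ
    rw [frame.mem_E1]
    constructor
    · rintro ⟨x, hq, hx⟩
      refine ⟨x.p, x.c.1, x.c.2, ?_⟩
      rw [← hq]; exact hb x b σ hx
    · rintro ⟨p, i, j, rfl⟩
      obtain ⟨e, rfl⟩ := hbit b
      exact ⟨⟨e, p, false, (i, j)⟩, rfl, hev _⟩
  have inE2 : ∀ (b : Multiplicative (ZMod 2)) σ, ψ (b, σ) ∈ closure ({t, u, z, k} : Set G) ↔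
      ∃ q i j, σ = pW (false, q, i, j) := by
    intro b σ
    rw [frame.mem_E2]
    constructor
    · rintro ⟨x, hq, hx⟩
      refine ⟨x.q, x.c.1, x.c.2, ?_⟩
      rw [← hq]; exact hb x b σ hx
    · rintro ⟨q, i, j, rfl⟩
      obtain ⟨e, rfl⟩ := hbit b
      exact ⟨⟨e, false, q, (i, j)⟩, rfl, hev _⟩
  have hcj : ∀ b σ b' v, cj (ψ (b, σ)) (ψ (b', v)) = ψ (b', σ⁻¹ * v * σ) := by
    intro b σ b' v
    have e : ((b, σ) : P)⁻¹ * (b', v) * (b, σ) = (b', σ⁻¹ * v * σ) :=
      Prod.ext (show b⁻¹ * b' * b = b' by rw [mul_comm b⁻¹, inv_mul_cancel_right]) rfl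
    rw [cj, ← map_inv, ← map_mul, ← map_mul, e]
  have conjE : ∀ σ v w : Equiv.Perm (Fin n), σ⁻¹ * v * σ = w ↔ v * σ = σ * w := fun σ v w => by
    rw [mul_assoc, inv_mul_eq_iff_eq_mul]
  have hcomm : ∀ b σ v, ψ (b, σ) * ψ (1, v) = ψ (1, v) * ψ (b, σ) → σ * v = v * σ := fun b σ v e => by
    rw [hmul, hmul] at e
    exact congrArg Prod.snd (hψ e)
  have hN1 : ∀ b σ, (∀ x ∈ closure ({t, u, z, a} : Set G), cj (ψ (b, σ)) x ∈ closure ({t, u, z, a} : Set G)) ↔
      (∃ p i j, pU * σ = σ * pW (p, false, i, j)) ∧ (∃ p i j, pZ * σ = σ * pW (p, false, i, j)) ∧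
        (∃ p i j, pA * σ = σ * pW (p, false, i, j)) := by
    intro b σ
    constructor
    · intro hh
      refine ⟨?_, ?_, ?_⟩ <;> [have h1 := hh u (subset_closure (by simp));
        have h1 := hh z (subset_closure (by simp)); have h1 := hh a (subset_closure (by simp))]
      all_goals
        simp only [u, z, a, hcj, inE1, conjE] at h1
        exact h1
    · rintro ⟨h1, h2, h3⟩ x hx
      refine nrm_iff.1 (cj_closure fun y hy => ?_) x hx
      rcases hy with rfl | rfl | rfl | rfl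
      · rw [cj_eq_self.2 (hψt _)]; exact subset_closure (by simp)
      all_goals
        simp only [u, z, a, hcj, inE1, conjE]
        assumption
  have hN2 : ∀ b σ, (∀ x ∈ closure ({t, u, z, k} : Set G), cj (ψ (b, σ)) x ∈ closure ({t, u, z, k} : Set G)) ↔
      (∃ q i j, pU * σ = σ * pW (false, q, i, j)) ∧ (∃ q i j, pZ * σ = σ * pW (false, q, i, j)) ∧
        (∃ q i j, pK * σ = σ * pW (false, q, i, j)) := by
    intro b σ
    constructor
    · intro hh
      refine ⟨?_, ?_, ?_⟩ <;> [have h1 := hh u (subset_closure (by simp));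
        have h1 := hh z (subset_closure (by simp)); have h1 := hh k (subset_closure (by simp))]
      all_goals
        simp only [u, z, k, hcj, inE2, conjE] at h1
        exact h1
    · rintro ⟨h1, h2, h3⟩ x hx
      refine nrm_iff.1 (cj_closure fun y hy => ?_) x hx
      rcases hy with rfl | rfl | rfl | rfl
      · rw [cj_eq_self.2 (hψt _)]; exact subset_closure (by simp)
      all_goals
        simp only [u, z, k, hcj, inE2, conjE]
        assumption
  have hcount : ∀ (p : G → Prop) (f : Equiv.Perm (Fin n) → Prop) [DecidablePred f],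
      (∀ b σ, p (ψ (b, σ)) ↔ f σ) →
      Nat.card {g : G // g * t = t * g ∧ p g} = 2 * (Finset.univ.filter f).card := by
    intro p f _ hpf
    let F' : Multiplicative (ZMod 2) × {σ // f σ} → {g : G // g * t = t * g ∧ p g} := fun x =>
      ⟨ψ (x.1, x.2), hψt _, (hpf _ _).2 x.2.2⟩
    have hF : Function.Bijective F' := by
      refine ⟨fun x y e => ?_, fun g => ?_⟩
      · have e' : ψ (x.1, (x.2 : Equiv.Perm (Fin n))) = ψ (y.1, (y.2 : Equiv.Perm (Fin n))) :=
          congrArg (fun g : {g : G // g * t = t * g ∧ p g} => g.1) e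
        obtain ⟨h1, h2⟩ := Prod.ext_iff.1 (hψ e')
        exact Prod.ext h1 (Subtype.ext h2)
      · obtain ⟨⟨b, σ⟩, hg⟩ := hmem g.1 g.2.1
        exact ⟨(b, ⟨σ, (hpf b σ).1 (hg ▸ g.2.2)⟩), Subtype.ext hg⟩
    rw [← Nat.card_congr (Equiv.ofBijective F' hF), Nat.card_prod, Nat.card_eq_fintype_card (α := {σ // f σ}),
      Fintype.card_subtype, Nat.card_eq_fintype_card]
    rfl
  have hcls : ∀ v : Equiv.Perm (Fin n), v * v = 1 → Nat.card (cls t (ψ (1, v))) =
      (Finset.univ.filter fun σ : Equiv.Perm (Fin n) => σ * σ = 1 ∧ σ.support.card = v.support.card).card := by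
    intro v hv
    rw [← Fintype.card_subtype, ← Nat.card_eq_fintype_card]
    refine (Nat.card_congr (Equiv.ofBijective
      (fun σ : {σ : Equiv.Perm (Fin n) // σ * σ = 1 ∧ σ.support.card = v.support.card} =>
        (⟨ψ (1, σ), ?_⟩ : cls t (ψ (1, v)))) ⟨?_, ?_⟩)).symm
    · obtain ⟨c, hc⟩ := isConj_iff_cj.1 ((isConj_invol_iff hv).2 σ.2)
      exact ⟨ψ (1, c), hψt _, by rw [hcj]; exact congrArg (fun w => ψ (1, w)) hc⟩
    · intro σ σ' e
      have e' : ψ (1, (σ : Equiv.Perm (Fin n))) = ψ (1, (σ' : Equiv.Perm (Fin n))) :=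
        congrArg (fun g : cls t (ψ (1, v)) => (g : G)) e
      exact Subtype.ext (congrArg Prod.snd (hψ e'))
    · rintro ⟨y, g, hg, rfl⟩
      obtain ⟨⟨b, c⟩, rfl⟩ := hmem g hg
      exact ⟨⟨c⁻¹ * v * c, (isConj_invol_iff hv).1 (isConj_cj c v)⟩, Subtype.ext (hcj b c 1 v).symm⟩
  obtain ⟨su, sa, sz, sk, sb, sbk⟩ := F.supp
  have hb2 : pU * pZ * (pU * pZ) = (1 : Equiv.Perm (Fin n)) := by
    rw [mul_assoc, ← mul_assoc pZ, rzu, mul_assoc, rz, mul_one, ru]
  have hbk2 : pU * pK * (pU * pK) = (1 : Equiv.Perm (Fin n)) := by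
    rw [mul_assoc, ← mul_assoc pK, ← ruk, mul_assoc, rk, mul_one, ru]
  have hconj : ∀ v w : Equiv.Perm (Fin n), v * v = 1 → w * w = 1 → v.support.card = w.support.card →
      ∃ g, g * t = t * g ∧ cj g (ψ (1, v)) = ψ (1, w) := fun v w hv hw e => by
    obtain ⟨c, hc⟩ := isConj_iff_cj.1 (isConj_of_supp hv hw e)
    exact ⟨ψ (1, c), hψt _, by rw [hcj]; exact congrArg (fun x => ψ (1, x)) hc⟩
  have H : Hyp t u z a k :=
    { toFrame := frame
      inj := fun x hx => by
        rw [hev, ← map_one ψ] at hx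
        have h1 := hψ hx
        have h2 := F.inj _ (congrArg Prod.snd h1)
        have h3 : pw τ x.e = 1 := congrArg Prod.fst h1
        obtain ⟨e, p, q, i, j⟩ := x
        simp only [Prod.mk.injEq] at h2
        obtain ⟨rfl, rfl, rfl, rfl⟩ := h2
        cases e
        · rfl
        · exact absurd h3 (by decide)
      card := by
        obtain ⟨m, hm, e⟩ := F.card
        refine ⟨m, hm, ?_⟩
        rw [Nat.card_congr φ.toEquiv, Nat.card_prod, Nat.card_eq_fintype_card, Nat.card_perm, Nat.card_fin,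
          Fintype.card_multiplicative, ZMod.card]
        exact e
      normT := fun g hg hT => by
        obtain ⟨⟨b, σ⟩, rfl⟩ := hmem g hg
        rw [inT]
        have h1 := hT a (subset_closure (by simp))
        have h2 := hT k (subset_closure (by simp))
        have h3 := hT u (subset_closure (by simp))
        have h4 := hT z (subset_closure (by simp))
        simp only [u, z, a, k, hcj, inT, conjE] at h1 h2 h3 h4
        exact F.normT σ h1 h2 h3 h4
      cent1 := fun g hg e1 e2 e3 => by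
        obtain ⟨⟨b, σ⟩, rfl⟩ := hmem g hg
        rw [inE1]
        exact F.cent1 σ (hcomm _ _ _ e1) (hcomm _ _ _ e2) (hcomm _ _ _ e3)
      cent2 := fun g hg e1 e2 e3 => by
        obtain ⟨⟨b, σ⟩, rfl⟩ := hmem g hg
        rw [inE2]
        exact F.cent2 σ (hcomm _ _ _ e1) (hcomm _ _ _ e2) (hcomm _ _ _ e3)
      ne1 := by rw [hcount _ _ hN1, F.ne1]
      ne2 := by rw [hcount _ _ hN2, F.ne2]
      nu1 := fun g hg e1 hN => by
        obtain ⟨⟨b, σ⟩, rfl⟩ := hmem g hg
        rw [inT]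
        obtain ⟨-, h2, h3⟩ := (hN1 b σ).1 hN
        exact F.nu1 σ (hcomm _ _ _ e1) h2 h3
      nb2 := fun g hg e1 hN => by
        obtain ⟨⟨b, σ⟩, rfl⟩ := hmem g hg
        rw [inT]
        obtain ⟨h1, -, h3⟩ := (hN2 b σ).1 hN
        simp only [u, z, hmul, mul_one] at e1
        exact F.nb2 σ (congrArg Prod.snd (hψ (by simpa [hmul] using e1))) h1 h3
      w1 := by
        obtain ⟨σ, e1, e2, e3⟩ := F.w1
        refine ⟨ψ (1, σ), hψt _, ?_, ?_, ?_⟩ <;> simp only [u, z, a, hmul, mul_one, hcj]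
        · rw [(conjE _ _ _).2 e1]
        · rw [(conjE _ _ _).2 e2]
        · rw [(conjE _ _ _).2 e3]
      w2 := by
        obtain ⟨σ, e1, e2, e3⟩ := F.w2
        refine ⟨ψ (1, σ), hψt _, ?_, ?_, ?_⟩ <;> simp only [u, z, k, hmul, mul_one, hcj]
        · rw [(conjE _ _ _).2 e1]
        · rw [(conjE _ _ _).2 e2]
        · rw [(conjE _ _ _).2 e3]
      rep := fun x hx hx2 => by
        obtain ⟨⟨b, σ⟩, rfl⟩ := hmem x hx
        rw [hmul, ← map_one ψ] at hx2
        have h2 : σ * σ = 1 := congrArg Prod.snd (hψ hx2)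
        obtain ⟨e, rfl⟩ := hbit b
        obtain ⟨hrep, hcs⟩ := cycleType_invol h2
        have hle : σ.support.card ≤ n := (Finset.card_le_univ _).trans_eq (Fintype.card_fin n)
        have hn := F.small
        have hrep' : σ.support.card = 0 ∨ σ.support.card = 2 ∨ σ.support.card = 4 ∨ σ.support.card = 6 := by
          omega
        rcases hrep' with h0 | h0 | h0 | h0
        · obtain rfl : σ = 1 := Equiv.Perm.support_eq_empty_iff.1 (Finset.card_eq_zero.1 h0)
          cases e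
          · exact Or.inl h11
          · exact Or.inr ⟨1, by simp, by simp [htz]⟩
        all_goals refine Or.inr ?_
        · obtain ⟨c, hc⟩ := isConj_iff_cj.1 (isConj_of_supp h2 ru (h0.trans su.symm))
          refine ⟨ψ (1, c), hψt _, ?_⟩
          rw [hcj, show c⁻¹ * σ * c = pU from hc]
          cases e <;> simp [u, ← htz, hmul]
        · obtain ⟨c, hc⟩ := isConj_iff_cj.1 (isConj_of_supp h2 rz (h0.trans sz.symm))
          refine ⟨ψ (1, c), hψt _, ?_⟩
          rw [hcj, show c⁻¹ * σ * c = pZ from hc]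
          cases e <;> simp [z, ← htz, hmul]
        · obtain ⟨c, hc⟩ := isConj_iff_cj.1 (isConj_of_supp h2 hb2 (h0.trans sb.symm))
          refine ⟨ψ (1, c), hψt _, ?_⟩
          rw [hcj, show c⁻¹ * σ * c = pU * pZ from hc]
          cases e <;> simp [u, z, ← htz, hmul]
      ua_conj := hconj _ _ ru ra (su.trans sa.symm)
      zk_conj := hconj _ _ rz rk (sz.trans sk.symm)
      b_conj := by
        simp only [u, z, k, hmul, mul_one]
        exact hconj _ _ hb2 hbk2 (sb.trans sbk.symm)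
      nz := by rw [hcls _ rz, sz]; exact F.nz
      nu := by rw [hcls _ ru, su]; exact Nat.odd_iff.2 F.nu
      nb := by
        simp only [u, z, hmul, mul_one]
        rw [hcls _ hb2, sb]; exact Nat.odd_iff.2 F.nb }
  exact H.index_two

end Cfsg.Agent.TwoTimesSym
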