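import Cfsg.Agent.TwoTimesSym.QCount

/-!
A model of `L = N(T)` when `L` fixes `u`, generated over `T` by `s : t ↦ tu` and `g : t ↦ tuz`, and the
involutions in it conjugate to `t`.
-/

set_option autoImplicit false

namespace Cfsg.Agent.TwoTimesSym

open Subgroup

variable {G : Type*} [Group G]

/-- The parameters of `L`. -/
structure LP where
  x : Bool
  y : Bool
  i : Bool
  j : Bool
  c : Z2
deriving DecidableEq, Fintype

/-- The model of `L`. -/
def lData (P : LP) : CData :=
  { tData with
    q4 := (P.i, false), q5 := (P.j, P.j), k41 := (true, false), k51 := (true, true),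
    k42 := (P.x, false), k53 := (P.y, P.y), k54 := P.c }

/-- The defining relations of `L`. -/
structure LGen (t u z a k s g : G) (P : LP) : Prop where
  sL : s ∈ nrm (tG t u z a k)
  gL : g ∈ nrm (tG t u z a k)
  st : cj s t = t * u
  su : cj s u = u
  sa : cj s a = a * pw u P.x
  sk : cj s k = k
  gt : cj g t = t * (u * z)
  gu : cj g u = u
  ga : cj g a = a
  gk : cj g k = k * pw (u * z) P.y
  s2 : s * s = pw u P.i
  g2 : g * g = pw (u * z) P.j
  comm : g * s = s * g * pz u z P.c

/-- The non-central exponents of a normal form. -/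
structure Bits where
  b1 : Bool
  b2 : Bool
  b3 : Bool
  b4 : Bool
  b5 : Bool
deriving DecidableEq, Fintype

/-- A normal form from exponents. -/
def Bits.el (b : Bits) (c : Z2) : El := ⟨b.b1, b.b2, b.b3, b.b4, b.b5, c⟩

/-- The exponents of a normal form. -/
def El.bits (e : El) : Bits := ⟨e.b1, e.b2, e.b3, e.b4, e.b5⟩

/-- The sum of exponents. -/
def Bits.add (b d : Bits) : Bits :=
  ⟨xor b.b1 d.b1, xor b.b2 d.b2, xor b.b3 d.b3, xor b.b4 d.b4, xor b.b5 d.b5⟩

/-- The normal forms with given exponents are involutions or trivial. -/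
def Bits.sqOne (P : LP) (b : Bits) : Bool :=
  decide ((lData P).cor (b.el (false, false)) (b.el (false, false)) = (false, false))

/-- The unknown values: which representatives are conjugate to `t`. -/
structure Chi where
  u : Bool
  b : Bool
  z00 : Bool
  z10 : Bool
  z01 : Bool
  z11 : Bool
deriving DecidableEq, Fintype

/-- The value on a coset with translation `z`. -/
def Chi.z (χ : Chi) (p q : Bool) : Bool :=
  if p then (if q then χ.z11 else χ.z10) else (if q then χ.z01 else χ.z00)

/-- The predicted conjugates of `t`. -/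
def Bits.pred (P : LP) (χ : Chi) (b : Bits) : Bool :=
  b.sqOne P &&
    (if b.b4 then (if b.b5 then χ.z b.b2 b.b3 else xor χ.u (xor b.b1 P.i))
    else (if b.b5 then xor χ.b (xor b.b1 P.j) else b.b1))

/-- Four times this is the number of conjugates of `t` with exponents satisfying `f`. -/
def units (P : LP) (χ : Chi) (f : Bits → Bool) : ℕ :=
  (Finset.univ.filter fun b : Bits => f b = true ∧ b.pred P χ = true).card

theorem mul_self_eq_one_iff (P : LP) (e : El) :
    (lData P).mul e e = El.one ↔ e.bits.sqOne P = true := by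
  obtain ⟨b1, b2, b3, b4, b5, c1, c2⟩ := e
  have h1 : (lData P).cor ⟨b1, b2, b3, b4, b5, (c1, c2)⟩ ⟨b1, b2, b3, b4, b5, (c1, c2)⟩ =
    (lData P).cor ((⟨b1, b2, b3, b4, b5⟩ : Bits).el (false, false))
      ((⟨b1, b2, b3, b4, b5⟩ : Bits).el (false, false)) := rfl
  simp only [Bits.sqOne, El.bits, decide_eq_true_eq, ← h1, CData.mul, El.one, El.mk.injEq, Bool.xor_self,
    true_and]
  have h2 : zadd (c1, c2) (c1, c2) = (false, false) := by cases c1 <;> cases c2 <;> rfl
  have h3 : ∀ d : Z2, zadd (false, false) d = d := by decide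
  rw [h2, h3]

theorem not_iff_eq_true {p : Prop} [Decidable p] (b : Bool) :
    ¬ (p ↔ b = true) ↔ xor (decide p) b = true := by
  by_cases hp : p <;> cases b <;> simp [hp]

variable {t u z a k s g : G} {P : LP}

namespace Hyp

variable [Finite G] (h : Hyp t u z a k) (hP : LGen t u z a k s g P)
include h hP

theorem real_L : CReal (lData P) t a k s g u z where
  hu := h.u2
  hz := h.z2
  huz := h.zu
  cu1 := h.tu
  cu2 := h.ua
  cu3 := h.uk
  cu4 := (cj_eq_self.1 hP.su).symm
  cu5 := (cj_eq_self.1 hP.gu).symm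
  cz1 := h.tz
  cz2 := h.za
  cz3 := h.zk
  cz4 := (cj_eq_self.1 (h.cj_z hP.sL)).symm
  cz5 := (cj_eq_self.1 (h.cj_z hP.gL)).symm
  s1 := by simp [lData, tData, pz_one, h.t2]
  s2 := by simp [lData, tData, pz_one, h.a2]
  s3 := by simp [lData, tData, pz_one, h.k2]
  s4 := by simp [lData, pz, hP.s2]
  s5 := by rw [hP.g2]; simp only [lData]; cases P.j <;> simp [pz]
  w21 := by simp [lData, tData, pz_one, h.ta]
  w31 := by simp [lData, tData, pz_one, h.tk]
  w41 := by
    have e : t * s = s * (t * u) := by rw [← hP.st, cj]; group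
    calc s * t = s * (t * u) * u := by rw [mul_assoc, mul_assoc, h.u2, mul_one]
      _ = t * s * u := by rw [e]
      _ = _ := by simp [lData, pz]
  w51 := by
    have e : t * g = g * (t * (u * z)) := by rw [← hP.gt, cj]; group
    calc g * t = g * (t * (u * z)) * (u * z) := by
          rw [show g * (t * (u * z)) * (u * z) = g * t * (u * (z * u) * z) by group, h.zu, ← mul_assoc u u,
            h.u2, one_mul, h.z2, mul_one]
      _ = t * g * (u * z) := by rw [e]
      _ = _ := by simp [lData, pz]
  w32 := by simp [lData, tData, pz, h.ka]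
  w42 := by
    have e : a * s = s * (a * pw u P.x) := by rw [← hP.sa, cj]; group
    calc s * a = s * (a * pw u P.x) * pw u P.x := by cases P.x <;> simp [mul_assoc, h.u2]
      _ = a * s * pw u P.x := by rw [e]
      _ = _ := by simp [lData, pz]
  w52 := by simp [lData, tData, pz_one, cj_eq_self.1 hP.ga]
  w43 := by simp [lData, tData, pz_one, cj_eq_self.1 hP.sk]
  w53 := by
    have e : k * g = g * (k * pw (u * z) P.y) := by rw [← hP.gk, cj]; group
    calc g * k = g * (k * pw (u * z) P.y) * pw (u * z) P.y := by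
          cases P.y
          · simp
          · simp only [pw_true]
            rw [show g * (k * (u * z)) * (u * z) = g * k * (u * (z * u) * z) by group, h.zu, ← mul_assoc u u,
              h.u2, one_mul, h.z2, mul_one]
      _ = k * g * pw (u * z) P.y := by rw [e]
      _ = _ := by simp only [lData]; cases P.y <;> simp [pz]
  w54 := by rw [hP.comm]; rfl

theorem lEv_mul (e f : El) : ((lData P).mul e f).ev t a k s g u z = e.ev t a k s g u z * f.ev t a k s g u z :=
  (h.real_L hP).ev_mul e f

omit hP [Finite G] in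
theorem ev_T (e p q : Bool) (c : Z2) :
    (El.mk e p q false false c).ev t a k s g u z = (⟨e, p, q, c⟩ : TEl).ev t u z a k := rfl

theorem lEv_cj_t (e : El) :
    cj (e.ev t a k s g u z) t =
      (TEl.cen true (xor e.b4 e.b5) e.b5).ev t u z a k := by
  show cj (e.ev t a k s g u z) t =
    (El.mk true false false false false (xor e.b4 e.b5, e.b5)).ev t a k s g u z
  rw [cj, mul_assoc, inv_mul_eq_iff_eq_mul]
  have ht : (El.mk true false false false false (false, false)).ev t a k s g u z = t := by
    simp [El.ev, pz]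
  conv_lhs => arg 1; rw [← ht]
  rw [← h.lEv_mul hP, ← h.lEv_mul hP]
  congr 1
  obtain ⟨b1, b2, b3, b4, b5, c1, c2⟩ := e
  simp only [CData.mul, CData.cor, lData, tData, El.mk.injEq]
  cases b1 <;> cases b2 <;> cases b3 <;> cases b4 <;> cases b5 <;> cases c1 <;> cases c2 <;>
    simp [zadd, zsc]

theorem lEv_injective : Function.Injective fun e : El => e.ev t a k s g u z := by
  intro e f hef
  simp only at hef
  have hone : ∀ d : El, d.ev t a k s g u z = 1 → d = El.one := by
    rintro ⟨b1, b2, b3, b4, b5, c⟩ hd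
    have h1 := h.lEv_cj_t hP ⟨b1, b2, b3, b4, b5, c⟩
    rw [hd, cj_by_one] at h1
    have h2 := h.ev_inj.1 (Frame.ev_t.trans h1)
    simp only [TEl.cen, TEl.mk.injEq, Prod.mk.injEq, true_and] at h2
    obtain ⟨h3, h5⟩ := h2
    subst h5
    obtain rfl : b4 = false := by simpa using h3.symm
    rw [ev_T h] at hd
    have := h.inj _ hd
    simp only [TEl.one, TEl.mk.injEq] at this
    obtain ⟨rfl, rfl, rfl, rfl⟩ := this
    rfl
  obtain ⟨e', he'⟩ : ∃ e' : El, e'.ev t a k s g u z = (e.ev t a k s g u z)⁻¹ :=
    (CReal.mem_range (h.real_L hP)).1 (inv_mem ((CReal.mem_range (h.real_L hP)).2 ⟨e, rfl⟩))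
  have key : ∀ d : El, e'.ev t a k s g u z * d.ev t a k s g u z = 1 → (lData P).mul e' d = El.one :=
    fun d hd => hone _ (by rw [h.lEv_mul hP, hd])
  have k1 := key e (by rw [he', inv_mul_cancel])
  have k2 := key f (by rw [he', ← hef]; exact inv_mul_cancel _)
  obtain ⟨b1, b2, b3, b4, b5, c⟩ := e'
  obtain ⟨d1, d2, d3, d4, d5, dc⟩ := e
  obtain ⟨f1, f2, f3, f4, f5, fc⟩ := f
  simp only [CData.mul, El.one, El.mk.injEq] at k1 k2 ⊢
  obtain ⟨p1, p2, p3, p4, p5, p6⟩ := k1
  obtain ⟨r1, r2, r3, r4, r5, r6⟩ := k2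
  have hx : ∀ {x y w : Bool}, xor x y = false → xor x w = false → y = w := by decide
  obtain rfl := hx p1 r1
  obtain rfl := hx p2 r2
  obtain rfl := hx p3 r3
  obtain rfl := hx p4 r4
  obtain rfl := hx p5 r5
  refine ⟨rfl, rfl, rfl, rfl, rfl, ?_⟩
  revert p6 r6
  have : ∀ a b c d d' : Z2, zadd (zadd a b) d = c → zadd (zadd a d') d = c → b = d' := by decide
  exact fun p6 r6 => this _ _ _ _ _ p6 (by simpa [CData.cor] using r6)

theorem card_lRange : Nat.card (h.real_L hP).range = 128 := by
  let e : El ≃ (h.real_L hP).range :=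
    Equiv.ofBijective (fun e => ⟨_, (CReal.mem_range _).2 ⟨e, rfl⟩⟩)
      ⟨fun e f he => h.lEv_injective hP (congrArg Subtype.val he), fun x => by
        obtain ⟨e, he⟩ := (CReal.mem_range _).1 x.2
        exact ⟨e, Subtype.ext he⟩⟩
  rw [← Nat.card_congr e, Nat.card_congr El.equiv, Nat.card_eq_fintype_card]
  rfl

theorem lRange_eq (h4 : Four t u z) : (h.real_L hP).range = nrm (tG t u z a k) :=
  Subgroup.eq_of_le_of_card_ge (fun x hx => by
    obtain ⟨e, rfl⟩ := (CReal.mem_range _).1 hx
    exact El.ev_mem e (fun _ => Subgroup.le_normalizer h.t_mem) (fun _ => Subgroup.le_normalizer h.a_mem)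
      (fun _ => Subgroup.le_normalizer h.k_mem) (fun _ => hP.sL) (fun _ => hP.gL)
      (Subgroup.le_normalizer h.u_mem) (Subgroup.le_normalizer h.z_mem))
    (by rw [h.card_L_four h4, h.card_lRange hP])

theorem exists_chi (h4 : Four t u z) :
    ∃ χ : Chi, ∀ e : El, IsConj t (e.ev t a k s g u z) ↔ e.bits.pred P χ = true := by
  classical
  have hM := h.lEv_mul hP
  have hone : El.one.ev t a k s g u z = 1 := (h.real_L hP).ev_one
  have hinj := h.lEv_injective hP
  have hsq : ∀ e : El, IsConj t (e.ev t a k s g u z) → (lData P).mul e e = El.one := fun e he =>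
    hinj (by simp only [hM, hone, h.conj_sq he])
  -- multiplying by an element of `T`
  have step : ∀ B Y : El, (lData P).mul B B = El.one → (lData P).mul Y Y = El.one →
      (lData P).mul ((lData P).mul B Y) ((lData P).mul B Y) = El.one → Y.b4 = false → Y.b5 = false →
      (IsConj t (((lData P).mul B Y).ev t a k s g u z) ↔
        ¬ (IsConj t (B.ev t a k s g u z) ↔ Y.b1 = true)) := by
    intro B Y hB hY hBY h4' h5'
    obtain ⟨y1, y2, y3, y4, y5, yc⟩ := Y
    obtain rfl : y4 = false := h4'
    obtain rfl : y5 = false := h5'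
    have hp : (y2 && y3) = false := by
      have hy := (mul_self_eq_one_iff P ⟨y1, y2, y3, false, false, yc⟩).1 hY
      have key : ∀ (P : LP) (y1 y2 y3 : Bool),
          Bits.sqOne P ⟨y1, y2, y3, false, false⟩ = true → (y2 && y3) = false := by decide +kernel
      exact key P y1 y2 y3 hy
    have e1 := congrArg (fun e : El => e.ev t a k s g u z) hB
    have e2 := congrArg (fun e : El => e.ev t a k s g u z) hY
    have e3 := congrArg (fun e : El => e.ev t a k s g u z) hBY
    simp only [hM, hone] at e1 e2 e3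
    set b := B.ev t a k s g u z
    set y := (El.mk y1 y2 y3 false false yc).ev t a k s g u z
    have hcomm : b * y = y * b := by
      calc b * y = (b * y)⁻¹ := eq_inv_of_mul_eq_one_left e3
        _ = y * b := by rw [mul_inv_rev, inv_eq_of_mul_eq_one_right e1, inv_eq_of_mul_eq_one_right e2]
    rw [hM, h.chi_mul h4 e1 e2 hcomm, show y = (⟨y1, y2, y3, yc⟩ : TEl).ev t u z a k from rfl,
      h.conj_T_iff h4 _ hp]
  let cz : Bool → Bool → Bool := fun p q => decide (∃ e : El,
    e.b4 = true ∧ e.b5 = true ∧ e.b2 = p ∧ e.b3 = q ∧ IsConj t (e.ev t a k s g u z))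
  let χ : Chi := ⟨decide (IsConj t ((El.mk P.i false false true false (false, false)).ev t a k s g u z)),
    decide (IsConj t ((El.mk P.j false false false true (false, false)).ev t a k s g u z)),
    cz false false, cz true false, cz false true, cz true true⟩
  have hcz : ∀ p q, χ.z p q = cz p q := by intro p q; cases p <;> cases q <;> rfl
  refine ⟨χ, fun e => ?_⟩
  rcases e with ⟨b1, b2, b3, b4, b5, c⟩
  simp only [El.bits, Bits.pred, Bool.and_eq_true]
  constructor
  · intro he
    refine ⟨(mul_self_eq_one_iff P _).1 (hsq _ he), ?_⟩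
    cases b4 <;> cases b5
    · have hp := (mul_self_eq_one_iff P _).1 (hsq _ he)
      have key : ∀ (P : LP) (y1 y2 y3 : Bool),
          Bits.sqOne P ⟨y1, y2, y3, false, false⟩ = true → (y2 && y3) = false := by decide +kernel
      rw [ev_T h, h.conj_T_iff h4 _ (key P b1 b2 b3 hp)] at he
      simpa using he
    · let B : El := ⟨P.j, false, false, false, true, (false, false)⟩
      have hx := hsq _ he
      have key : ∀ (P : LP) (b1 b2 b3 : Bool) (c : Z2),
          (lData P).mul ⟨b1, b2, b3, false, true, c⟩ ⟨b1, b2, b3, false, true, c⟩ = El.one →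
          ∃ yc : Z2, (lData P).mul ⟨P.j, false, false, false, true, (false, false)⟩
              ⟨xor b1 P.j, b2, b3, false, false, yc⟩ = ⟨b1, b2, b3, false, true, c⟩ ∧
            (lData P).mul ⟨xor b1 P.j, b2, b3, false, false, yc⟩ ⟨xor b1 P.j, b2, b3, false, false, yc⟩ =
              El.one ∧ (lData P).mul ⟨P.j, false, false, false, true, (false, false)⟩
              ⟨P.j, false, false, false, true, (false, false)⟩ = El.one := by decide +kernel
      obtain ⟨yc, k1, k2, k3⟩ := key P b1 b2 b3 c hx
      have := step B _ k3 k2 (by rw [k1]; exact hx) rfl rfl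
      rw [k1] at this
      rw [this, not_iff_eq_true] at he
      simpa only [if_true, Bool.false_eq_true, if_false, χ] using he
    · let B : El := ⟨P.i, false, false, true, false, (false, false)⟩
      have hx := hsq _ he
      have key : ∀ (P : LP) (b1 b2 b3 : Bool) (c : Z2),
          (lData P).mul ⟨b1, b2, b3, true, false, c⟩ ⟨b1, b2, b3, true, false, c⟩ = El.one →
          ∃ yc : Z2, (lData P).mul ⟨P.i, false, false, true, false, (false, false)⟩
              ⟨xor b1 P.i, b2, b3, false, false, yc⟩ = ⟨b1, b2, b3, true, false, c⟩ ∧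
            (lData P).mul ⟨xor b1 P.i, b2, b3, false, false, yc⟩ ⟨xor b1 P.i, b2, b3, false, false, yc⟩ =
              El.one ∧ (lData P).mul ⟨P.i, false, false, true, false, (false, false)⟩
              ⟨P.i, false, false, true, false, (false, false)⟩ = El.one := by decide +kernel
      obtain ⟨yc, k1, k2, k3⟩ := key P b1 b2 b3 c hx
      have := step B _ k3 k2 (by rw [k1]; exact hx) rfl rfl
      rw [k1] at this
      rw [this, not_iff_eq_true] at he
      simpa only [if_true, Bool.false_eq_true, if_false, χ] using he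
    · simp only [if_true, hcz, cz, decide_eq_true_eq]
      exact ⟨_, rfl, rfl, rfl, rfl, he⟩
  · rintro ⟨hs, hv⟩
    have hx := (mul_self_eq_one_iff P ⟨b1, b2, b3, b4, b5, c⟩).2 hs
    cases b4 <;> cases b5
    · have key : ∀ (P : LP) (y1 y2 y3 : Bool),
          Bits.sqOne P ⟨y1, y2, y3, false, false⟩ = true → (y2 && y3) = false := by decide +kernel
      rw [ev_T h, h.conj_T_iff h4 _ (key P b1 b2 b3 hs)]
      simpa using hv
    · let B : El := ⟨P.j, false, false, false, true, (false, false)⟩
      have key : ∀ (P : LP) (b1 b2 b3 : Bool) (c : Z2),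
          (lData P).mul ⟨b1, b2, b3, false, true, c⟩ ⟨b1, b2, b3, false, true, c⟩ = El.one →
          ∃ yc : Z2, (lData P).mul ⟨P.j, false, false, false, true, (false, false)⟩
              ⟨xor b1 P.j, b2, b3, false, false, yc⟩ = ⟨b1, b2, b3, false, true, c⟩ ∧
            (lData P).mul ⟨xor b1 P.j, b2, b3, false, false, yc⟩ ⟨xor b1 P.j, b2, b3, false, false, yc⟩ =
              El.one ∧ (lData P).mul ⟨P.j, false, false, false, true, (false, false)⟩
              ⟨P.j, false, false, false, true, (false, false)⟩ = El.one := by decide +kernel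
      obtain ⟨yc, k1, k2, k3⟩ := key P b1 b2 b3 c hx
      have := step B _ k3 k2 (by rw [k1]; exact hx) rfl rfl
      rw [k1] at this
      rw [this, not_iff_eq_true]
      simpa only [if_true, Bool.false_eq_true, if_false, χ] using hv
    · let B : El := ⟨P.i, false, false, true, false, (false, false)⟩
      have key : ∀ (P : LP) (b1 b2 b3 : Bool) (c : Z2),
          (lData P).mul ⟨b1, b2, b3, true, false, c⟩ ⟨b1, b2, b3, true, false, c⟩ = El.one →
          ∃ yc : Z2, (lData P).mul ⟨P.i, false, false, true, false, (false, false)⟩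
              ⟨xor b1 P.i, b2, b3, false, false, yc⟩ = ⟨b1, b2, b3, true, false, c⟩ ∧
            (lData P).mul ⟨xor b1 P.i, b2, b3, false, false, yc⟩ ⟨xor b1 P.i, b2, b3, false, false, yc⟩ =
              El.one ∧ (lData P).mul ⟨P.i, false, false, true, false, (false, false)⟩
              ⟨P.i, false, false, true, false, (false, false)⟩ = El.one := by decide +kernel
      obtain ⟨yc, k1, k2, k3⟩ := key P b1 b2 b3 c hx
      have := step B _ k3 k2 (by rw [k1]; exact hx) rfl rfl
      rw [k1] at this
      rw [this, not_iff_eq_true]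
      simpa only [if_true, Bool.false_eq_true, if_false, χ] using hv
    · simp only [if_true, hcz, cz, decide_eq_true_eq] at hv
      obtain ⟨⟨d1, d2, d3, d4, d5, dc⟩, hd4, hd5, hd2, hd3, hd⟩ := hv
      simp only at hd4 hd5 hd2 hd3
      subst hd4 hd5 hd2 hd3
      have key : ∀ (P : LP) (b1 d1 p q : Bool),
          Bits.sqOne P ⟨b1, p, q, true, true⟩ = true → Bits.sqOne P ⟨d1, p, q, true, true⟩ = true →
          b1 = d1 := by decide +kernel
      obtain rfl := key P b1 d1 _ _ hs ((mul_self_eq_one_iff P _).1 (hsq _ hd))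
      let Y : El := ⟨false, false, false, false, false, zadd c dc⟩
      have hY : (lData P).mul Y Y = El.one := by
        rw [mul_self_eq_one_iff]; rfl
      have k1 : (lData P).mul ⟨b1, d2, d3, true, true, dc⟩ Y = ⟨b1, d2, d3, true, true, c⟩ := by
        simp only [CData.mul, CData.cor, Y, Bool.and_false, Bool.xor_false, El.mk.injEq, true_and]
        have : ∀ c d : Z2, zadd (zadd d (zadd c d)) (false, false) = c := by decide
        exact this c dc
      have := step _ Y (hsq _ hd) hY (by rw [k1]; exact hx) rfl rfl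
      rw [k1] at this
      rw [this]
      simp only [hd, Y, Bool.false_eq_true, iff_false, not_true_eq_false, not_false_eq_true]

theorem card_conj_bits {χ : Chi}
    (hχ : ∀ e : El, IsConj t (e.ev t a k s g u z) ↔ e.bits.pred P χ = true) (f : Bits → Bool) :
    Nat.card {y | ∃ e : El, f e.bits = true ∧ e.ev t a k s g u z = y ∧ IsConj t y} = 4 * units P χ f := by
  classical
  let S := Finset.univ.filter fun b : Bits => f b = true ∧ b.pred P χ = true
  let F : S × Z2 → {y | ∃ e : El, f e.bits = true ∧ e.ev t a k s g u z = y ∧ IsConj t y} := fun p =>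
    ⟨((p.1 : Bits).el p.2).ev t a k s g u z, (p.1 : Bits).el p.2, (Finset.mem_filter.1 p.1.2).2.1, rfl,
      (hχ _).2 (Finset.mem_filter.1 p.1.2).2.2⟩
  have hb : Function.Bijective F := by
    constructor
    · rintro ⟨⟨b, hb⟩, c⟩ ⟨⟨d, hd⟩, c'⟩ e
      have e' := h.lEv_injective hP (congrArg Subtype.val e)
      obtain ⟨b1, b2, b3, b4, b5⟩ := b
      obtain ⟨d1, d2, d3, d4, d5⟩ := d
      simp only [Bits.el, El.mk.injEq] at e'
      obtain ⟨rfl, rfl, rfl, rfl, rfl, rfl⟩ := e'
      rfl
    · rintro ⟨y, e, hf, rfl, hy⟩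
      exact ⟨(⟨e.bits, Finset.mem_filter.2 ⟨Finset.mem_univ _, hf, (hχ _).1 hy⟩⟩, e.c), Subtype.ext rfl⟩
  rw [← Nat.card_congr (Equiv.ofBijective F hb), Nat.card_prod, Nat.card_eq_finsetCard,
    Nat.card_eq_fintype_card (α := Z2)]
  show _ * 4 = 4 * S.card
  exact mul_comm _ _

/-- An odd number of conjugate cosets outside a subgroup of index two of `L`. -/
theorem L_criterion (h4 : Four t u z) {χ : Chi}
    (hχ : ∀ e : El, IsConj t (e.ev t a k s g u z) ↔ e.bits.pred P χ = true) (f : Bits → Bool)
    (hf : ∀ b d, f (b.add d) = xor (f b) (f d))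
    (hf16 : (Finset.univ.filter fun b : Bits => f b = false).card = 16)
    (hodd : units P χ f % 2 = 1) : ∃ K : Subgroup G, K.index = 2 := by
  classical
  have hf0 : f ⟨false, false, false, false, false⟩ = false := by
    have := hf ⟨false, false, false, false, false⟩ ⟨false, false, false, false, false⟩
    simp [Bits.add] at this
    exact this
  have hM := h.lEv_mul hP
  have hinj := h.lEv_injective hP
  have hbits : ∀ e d : El, ((lData P).mul e d).bits = e.bits.add d.bits := fun e d => rfl
  let M : Subgroup G :=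
    { carrier := {y | ∃ e : El, f e.bits = false ∧ e.ev t a k s g u z = y}
      one_mem' := ⟨El.one, hf0, (h.real_L hP).ev_one⟩
      mul_mem' := by
        rintro _ _ ⟨e, he, rfl⟩ ⟨d, hd, rfl⟩
        exact ⟨(lData P).mul e d, by rw [hbits, hf, he, hd]; rfl, hM e d⟩
      inv_mem' := by
        rintro _ ⟨e, he, rfl⟩
        obtain ⟨d, hd⟩ := (CReal.mem_range (h.real_L hP)).1
          (inv_mem ((CReal.mem_range (h.real_L hP)).2 ⟨e, rfl⟩))
        refine ⟨d, ?_, hd⟩
        have e1 : (lData P).mul e d = El.one :=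
          hinj (by simp only [hM, hd, mul_inv_cancel, (h.real_L hP).ev_one])
        have e2 := congrArg (fun x : El => f x.bits) e1
        simp only [hbits, hf, he, Bool.false_xor] at e2
        exact e2.trans hf0 }
  set R := (h.real_L hP).range
  have hMR : M ≤ R := fun y ⟨e, _, he⟩ => (CReal.mem_range _).2 ⟨e, he⟩
  have hM64 : Nat.card M = 64 := by
    let e : {b : Bits // f b = false} × Z2 ≃ M :=
      Equiv.ofBijective (fun p => ⟨(p.1.1.el p.2).ev t a k s g u z, p.1.1.el p.2, p.1.2, rfl⟩)
        ⟨fun p q e => by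
          obtain ⟨⟨⟨b1, b2, b3, b4, b5⟩, hb⟩, c⟩ := p
          obtain ⟨⟨⟨d1, d2, d3, d4, d5⟩, hd⟩, c'⟩ := q
          have e' := hinj (congrArg Subtype.val e)
          simp only [Bits.el, El.mk.injEq] at e'
          obtain ⟨rfl, rfl, rfl, rfl, rfl, rfl⟩ := e'
          rfl, fun ⟨y, x, hx, he⟩ => ⟨(⟨x.bits, hx⟩, x.c), Subtype.ext he⟩⟩
    rw [← Nat.card_congr e, Nat.card_prod, Nat.card_eq_fintype_card (α := Z2), Nat.card_eq_fintype_card,
      Fintype.card_subtype, hf16]
    rfl
  have hset : conjIn t ((R : Set G) \ M) =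
      {y | ∃ e : El, f e.bits = true ∧ e.ev t a k s g u z = y ∧ IsConj t y} := by
    ext y
    constructor
    · rintro ⟨⟨hyR, hyM⟩, hyc⟩
      obtain ⟨e, rfl⟩ := (CReal.mem_range _).1 hyR
      refine ⟨e, ?_, rfl, hyc⟩
      by_contra hne
      exact hyM ⟨e, by simpa using hne, rfl⟩
    · rintro ⟨e, hfe, rfl, hyc⟩
      refine ⟨⟨(CReal.mem_range _).2 ⟨e, rfl⟩, fun ⟨d, hd, hde⟩ => ?_⟩, hyc⟩
      rw [hinj hde, hfe] at hd
      exact Bool.noConfusion hd
  obtain ⟨m, hm, hcm⟩ := h.card
  refine index_two_of_diff R M t h.t2 hMR (by rw [hM64, h.card_lRange hP]) (units P χ f * m) ?_ ?_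
  · rw [hset, h.card_conj_bits hP hχ, hcm, h.card_lRange hP]; ring
  · rw [Nat.mul_mod, hodd, Nat.odd_iff.1 hm]

end Hyp

end Cfsg.Agent.TwoTimesSym
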