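import Cfsg.Agent.TwoTimesSym.CaseOdd
import Cfsg.Agent.TwoTimesSym.CaseTwo
import Cfsg.Agent.TwoTimesSym.CycleOne
import Cfsg.Agent.TwoTimesSym.CycleZero
import Cfsg.Agent.TwoTimesSym.FixA
import Cfsg.Agent.TwoTimesSym.FixB

/-!
The case distinction: a group with such an involution has a subgroup of index two.
-/

set_option autoImplicit false

namespace Cfsg.Agent.TwoTimesSym

open Subgroup

variable {G : Type*} [Group G] {t u z a k : G}

namespace Hyp

variable [Finite G] (h : Hyp t u z a k)
include h

theorem case_four (h4 : Four t u z) : ∃ K : Subgroup G, K.index = 2 := by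
  by_cases hfix : ∀ g ∈ nrm (tG t u z a k), cj g u = u
  · obtain ⟨s, g, P, hP⟩ := h.exists_gen h4 hfix
    cases hx : P.x with
    | false => exact h.case_fix_A h4 hP hfix hx
    | true =>
      cases hy : P.y with
      | true => exact h.case_fix_B h4 hP hfix hx hy
      | false =>
        have hsz := h.cj_z hP.sL
        have hgz := h.cj_z hP.gL
        have hub : cj s (u * z) = u * z := by rw [cj_mul, hP.su, hsz]
        have hbz : u * z * z = u := by rw [mul_assoc, h.z2, mul_one]
        have hT : tG t (u * z) z (u * k) (u * a) = tG t u z a k := h.toFrame.closure_mirror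
        obtain ⟨i, j, c, hP'⟩ := h.mirror.mk_gen (h.four_mirror h4) (s := g) (g := s) (x := false) (y := true)
          (by rw [hT]; exact hP.gL) (by rw [hT]; exact hP.sL) hP.gt
          (by rw [cj_mul, hP.gu, hgz])
          (by rw [cj_mul, hP.gu, hP.gk, hy]; simp)
          (by rw [cj_mul, hP.gu, hP.ga])
          (by rw [hbz]; exact hP.st) hub
          (by rw [cj_mul, hP.su, hP.sk])
          (by rw [cj_mul, hP.su, hP.sa, hx, hbz]; simp [mul_assoc])
        exact h.mirror.case_fix_A (h.four_mirror h4) hP' (h.fix_mirror h4 hfix) rfl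
  · obtain ⟨g, hg, hgu⟩ : ∃ g ∈ nrm (tG t u z a k), cj g u ≠ u := by simpa using hfix
    obtain ⟨s, hc⟩ := h.exists_cyc h4 ⟨g, hg, hgu⟩
    obtain ⟨ρ, hρ⟩ := h.exists_rho h4 hc
    cases ρ with
    | true => exact h.case_cycle_one h4 hc hρ
    | false => exact h.case_cycle_zero h4 hc hρ

/-- A group with such an involution has a subgroup of index two. -/
theorem index_two : ∃ K : Subgroup G, K.index = 2 := by
  by_contra hne
  have hno : ∀ K : Subgroup G, K.index ≠ 2 := fun K hK => hne ⟨K, hK⟩
  have p1 := h.parity_t hno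
  have p2 := h.parity_u hno
  by_cases hz : IsConj t (t * z)
  · have e1 : IsConj t (t * u) ↔ IsConj t (t * (u * z)) := p1.1 hz
    have e2 : IsConj t u ↔ IsConj t (u * z) := p2.2 e1
    by_cases hu : IsConj t u <;> by_cases htu : IsConj t (t * u)
    · exact h.case_six hno hz hu (e2.1 hu) htu (e1.1 htu)
    · have e : t * (t * u) = u := by rw [← mul_assoc, h.t2, one_mul]
      have e' : t * (t * u * z) = u * z := by rw [mul_assoc t u z, ← mul_assoc, h.t2, one_mul]
      exact hno _ (h.twist.case_four ⟨hz, by rw [e]; exact hu, by rw [e']; exact e2.1 hu, htu,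
        by rw [mul_assoc]; exact fun hc => htu (e1.2 hc)⟩).choose_spec
    · exact hno _ (h.case_four ⟨hz, htu, e1.1 htu, hu, fun hc => hu (e2.2 hc)⟩).choose_spec
    · exact h.case_two hno hz hu (fun hc => hu (e2.2 hc)) htu (fun hc => htu (e1.2 hc))
  · have e1 : ¬ (IsConj t (t * u) ↔ IsConj t (t * (u * z))) := fun e => hz (p1.2 e)
    have e2 : ¬ (IsConj t u ↔ IsConj t (u * z)) := fun e => e1 (p2.1 e)
    by_cases hu : IsConj t u
    · exact h.case_three_u hz hu (fun hc => e2 ⟨fun _ => hc, fun _ => hu⟩) (by tauto)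
    · have hb : IsConj t (u * z) := by by_contra hc; exact e2 ⟨fun x => absurd x hu, fun x => absurd x hc⟩
      have hbz : u * z * z = u := by rw [mul_assoc, h.z2, mul_one]
      exact h.mirror.case_three_u hz hb (by rw [hbz]; exact hu) (by rw [hbz]; tauto)

end Hyp

end Cfsg.Agent.TwoTimesSym
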