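import Cfsg.Agent.TwoTimesSym.Hyp

/-!
The group `T = ⟨t, u, z, a, k⟩` of order `32` and its two elementary abelian subgroups of order `16`.
-/

set_option autoImplicit false

namespace Cfsg.Agent.TwoTimesSym

open Subgroup

variable {G : Type*} [Group G] {t u z a k : G}

/-- The model elements of `⟨t, u, z⟩`. -/
def TEl.cen (e i j : Bool) : TEl := ⟨e, false, false, (i, j)⟩

namespace Frame

variable (h : Frame t u z a k)
include h

theorem real : CReal tData t a k 1 1 u z where
  hu := h.u2
  hz := h.z2
  huz := h.zu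
  cu1 := h.tu
  cu2 := h.ua
  cu3 := h.uk
  cu4 := by simp
  cu5 := by simp
  cz1 := h.tz
  cz2 := h.za
  cz3 := h.zk
  cz4 := by simp
  cz5 := by simp
  s1 := by simp [tData, pz_one, h.t2]
  s2 := by simp [tData, pz_one, h.a2]
  s3 := by simp [tData, pz_one, h.k2]
  s4 := by simp [tData, pz_one]
  s5 := by simp [tData, pz_one]
  w21 := by simp [tData, pz_one, h.ta]
  w31 := by simp [tData, pz_one, h.tk]
  w41 := by simp [tData, pz_one]
  w51 := by simp [tData, pz_one]
  w32 := by simp [tData, pz, h.ka]
  w42 := by simp [tData, pz_one]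
  w52 := by simp [tData, pz_one]
  w43 := by simp [tData, pz_one]
  w53 := by simp [tData, pz_one]
  w54 := by simp [tData, pz_one]

theorem ev_mul (x y : TEl) : (x.mul y).ev t u z a k = x.ev t u z a k * y.ev t u z a k := by
  unfold TEl.ev
  rw [← h.real.ev_mul]
  congr 1
  revert x y
  decide

omit h in
theorem ev_one : TEl.one.ev t u z a k = 1 := by simp [TEl.ev, El.ev, TEl.one, pz_one]

omit h in
theorem ev_t : (TEl.cen true false false).ev t u z a k = t := by simp [TEl.ev, El.ev, TEl.cen, pz_one]

omit h in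
theorem ev_u : (TEl.cen false true false).ev t u z a k = u := by simp [TEl.ev, El.ev, TEl.cen, pz]

omit h in
theorem ev_z : (TEl.cen false false true).ev t u z a k = z := by simp [TEl.ev, El.ev, TEl.cen, pz]

omit h in
theorem ev_a : (⟨false, true, false, (false, false)⟩ : TEl).ev t u z a k = a := by
  simp [TEl.ev, El.ev, pz_one]

omit h in
theorem ev_k : (⟨false, false, true, (false, false)⟩ : TEl).ev t u z a k = k := by
  simp [TEl.ev, El.ev, pz_one]

omit h in
theorem ev_cen (e i j : Bool) : (TEl.cen e i j).ev t u z a k = pw t e * pz u z (i, j) := by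
  simp [TEl.ev, El.ev, TEl.cen]

/-- The model elements with a given condition form a subgroup. -/
def evSub (f : TEl → Bool) (h1 : f TEl.one = false)
    (hm : ∀ x y, f x = false → f y = false → f (x.mul y) = false) : Subgroup G where
  carrier := {g | ∃ x : TEl, f x = false ∧ x.ev t u z a k = g}
  one_mem' := ⟨TEl.one, h1, ev_one⟩
  mul_mem' := by
    rintro _ _ ⟨x, hx, rfl⟩ ⟨y, hy, rfl⟩
    exact ⟨x.mul y, hm x y hx hy, h.ev_mul x y⟩
  inv_mem' := by
    rintro _ ⟨x, hx, rfl⟩
    have hi : ∀ x : TEl, (x.mul (x.mul (x.mul x))) = TEl.one := by decide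
    refine ⟨x.mul (x.mul x), hm _ _ hx (hm _ _ hx hx), ?_⟩
    refine eq_inv_of_mul_eq_one_right ?_
    rw [← h.ev_mul, hi, ev_one]

theorem mem_T {g : G} :
    g ∈ closure ({t, u, z, a, k} : Set G) ↔ ∃ x : TEl, x.ev t u z a k = g := by
  constructor
  · intro hg
    have hle : closure ({t, u, z, a, k} : Set G) ≤ h.evSub (fun _ => false) rfl (fun _ _ _ _ => rfl) := by
      rw [closure_le]
      rintro x (rfl | rfl | rfl | rfl | rfl)
      exacts [⟨_, rfl, ev_t⟩, ⟨_, rfl, ev_u⟩, ⟨_, rfl, ev_z⟩, ⟨_, rfl, ev_a⟩, ⟨_, rfl, ev_k⟩]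
    obtain ⟨x, -, hx⟩ := hle hg
    exact ⟨x, hx⟩
  · rintro ⟨x, rfl⟩
    have H : ∀ y ∈ ({t, u, z, a, k} : Set G), ∀ b, pw y b ∈ closure ({t, u, z, a, k} : Set G) := by
      intro y hy b
      cases b
      · simpa using one_mem _
      · simpa using subset_closure hy
    simp only [TEl.ev, El.ev, pz, pw_false, one_mul, mul_one]
    refine mul_mem (mul_mem ?_ (mul_mem ?_ ?_)) (mul_mem ?_ ?_) <;> exact H _ (by simp) _

theorem mem_E1 {g : G} :
    g ∈ closure ({t, u, z, a} : Set G) ↔ ∃ x : TEl, x.q = false ∧ x.ev t u z a k = g := by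
  constructor
  · intro hg
    have hle : closure ({t, u, z, a} : Set G) ≤ h.evSub (fun x => x.q) rfl
        (fun x y h1 h2 => by simp [TEl.mul, h1, h2]) := by
      rw [closure_le]
      rintro x (rfl | rfl | rfl | rfl)
      exacts [⟨_, rfl, ev_t⟩, ⟨_, rfl, ev_u⟩, ⟨_, rfl, ev_z⟩, ⟨_, rfl, ev_a⟩]
    exact hle hg
  · rintro ⟨x, hx, rfl⟩
    have H : ∀ y ∈ ({t, u, z, a} : Set G), ∀ b, pw y b ∈ closure ({t, u, z, a} : Set G) := by
      intro y hy b
      cases b
      · simpa using one_mem _
      · simpa using subset_closure hy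
    simp only [TEl.ev, El.ev, pz, pw_false, hx, one_mul, mul_one]
    refine mul_mem (mul_mem ?_ ?_) (mul_mem ?_ ?_) <;> exact H _ (by simp) _

theorem mem_E2 {g : G} :
    g ∈ closure ({t, u, z, k} : Set G) ↔ ∃ x : TEl, x.p = false ∧ x.ev t u z a k = g := by
  constructor
  · intro hg
    have hle : closure ({t, u, z, k} : Set G) ≤ h.evSub (fun x => x.p) rfl
        (fun x y h1 h2 => by simp [TEl.mul, h1, h2]) := by
      rw [closure_le]
      rintro x (rfl | rfl | rfl | rfl)
      exacts [⟨_, rfl, ev_t⟩, ⟨_, rfl, ev_u⟩, ⟨_, rfl, ev_z⟩, ⟨_, rfl, ev_k⟩]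
    exact hle hg
  · rintro ⟨x, hx, rfl⟩
    have H : ∀ y ∈ ({t, u, z, k} : Set G), ∀ b, pw y b ∈ closure ({t, u, z, k} : Set G) := by
      intro y hy b
      cases b
      · simpa using one_mem _
      · simpa using subset_closure hy
    simp only [TEl.ev, El.ev, pz, pw_false, hx, one_mul, mul_one]
    refine mul_mem (mul_mem ?_ ?_) (mul_mem ?_ ?_) <;> exact H _ (by simp) _

theorem closure_mirror :
    closure ({t, u * z, z, u * k, u * a} : Set G) = closure ({t, u, z, a, k} : Set G) := by
  apply le_antisymm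
  · have hu : u ∈ closure ({t, u, z, a, k} : Set G) := subset_closure (.inr (.inl rfl))
    rw [closure_le]
    rintro x (rfl | rfl | rfl | rfl | rfl)
    exacts [subset_closure (.inl rfl), mul_mem hu (subset_closure (.inr (.inr (.inl rfl)))),
      subset_closure (.inr (.inr (.inl rfl))), mul_mem hu (subset_closure (.inr (.inr (.inr (.inr rfl))))),
      mul_mem hu (subset_closure (.inr (.inr (.inr (.inl rfl)))))]
  · have hu : u ∈ closure ({t, u * z, z, u * k, u * a} : Set G) := by
      have := mul_mem (subset_closure (.inr (.inl rfl)) : u * z ∈ closure ({t, u * z, z, u * k, u * a} : Set G))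
        (subset_closure (.inr (.inr (.inl rfl))) : z ∈ _)
      rwa [mul_assoc, h.z2, mul_one] at this
    have hinv : ∀ x : G, u * x ∈ closure ({t, u * z, z, u * k, u * a} : Set G) → x ∈ closure ({t, u * z, z, u * k, u * a} : Set G) := fun x hx => by
      have := mul_mem hu hx
      rwa [← mul_assoc, h.u2, one_mul] at this
    rw [closure_le]
    rintro x (rfl | rfl | rfl | rfl | rfl)
    · exact subset_closure (.inl rfl)
    · exact hu
    · exact subset_closure (.inr (.inr (.inl rfl)))
    · exact hinv _ (subset_closure (.inr (.inr (.inr (.inr rfl)))))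
    · exact hinv _ (subset_closure (.inr (.inr (.inr (.inl rfl)))))

theorem closure_mirror1 :
    closure ({t, u * z, z, u * k} : Set G) = closure ({t, u, z, k} : Set G) := by
  apply le_antisymm
  · have hu : u ∈ closure ({t, u, z, k} : Set G) := subset_closure (.inr (.inl rfl))
    rw [closure_le]
    rintro x (rfl | rfl | rfl | rfl)
    exacts [subset_closure (.inl rfl), mul_mem hu (subset_closure (.inr (.inr (.inl rfl)))),
      subset_closure (.inr (.inr (.inl rfl))), mul_mem hu (subset_closure (.inr (.inr (.inr rfl))))]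
  · have hu : u ∈ closure ({t, u * z, z, u * k} : Set G) := by
      have := mul_mem (subset_closure (.inr (.inl rfl)) : u * z ∈ closure ({t, u * z, z, u * k} : Set G))
        (subset_closure (.inr (.inr (.inl rfl))) : z ∈ _)
      rwa [mul_assoc, h.z2, mul_one] at this
    have hinv : ∀ x : G, u * x ∈ closure ({t, u * z, z, u * k} : Set G) → x ∈ closure ({t, u * z, z, u * k} : Set G) := fun x hx => by
      have := mul_mem hu hx
      rwa [← mul_assoc, h.u2, one_mul] at this
    rw [closure_le]
    rintro x (rfl | rfl | rfl | rfl)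
    · exact subset_closure (.inl rfl)
    · exact hu
    · exact subset_closure (.inr (.inr (.inl rfl)))
    · exact hinv _ (subset_closure (.inr (.inr (.inr rfl))))

theorem closure_mirror2 :
    closure ({t, u * z, z, u * a} : Set G) = closure ({t, u, z, a} : Set G) := by
  apply le_antisymm
  · have hu : u ∈ closure ({t, u, z, a} : Set G) := subset_closure (.inr (.inl rfl))
    rw [closure_le]
    rintro x (rfl | rfl | rfl | rfl)
    exacts [subset_closure (.inl rfl), mul_mem hu (subset_closure (.inr (.inr (.inl rfl)))),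
      subset_closure (.inr (.inr (.inl rfl))), mul_mem hu (subset_closure (.inr (.inr (.inr rfl))))]
  · have hu : u ∈ closure ({t, u * z, z, u * a} : Set G) := by
      have := mul_mem (subset_closure (.inr (.inl rfl)) : u * z ∈ closure ({t, u * z, z, u * a} : Set G))
        (subset_closure (.inr (.inr (.inl rfl))) : z ∈ _)
      rwa [mul_assoc, h.z2, mul_one] at this
    have hinv : ∀ x : G, u * x ∈ closure ({t, u * z, z, u * a} : Set G) → x ∈ closure ({t, u * z, z, u * a} : Set G) := fun x hx => by
      have := mul_mem hu hx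
      rwa [← mul_assoc, h.u2, one_mul] at this
    rw [closure_le]
    rintro x (rfl | rfl | rfl | rfl)
    · exact subset_closure (.inl rfl)
    · exact hu
    · exact subset_closure (.inr (.inr (.inl rfl)))
    · exact hinv _ (subset_closure (.inr (.inr (.inr rfl))))

omit h in
theorem closure_twist (ht : t * t = 1) :
    closure ({t, t * u, z, t * a, k} : Set G) = closure ({t, u, z, a, k} : Set G) := by
  apply le_antisymm
  · have h1 : t ∈ closure ({t, u, z, a, k} : Set G) := subset_closure (.inl rfl)
    rw [closure_le]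
    rintro x (rfl | rfl | rfl | rfl | rfl)
    exacts [h1, mul_mem h1 (subset_closure (.inr (.inl rfl))), subset_closure (.inr (.inr (.inl rfl))),
      mul_mem h1 (subset_closure (.inr (.inr (.inr (.inl rfl))))),
      subset_closure (.inr (.inr (.inr (.inr rfl))))]
  · have h1 : t ∈ closure ({t, t * u, z, t * a, k} : Set G) := subset_closure (.inl rfl)
    have hinv : ∀ x : G, t * x ∈ closure ({t, t * u, z, t * a, k} : Set G) → x ∈ closure ({t, t * u, z, t * a, k} : Set G) := fun x hx => by
      have := mul_mem h1 hx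
      rwa [← mul_assoc, ht, one_mul] at this
    rw [closure_le]
    rintro x (rfl | rfl | rfl | rfl | rfl)
    · exact h1
    · exact hinv _ (subset_closure (.inr (.inl rfl)))
    · exact subset_closure (.inr (.inr (.inl rfl)))
    · exact hinv _ (subset_closure (.inr (.inr (.inr (.inl rfl)))))
    · exact subset_closure (.inr (.inr (.inr (.inr rfl))))

omit h in
theorem closure_twist1 (ht : t * t = 1) :
    closure ({t, t * u, z, t * a} : Set G) = closure ({t, u, z, a} : Set G) := by
  apply le_antisymm
  · have h1 : t ∈ closure ({t, u, z, a} : Set G) := subset_closure (.inl rfl)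
    rw [closure_le]
    rintro x (rfl | rfl | rfl | rfl)
    exacts [h1, mul_mem h1 (subset_closure (.inr (.inl rfl))), subset_closure (.inr (.inr (.inl rfl))),
      mul_mem h1 (subset_closure (.inr (.inr (.inr rfl))))]
  · have h1 : t ∈ closure ({t, t * u, z, t * a} : Set G) := subset_closure (.inl rfl)
    have hinv : ∀ x : G, t * x ∈ closure ({t, t * u, z, t * a} : Set G) → x ∈ closure ({t, t * u, z, t * a} : Set G) := fun x hx => by
      have := mul_mem h1 hx
      rwa [← mul_assoc, ht, one_mul] at this
    rw [closure_le]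
    rintro x (rfl | rfl | rfl | rfl)
    · exact h1
    · exact hinv _ (subset_closure (.inr (.inl rfl)))
    · exact subset_closure (.inr (.inr (.inl rfl)))
    · exact hinv _ (subset_closure (.inr (.inr (.inr rfl))))

omit h in
theorem closure_twist2 (ht : t * t = 1) :
    closure ({t, t * u, z, k} : Set G) = closure ({t, u, z, k} : Set G) := by
  apply le_antisymm
  · have h1 : t ∈ closure ({t, u, z, k} : Set G) := subset_closure (.inl rfl)
    rw [closure_le]
    rintro x (rfl | rfl | rfl | rfl)
    exacts [h1, mul_mem h1 (subset_closure (.inr (.inl rfl))), subset_closure (.inr (.inr (.inl rfl))),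
      subset_closure (.inr (.inr (.inr rfl)))]
  · have h1 : t ∈ closure ({t, t * u, z, k} : Set G) := subset_closure (.inl rfl)
    have hinv : ∀ x : G, t * x ∈ closure ({t, t * u, z, k} : Set G) → x ∈ closure ({t, t * u, z, k} : Set G) := fun x hx => by
      have := mul_mem h1 hx
      rwa [← mul_assoc, ht, one_mul] at this
    rw [closure_le]
    rintro x (rfl | rfl | rfl | rfl)
    · exact h1
    · exact hinv _ (subset_closure (.inr (.inl rfl)))
    · exact subset_closure (.inr (.inr (.inl rfl)))
    · exact subset_closure (.inr (.inr (.inr rfl)))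

end Frame

namespace Hyp

variable (h : Hyp t u z a k)
include h

theorem ev_inj {x y : TEl} : x.ev t u z a k = y.ev t u z a k ↔ x = y := by
  refine ⟨fun he => ?_, fun he => by rw [he]⟩
  have key : ∀ x y : TEl, x.mul (y.mul (y.mul y)) = TEl.one → x = y := by decide
  have hi : ∀ y : TEl, y.mul (y.mul (y.mul y)) = TEl.one := by decide
  refine key x y (h.inj _ ?_)
  rw [h.toFrame.ev_mul, he, ← h.toFrame.ev_mul, hi, Frame.ev_one]

theorem ev_injective : Function.Injective fun x : TEl => x.ev t u z a k := fun _ _ he => h.ev_inj.1 he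

theorem card_T : Nat.card (closure ({t, u, z, a, k} : Set G)) = 32 := by
  let e : TEl ≃ closure ({t, u, z, a, k} : Set G) :=
    Equiv.ofBijective (fun x => ⟨x.ev t u z a k, h.toFrame.mem_T.2 ⟨x, rfl⟩⟩)
      ⟨fun x y he => h.ev_inj.1 (congrArg Subtype.val he), fun g => by
        obtain ⟨x, hx⟩ := h.toFrame.mem_T.1 g.2
        exact ⟨x, Subtype.ext hx⟩⟩
  rw [← Nat.card_congr e, Nat.card_eq_fintype_card]
  rfl

theorem card_E1 : Nat.card (closure ({t, u, z, a} : Set G)) = 16 := by
  let e : {x : TEl // x.q = false} ≃ closure ({t, u, z, a} : Set G) :=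
    Equiv.ofBijective (fun x => ⟨x.1.ev t u z a k, h.toFrame.mem_E1.2 ⟨x.1, x.2, rfl⟩⟩)
      ⟨fun x y he => Subtype.ext (h.ev_inj.1 (congrArg Subtype.val he)), fun g => by
        obtain ⟨x, hq, hx⟩ := h.toFrame.mem_E1.1 g.2
        exact ⟨⟨x, hq⟩, Subtype.ext hx⟩⟩
  rw [← Nat.card_congr e, Nat.card_eq_fintype_card]
  rfl

theorem card_E2 : Nat.card (closure ({t, u, z, k} : Set G)) = 16 := by
  let e : {x : TEl // x.p = false} ≃ closure ({t, u, z, k} : Set G) :=
    Equiv.ofBijective (fun x => ⟨x.1.ev t u z a k, h.toFrame.mem_E2.2 ⟨x.1, x.2, rfl⟩⟩)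
      ⟨fun x y he => Subtype.ext (h.ev_inj.1 (congrArg Subtype.val he)), fun g => by
        obtain ⟨x, hq, hx⟩ := h.toFrame.mem_E2.1 g.2
        exact ⟨⟨x, hq⟩, Subtype.ext hx⟩⟩
  rw [← Nat.card_congr e, Nat.card_eq_fintype_card]
  rfl

omit h in
/-- Conjugation classes under `C(t)` are unchanged along an element of `C(t)`. -/
theorem cls_congr {x y g : G} (hg : g * t = t * g) (hxy : cj g x = y) : cls t y = cls t x := by
  have hgi : g⁻¹ * t = t * g⁻¹ := by
    have := (Commute.inv_left (a := g) (b := t) hg).eq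
    exact this
  ext w
  constructor
  · rintro ⟨f, hf, rfl⟩
    refine ⟨g * f, ?_, by rw [← cj_cj, hxy]⟩
    rw [mul_assoc, hf, ← mul_assoc, hg, mul_assoc]
  · rintro ⟨f, hf, rfl⟩
    refine ⟨g⁻¹ * f, ?_, by rw [← hxy, cj_cj, mul_inv_cancel_left]⟩
    rw [mul_assoc, hf, ← mul_assoc, hgi, mul_assoc]

omit h in
theorem card_cls_mul (x : G) : Nat.card (cls t (t * x)) = Nat.card (cls t x) := by
  have hfix : ∀ g, g * t = t * g → cj g t = t := fun g hg => cj_eq_self.2 hg
  refine Nat.card_congr ⟨fun y => ⟨t⁻¹ * y, ?_⟩, fun y => ⟨t * y, ?_⟩, fun y => by simp, fun y => by simp⟩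
  · obtain ⟨g, hg, he⟩ := y.2
    exact ⟨g, hg, by rw [← he, cj_mul, hfix g hg, inv_mul_cancel_left]⟩
  · obtain ⟨g, hg, he⟩ := y.2
    exact ⟨g, hg, by rw [← he, cj_mul, hfix g hg]⟩

/-- The data with the other complement of `⟨t⟩`. -/
theorem twist : Hyp t (t * u) z (t * a) k where
  t2 := h.t2
  u2 := by rw [mul_assoc, ← mul_assoc u, h.tu, mul_assoc, h.u2, mul_one, h.t2]
  z2 := h.z2
  a2 := by rw [mul_assoc, ← mul_assoc a, h.ta, mul_assoc, h.a2, mul_one, h.t2]
  k2 := h.k2
  tu := by rw [mul_assoc, h.tu]
  tz := h.tz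
  ta := by rw [mul_assoc, h.ta]
  tk := h.tk
  zu := by rw [← mul_assoc, h.tz, mul_assoc, h.zu, mul_assoc]
  ua := by
    calc t * u * (t * a) = t * (u * t) * a := by group
      _ = t * t * (u * a) := by rw [h.tu]; group
      _ = t * t * (a * u) := by rw [h.ua]
      _ = t * (t * a) * u := by group
      _ = t * (a * t) * u := by rw [h.ta]
      _ = t * a * (t * u) := by group
  uk := by rw [mul_assoc, h.uk, ← mul_assoc, ← h.tk, mul_assoc]
  za := by rw [← mul_assoc, h.tz, mul_assoc, h.za, mul_assoc]
  zk := h.zk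
  ka := by rw [← mul_assoc, h.tk, mul_assoc, h.ka]; group
  inj x hx := by
    have hm : x.ev t (t * u) z (t * a) k =
        (⟨xor (xor x.e x.p) x.c.1, x.p, x.q, x.c⟩ : TEl).ev t u z a k := by
      have hu : ∀ b, pw (t * u) b = (TEl.cen b b false).ev t u z a k := by
        intro b; cases b <;> simp [TEl.ev, El.ev, TEl.cen, pz]
      have ha : ∀ b, pw (t * a) b = (⟨b, b, false, (false, false)⟩ : TEl).ev t u z a k := by
        intro b; cases b <;> simp [TEl.ev, El.ev, pz]
      have ht : ∀ b, pw t b = (TEl.cen b false false).ev t u z a k := by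
        intro b; cases b <;> simp [TEl.ev, El.ev, TEl.cen, pz]
      have hk : ∀ b, pw k b = (⟨false, false, b, (false, false)⟩ : TEl).ev t u z a k := by
        intro b; cases b <;> simp [TEl.ev, El.ev, pz]
      have hz : ∀ b, pw z b = (TEl.cen false false b).ev t u z a k := by
        intro b; cases b <;> simp [TEl.ev, El.ev, TEl.cen, pz]
      calc x.ev t (t * u) z (t * a) k
          = pw t x.e * (pw (t * a) x.p * pw k x.q) * (pw (t * u) x.c.1 * pw z x.c.2) := by
            simp [TEl.ev, El.ev, pz]
        _ = _ := by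
            rw [ht, ha, hk, hu, hz, ← h.toFrame.ev_mul, ← h.toFrame.ev_mul, ← h.toFrame.ev_mul,
              ← h.toFrame.ev_mul]
            congr 1
            clear hx
            revert x
            decide
    rw [hm] at hx
    have := h.inj _ hx
    clear hx hm
    revert x
    decide
  card := h.card
  normT g hg hT := by
    rw [Frame.closure_twist h.t2] at hT ⊢
    exact h.normT g hg hT
  cent1 g hg hu hz ha := by
    rw [Frame.closure_twist1 h.t2]
    refine h.cent1 g hg ?_ hz ?_
    · rw [← mul_assoc, hg, mul_assoc, mul_assoc] at hu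
      exact mul_left_cancel hu
    · rw [← mul_assoc, hg, mul_assoc, mul_assoc] at ha
      exact mul_left_cancel ha
  cent2 g hg hu hz hk := by
    rw [Frame.closure_twist2 h.t2]
    refine h.cent2 g hg ?_ hz hk
    rw [← mul_assoc, hg, mul_assoc, mul_assoc] at hu
    exact mul_left_cancel hu
  ne1 := by rw [Frame.closure_twist1 h.t2]; exact h.ne1
  ne2 := by rw [Frame.closure_twist2 h.t2]; exact h.ne2
  nu1 g hg hu hn := by
    rw [Frame.closure_twist1 h.t2] at hn
    rw [Frame.closure_twist h.t2]
    refine h.nu1 g hg ?_ hn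
    rw [← mul_assoc, hg, mul_assoc, mul_assoc] at hu
    exact mul_left_cancel hu
  nb2 g hg hu hn := by
    rw [Frame.closure_twist2 h.t2] at hn
    rw [Frame.closure_twist h.t2]
    refine h.nb2 g hg ?_ hn
    rw [mul_assoc t u z, ← mul_assoc, hg, mul_assoc, mul_assoc t (u * z) g] at hu
    exact mul_left_cancel hu
  w1 := by
    obtain ⟨w, hw, e1, e2, e3⟩ := h.w1
    have ht := cj_eq_self.2 hw
    exact ⟨w, hw, by rw [cj_mul, ht, e1], by rw [cj_mul, ht, e2, mul_assoc],
      by rw [mul_assoc, cj_mul, ht, e3]⟩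
  w2 := by
    obtain ⟨w, hw, e1, e2, e3⟩ := h.w2
    exact ⟨w, hw, by rw [cj_mul, cj_eq_self.2 hw, e1], e2, e3⟩
  rep x hx hx2 := by
    rcases h.rep x hx hx2 with h1 | ⟨g, hg, hm⟩
    · exact Or.inl h1
    · refine Or.inr ⟨g, hg, ?_⟩
      have htt : ∀ y : G, t * (t * y) = y := fun y => by rw [← mul_assoc, h.t2, one_mul]
      simp only [Set.mem_insert_iff, Set.mem_singleton_iff, mul_assoc, htt] at hm ⊢
      tauto
  ua_conj := by
    obtain ⟨g, hg, e⟩ := h.ua_conj
    exact ⟨g, hg, by rw [cj_mul, cj_eq_self.2 hg, e]⟩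
  zk_conj := h.zk_conj
  b_conj := by
    obtain ⟨g, hg, e⟩ := h.b_conj
    exact ⟨g, hg, by rw [mul_assoc, cj_mul, cj_eq_self.2 hg, e, mul_assoc]⟩
  nz := h.nz
  nu := by rw [card_cls_mul]; exact h.nu
  nb := by rw [mul_assoc, card_cls_mul]; exact h.nb

/-- The data with the two elementary abelian groups exchanged. -/
theorem mirror : Hyp t (u * z) z (u * k) (u * a) := by
  have uu : ∀ x : G, u * (u * x) = x := fun x => by rw [← mul_assoc, h.u2, one_mul]
  have F : Frame t u z a k := h.toFrame
  have frame : Frame t (u * z) z (u * k) (u * a) :=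
    { t2 := h.t2
      u2 := by rw [mul_assoc, ← mul_assoc z, h.zu, mul_assoc, h.z2, mul_one, h.u2]
      z2 := h.z2
      a2 := by rw [mul_assoc, ← mul_assoc k, ← h.uk, mul_assoc, h.k2, mul_one, h.u2]
      k2 := by rw [mul_assoc, ← mul_assoc a, ← h.ua, mul_assoc, h.a2, mul_one, h.u2]
      tu := by rw [mul_assoc, h.tz, ← mul_assoc, h.tu, mul_assoc]
      tz := h.tz
      ta := by rw [mul_assoc, h.tk, ← mul_assoc, h.tu, mul_assoc]
      tk := by rw [mul_assoc, h.ta, ← mul_assoc, h.tu, mul_assoc]
      zu := by rw [← mul_assoc, h.zu]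
      ua := by
        calc u * z * (u * k) = u * (z * u) * k := by group
          _ = u * u * (z * k) := by rw [h.zu]; group
          _ = u * u * (k * z) := by rw [h.zk]
          _ = u * (u * k) * z := by group
          _ = u * (k * u) * z := by rw [h.uk]
          _ = u * k * (u * z) := by group
      uk := by
        calc u * z * (u * a) = u * (z * u) * a := by group
          _ = u * u * (z * a) := by rw [h.zu]; group
          _ = u * u * (a * z) := by rw [h.za]
          _ = u * (u * a) * z := by group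
          _ = u * (a * u) * z := by rw [h.ua]
          _ = u * a * (u * z) := by group
      za := by rw [← mul_assoc, h.zu, mul_assoc, h.zk, mul_assoc]
      zk := by rw [← mul_assoc, h.zu, mul_assoc, h.za, mul_assoc]
      ka := by
        calc u * a * (u * k) = u * (a * u) * k := by group
          _ = u * (u * a) * k := by rw [h.ua]
          _ = a * k := by rw [← mul_assoc u u, h.u2, one_mul]
          _ = a * k * (z * z) := by rw [h.z2, mul_one]
          _ = a * k * z * z := by group
          _ = k * a * z := by rw [h.ka]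
          _ = u * u * k * a * z := by rw [h.u2, one_mul]
          _ = u * (u * k) * a * z := by group
          _ = u * (k * u) * a * z := by rw [h.uk]
          _ = u * k * (u * a) * z := by group }
  refine { toFrame := frame, inj := ?_, card := h.card, normT := ?_, cent1 := ?_, cent2 := ?_, ne1 := ?_,
           ne2 := ?_, nu1 := ?_, nb2 := ?_, w1 := ?_, w2 := ?_, rep := ?_, ua_conj := ?_, zk_conj := ?_,
           b_conj := ?_, nz := h.nz, nu := h.nb, nb := ?_ }
  · intro x hx
    have hm : x.ev t (u * z) z (u * k) (u * a) =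
        (⟨x.e, x.q, x.p, (xor (xor x.c.1 x.p) x.q, xor (xor x.c.1 x.c.2) (x.p && x.q))⟩ : TEl).ev
          t u z a k := by
      have ht : ∀ b, pw t b = (TEl.cen b false false).ev t u z a k := by
        intro b; cases b <;> simp [TEl.ev, El.ev, TEl.cen, pz]
      have hu : ∀ b, pw (u * z) b = (TEl.cen false b b).ev t u z a k := by
        intro b; cases b <;> simp [TEl.ev, El.ev, TEl.cen, pz]
      have hk : ∀ b, pw (u * k) b = (⟨false, false, b, (b, false)⟩ : TEl).ev t u z a k := by
        intro b; cases b <;> simp [TEl.ev, El.ev, pz, h.uk]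
      have ha : ∀ b, pw (u * a) b = (⟨false, b, false, (b, false)⟩ : TEl).ev t u z a k := by
        intro b; cases b <;> simp [TEl.ev, El.ev, pz, h.ua]
      have hz : ∀ b, pw z b = (TEl.cen false false b).ev t u z a k := by
        intro b; cases b <;> simp [TEl.ev, El.ev, TEl.cen, pz]
      calc x.ev t (u * z) z (u * k) (u * a)
          = pw t x.e * (pw (u * k) x.p * pw (u * a) x.q) * (pw (u * z) x.c.1 * pw z x.c.2) := by
            simp [TEl.ev, El.ev, pz]
        _ = _ := by
            rw [ht, ha, hk, hu, hz, ← F.ev_mul, ← F.ev_mul, ← F.ev_mul, ← F.ev_mul]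
            congr 1
            clear hx
            revert x
            decide
    rw [hm] at hx
    have := h.inj _ hx
    clear hx hm
    revert x
    decide
  · intro g hg hT
    rw [F.closure_mirror] at hT ⊢
    exact h.normT g hg hT
  · intro g hg hu hz hk
    rw [F.closure_mirror1]
    have hu' : g * u = u * g := by
      have : g * (u * z) * z = u * z * g * z := by rw [hu]
      rw [mul_assoc g, mul_assoc u z z, h.z2, mul_one, mul_assoc (u * z), hz, mul_assoc u z,
        ← mul_assoc z z, h.z2, one_mul] at this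
      exact this
    refine h.cent2 g hg hu' hz ?_
    rw [← mul_assoc, hu', mul_assoc, mul_assoc] at hk
    exact mul_left_cancel hk
  · intro g hg hu hz ha
    rw [F.closure_mirror2]
    have hu' : g * u = u * g := by
      have : g * (u * z) * z = u * z * g * z := by rw [hu]
      rw [mul_assoc g, mul_assoc u z z, h.z2, mul_one, mul_assoc (u * z), hz, mul_assoc u z,
        ← mul_assoc z z, h.z2, one_mul] at this
      exact this
    refine h.cent1 g hg hu' hz ?_
    rw [← mul_assoc, hu', mul_assoc, mul_assoc] at ha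
    exact mul_left_cancel ha
  · rw [F.closure_mirror1]; exact h.ne2
  · rw [F.closure_mirror2]; exact h.ne1
  · intro g hg hu hn
    rw [F.closure_mirror1] at hn
    rw [F.closure_mirror]
    exact h.nb2 g hg hu hn
  · intro g hg hu hn
    rw [mul_assoc u z z, h.z2, mul_one] at hu
    rw [F.closure_mirror2] at hn
    rw [F.closure_mirror]
    exact h.nu1 g hg hu hn
  · obtain ⟨w, hw, e1, e2, e3⟩ := h.w2
    refine ⟨w, hw, by rw [cj_mul, e1, e2], by rw [cj_mul, e1, e3, mul_assoc], ?_⟩
    rw [cj_mul, cj_mul, e1, e2, e3]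
    calc u * (k * z) * k = u * (k * (z * k)) := by group
      _ = u * (k * (k * z)) := by rw [h.zk]
      _ = u * z := by rw [← mul_assoc k k, h.k2, one_mul]
  · obtain ⟨w, hw, e1, e2, e3⟩ := h.w1
    have f1 : cj w z = a * z * u := by
      have : z = a * (a * z) := by rw [← mul_assoc, h.a2, one_mul]
      conv_lhs => rw [this]
      rw [cj_mul, e2, e3]
    refine ⟨w * w, ?_, ?_, ?_, ?_⟩
    · rw [mul_assoc, hw, ← mul_assoc, hw, mul_assoc]
    · rw [← cj_cj, cj_mul w u z, e1, f1]
      calc cj w (a * (a * z * u)) = cj w (z * u) := by rw [← mul_assoc a, ← mul_assoc a, h.a2, one_mul]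
        _ = a * z * u * a := by rw [cj_mul, f1, e1]
        _ = a * z * (u * a) := by group
        _ = a * z * (a * u) := by rw [h.ua]
        _ = a * (z * a) * u := by group
        _ = a * (a * z) * u := by rw [h.za]
        _ = z * u := by rw [← mul_assoc a a, h.a2, one_mul]
        _ = u * z := h.zu
    · rw [← cj_cj, f1, cj_mul, e3, e1]
    · rw [← cj_cj, cj_mul w u a, e1, e2]
      calc cj w (a * (a * z)) = cj w z := by rw [← mul_assoc, h.a2, one_mul]
        _ = a * z * u := f1
        _ = a * (z * u) := by group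
        _ = a * (u * z) := by rw [h.zu]
        _ = a * u * z := by group
        _ = u * a * z := by rw [h.ua]
  · intro x hx hx2
    rcases h.rep x hx hx2 with h1 | ⟨g, hg, hm⟩
    · exact Or.inl h1
    · refine Or.inr ⟨g, hg, ?_⟩
      simp only [Set.mem_insert_iff, Set.mem_singleton_iff, mul_assoc, h.z2, mul_one] at hm ⊢
      tauto
  · exact h.b_conj
  · obtain ⟨w, hw, e1, e2, e3⟩ := h.w1
    have f1 : cj w z = a * z * u := by
      have : z = a * (a * z) := by rw [← mul_assoc, h.a2, one_mul]
      conv_lhs => rw [this]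
      rw [cj_mul, e2, e3]
    refine ⟨w * w, ?_, ?_⟩
    · rw [mul_assoc, hw, ← mul_assoc, hw, mul_assoc]
    · rw [← cj_cj, f1, cj_mul, e3, e1]
  · obtain ⟨g, hg, e⟩ := h.ua_conj
    refine ⟨g * k, ?_, ?_⟩
    · rw [mul_assoc, h.tk, ← mul_assoc, hg, mul_assoc]
    · rw [mul_assoc u z z, h.z2, mul_one, ← cj_cj, e]
      have hk1 : cj k a = a * z := by
        rw [cj, inv_eq_of_mul_eq_one_right h.k2, h.ka]
        calc a * k * z * k = a * (k * (z * k)) := by group
          _ = a * (k * (k * z)) := by rw [h.zk]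
          _ = a * z := by rw [← mul_assoc k k, h.k2, one_mul]
      rw [hk1]
      calc a * z = u * u * (z * a) := by rw [h.za, h.u2, one_mul]
        _ = u * (u * z) * a := by group
        _ = u * (z * u) * a := by rw [h.zu]
        _ = u * z * (u * a) := by group
  · rw [mul_assoc u z z, h.z2, mul_one]; exact h.nu

end Hyp

end Cfsg.Agent.TwoTimesSym
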