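import Cfsg.Agent.TwoTimesSym.Basic

/-!
The orbit of `t` under the normalisers of `T` and of `⟨t, u, z, a⟩`, and the parity conditions given by
the transfer into `T`.
-/

set_option autoImplicit false

namespace Cfsg.Agent.TwoTimesSym

open Subgroup

variable {G : Type*} [Group G]

/-- The orbit of `x` under conjugation by `H`. -/
def orb (H : Subgroup G) (x : G) : Set G := {y | ∃ g ∈ H, cj g x = y}

theorem mem_orb {H : Subgroup G} {x y : G} : y ∈ orb H x ↔ ∃ g ∈ H, cj g x = y := Iff.rfl

theorem self_mem_orb (H : Subgroup G) (x : G) : x ∈ orb H x := ⟨1, one_mem _, cj_by_one x⟩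

theorem orb_cj {H : Subgroup G} {x y g : G} (hy : y ∈ orb H x) (hg : g ∈ H) : cj g y ∈ orb H x := by
  obtain ⟨f, hf, rfl⟩ := hy
  exact ⟨f * g, mul_mem hf hg, (cj_cj f g x).symm⟩

/-- Orbit and stabiliser. -/
theorem card_eq_orb_mul [Finite G] (H : Subgroup G) (x : G) :
    Nat.card H = Nat.card (orb H x) * Nat.card (H ⊓ centralizer ({x} : Set G) : Subgroup G) := by
  classical
  choose w hw using fun y : orb H x => y.2
  let f : orb H x × (H ⊓ centralizer ({x} : Set G) : Subgroup G) → H := fun p =>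
    ⟨(p.2 : G) * w p.1, mul_mem (mem_inf.1 p.2.2).1 (hw p.1).1⟩
  have hfix : ∀ c : (H ⊓ centralizer ({x} : Set G) : Subgroup G), cj (c : G) x = x := fun c =>
    cj_eq_self.2 (mem_cent.1 (mem_inf.1 c.2).2)
  rw [← Nat.card_prod]
  refine (Nat.card_congr (Equiv.ofBijective f ⟨?_, ?_⟩)).symm
  · rintro ⟨y, c⟩ ⟨y', c'⟩ e
    have e' : (c : G) * w y = (c' : G) * w y' := congrArg Subtype.val e
    have hy : y = y' := by
      apply Subtype.ext
      rw [← (hw y).2, ← (hw y').2]
      conv_lhs => rw [← hfix c, cj_cj, e', ← cj_cj, hfix c']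
    subst hy
    exact Prod.ext rfl (Subtype.ext (mul_right_cancel e'))
  · rintro ⟨g, hg⟩
    let y : orb H x := ⟨cj g x, g, hg, rfl⟩
    refine ⟨⟨y, ⟨g * (w y)⁻¹, mem_inf.2 ⟨mul_mem hg (inv_mem (hw y).1), ?_⟩⟩⟩, Subtype.ext (by simp [f])⟩
    rw [mem_cent, ← cj_eq_self, ← cj_cj]
    exact cj_inv_left (hw y).2

variable {t u z a k : G}

namespace Hyp

variable [Finite G] (h : Hyp t u z a k)
include h

omit [Finite G] in
theorem not_t_eq (e i j : Bool) (hne : (e, i, j) ≠ (true, false, false)) :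
    (TEl.cen e i j).ev t u z a k ≠ t := by
  intro he
  have := h.ev_inj.1 (he.trans (Frame.ev_t (t := t) (u := u) (z := z) (a := a) (k := k)).symm)
  simp [TEl.cen] at this hne
  simp [this] at hne

theorem not_conj_z : ¬ IsConj t z := by
  intro hc
  obtain ⟨g, hg⟩ := isConj_iff_cj.1 hc
  rw [← Frame.ev_z (t := t) (u := u) (z := z) (a := a) (k := k)] at hg
  obtain ⟨l, hl, hle⟩ := h.exists_nrm_cj hg
  rw [Frame.ev_z] at hle
  have : t = z := cj_injective l (hle.trans (h.cj_z hl).symm)
  exact h.not_t_eq false false true (by decide) (by rw [Frame.ev_z, this])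

omit [Finite G] in
theorem not_conj_one : ¬ IsConj t (1 : G) := fun hc => by
  obtain ⟨g, hg⟩ := isConj_iff_cj.1 hc
  exact h.t_ne_one (cj_injective g (hg.trans (cj_one g).symm))

theorem orb_L_subset {y : G} (hy : y ∈ orb (nrm (tG t u z a k)) t) :
    ∃ e i j, (TEl.cen e i j).ev t u z a k = y ∧ IsConj t y := by
  obtain ⟨l, hl, rfl⟩ := hy
  obtain ⟨e, i, j, he⟩ := h.cj_cen hl true false false
  rw [Frame.ev_t] at he
  exact ⟨e, i, j, he, isConj_cj l t⟩

theorem mem_orb_L {e i j : Bool} (hc : IsConj t ((TEl.cen e i j).ev t u z a k)) :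
    (TEl.cen e i j).ev t u z a k ∈ orb (nrm (tG t u z a k)) t := by
  obtain ⟨g, hg⟩ := isConj_iff_cj.1 hc
  exact h.exists_nrm_cj hg

theorem card_L : Nat.card (nrm (tG t u z a k)) = Nat.card (orb (nrm (tG t u z a k)) t) * 32 := by
  rw [card_eq_orb_mul (nrm (tG t u z a k)) t, inf_comm, h.cent_inf_nrm, h.card_T]

/-- The transfer into `T` followed by a linear form on the centre. -/
theorem parity (hno : ∀ K : Subgroup G, K.index ≠ 2) (f : TEl → Bool)
    (hlin : ∀ x y, f (x.mul y) = xor (f x) (f y)) (hz : f (TEl.cen false false true) = false)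
    (hsurj : ∃ x, f x = true) :
    Nat.card {p : Bool × Bool × Bool // f (TEl.cen p.1 p.2.1 p.2.2) = true ∧
      IsConj t ((TEl.cen p.1 p.2.1 p.2.2).ev t u z a k)} % 2 = 0 := by
  classical
  have F := h.toFrame
  have h1 : f TEl.one = false := by
    have h0 := hlin TEl.one TEl.one
    rw [show TEl.one.mul TEl.one = TEl.one from rfl] at h0
    simpa using h0
  set T := tG t u z a k
  let M : Subgroup G := F.evSub f h1 fun x y hx hy => by rw [hlin, hx, hy]; rfl
  have hMT : M ≤ T := by
    rintro _ ⟨x, -, rfl⟩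
    exact h.ev_mem x
  have hmemM : ∀ x : TEl, x.ev t u z a k ∈ M ↔ f x = false := by
    intro x
    refine ⟨?_, fun hx => ⟨x, hx, rfl⟩⟩
    rintro ⟨y, hy, he⟩
    rwa [← h.ev_inj.1 he]
  obtain ⟨x₀, hx₀⟩ := hsurj
  have hM : Nat.card T = 2 * Nat.card M := by
    have hidx : (M.subgroupOf T).index = 2 := by
      rw [Subgroup.index_eq_two_iff]
      refine ⟨⟨x₀.ev t u z a k, h.ev_mem x₀⟩, fun b => ?_⟩
      obtain ⟨y, hy⟩ := F.mem_T.1 b.2
      simp only [mem_subgroupOf, Subgroup.coe_mul]
      rw [← hy, ← F.ev_mul, hmemM, hmemM, hlin, hx₀]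
      cases f y <;> simp
    have := (M.subgroupOf T).card_mul_index
    rw [hidx, Nat.card_congr (subgroupOfEquivOfLe hMT).toEquiv] at this
    omega
  set U := {y : G | y ∈ conjIn t ((T : Set G) \ M) ∧ ¬ T ≤ centralizer ({y} : Set G)}
  have hU : 2 ∣ Nat.card U := by
    have := dvd_card_of_small_centralizer T U 4 1 (by rw [h.card_T]; norm_num) ?_ ?_
    · simpa using this
    · rintro g hg y ⟨⟨⟨hyT, hyM⟩, hyc⟩, hyn⟩
      have hyT' : g * y * g⁻¹ ∈ T := mul_mem (mul_mem hg hyT) (inv_mem hg)
      refine ⟨⟨⟨hyT', ?_⟩, hyc.trans (isConj_iff.2 ⟨g, rfl⟩)⟩, ?_⟩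
      · obtain ⟨Y, rfl⟩ := F.mem_T.1 hyT
        obtain ⟨Y', hY'⟩ := F.mem_T.1 hyT'
        obtain ⟨X, rfl⟩ := F.mem_T.1 hg
        rw [SetLike.mem_coe, ← hY', hmemM]
        rw [SetLike.mem_coe, hmemM] at hyM
        have he : Y'.mul X = X.mul Y := by
          apply h.ev_injective
          simp only [F.ev_mul, hY']
          group
        have := congrArg f he
        rw [hlin, hlin] at this
        cases hA : f Y' <;> cases hB : f X <;> cases hC : f Y <;> simp_all
      · intro hle
        apply hyn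
        intro w hw
        have h2 := mem_cent.1 (hle (mul_mem (mul_mem hg hw) (inv_mem hg)))
        rw [mem_cent]
        have h3 : g * (w * y) * g⁻¹ = g * (y * w) * g⁻¹ := by
          calc g * (w * y) * g⁻¹ = g * w * g⁻¹ * (g * y * g⁻¹) := by group
            _ = g * y * g⁻¹ * (g * w * g⁻¹) := h2
            _ = g * (y * w) * g⁻¹ := by group
        exact mul_left_cancel (mul_right_cancel h3)
    · rintro y ⟨-, hyn⟩
      have hlt : (T ⊓ centralizer ({y} : Set G)) < T := lt_of_le_of_ne inf_le_left fun e => hyn (by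
        intro w hw
        rw [← e] at hw
        exact (mem_inf.1 hw).2)
      have h2 := Set.ncard_lt_ncard (SetLike.coe_ssubset_coe.2 hlt) (Set.toFinite _)
      rw [← Nat.card_coe_set_eq, ← Nat.card_coe_set_eq] at h2
      calc Nat.card (T ⊓ centralizer ({y} : Set G) : Subgroup G) < Nat.card T := h2
        _ = 2 ^ (4 + 1) := by rw [h.card_T]; norm_num
  set A := {p : Bool × Bool × Bool // f (TEl.cen p.1 p.2.1 p.2.2) = true ∧
      IsConj t ((TEl.cen p.1 p.2.1 p.2.2).ev t u z a k)}
  set V := {y : G | y ∈ conjIn t ((T : Set G) \ M) ∧ T ≤ centralizer ({y} : Set G)}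
  have hV : Nat.card A = Nat.card V := by
    refine Nat.card_congr (Equiv.ofBijective (fun p => ⟨(TEl.cen p.1.1 p.1.2.1 p.1.2.2).ev t u z a k,
      ⟨⟨h.ev_mem _, fun hm => by
        rw [SetLike.mem_coe, hmemM, p.2.1] at hm
        exact absurd hm (by decide)⟩, p.2.2⟩, h.cen_le_cent _ _ _⟩) ⟨?_, ?_⟩)
    · intro p q e
      have := h.ev_inj.1 (congrArg Subtype.val e)
      simp only [TEl.cen, TEl.mk.injEq, Prod.mk.injEq, true_and] at this
      exact Subtype.ext (Prod.ext this.1 (Prod.ext this.2.1 this.2.2))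
    · rintro ⟨y, ⟨⟨hyT, hyM⟩, hyc⟩, hyT'⟩
      obtain ⟨e, i, j, he⟩ := h.center_T hyT (mem_cent.1 (hyT' h.a_mem)).symm
        (mem_cent.1 (hyT' h.k_mem)).symm
      refine ⟨⟨(e, i, j), ?_, by rw [he]; exact hyc⟩, Subtype.ext he⟩
      rw [← he, SetLike.mem_coe, hmemM] at hyM
      simpa using hyM
  have hsplit : Nat.card (conjIn t ((T : Set G) \ M)) = Nat.card U + Nat.card V := by
    simp only [Nat.card_coe_set_eq]
    have : Disjoint U V := Set.disjoint_left.2 fun y hy hy' => hy.2 hy'.2
    rw [← Set.ncard_union_eq this (Set.toFinite _) (Set.toFinite _)]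
    congr 1
    ext y
    simp only [U, V, Set.mem_union, Set.mem_setOf_eq]
    tauto
  by_contra hodd
  obtain ⟨m, hm, hc⟩ := h.card
  obtain ⟨K, hK⟩ := index_two_of_diff T M t h.t2 hMT hM
    (Nat.card (conjIn t ((T : Set G) \ M)) * m) (by rw [hc, h.card_T]; ring) (by
      rw [hsplit, ← hV, Nat.mul_mod, Nat.add_mod]
      obtain ⟨c, hc2⟩ := hU
      rw [hc2, Nat.odd_iff.1 hm]
      omega)
  exact hno K hK

omit h [Finite G] in
/-- Decidable count of the triples. -/
theorem card_triples (P : Bool × Bool × Bool → Prop) [DecidablePred P] :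
    Nat.card {p // P p} = (if P (true, true, true) then 1 else 0) + (if P (true, true, false) then 1 else 0) +
      (if P (true, false, true) then 1 else 0) + (if P (true, false, false) then 1 else 0) +
      (if P (false, true, true) then 1 else 0) + (if P (false, true, false) then 1 else 0) +
      (if P (false, false, true) then 1 else 0) + (if P (false, false, false) then 1 else 0) := by
  rw [Nat.card_eq_fintype_card, Fintype.card_subtype, Finset.card_filter, Fintype.sum_prod_type]
  simp only [Fintype.sum_prod_type, Fintype.sum_bool]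
  omega

theorem parity_t (hno : ∀ K : Subgroup G, K.index ≠ 2) :
    IsConj t (t * z) ↔ (IsConj t (t * u) ↔ IsConj t (t * (u * z))) := by
  classical
  have h0 := h.parity hno (fun x => x.e) (fun _ _ => rfl) rfl ⟨TEl.cen true false false, rfl⟩
  rw [card_triples] at h0
  have e1 : (TEl.cen true true true).ev t u z a k = t * (u * z) := by simp [Frame.ev_cen, pz]
  have e2 : (TEl.cen true true false).ev t u z a k = t * u := by simp [Frame.ev_cen, pz]
  have e3 : (TEl.cen true false true).ev t u z a k = t * z := by simp [Frame.ev_cen, pz]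
  have hf : ∀ e i j, (TEl.cen e i j).e = e := fun _ _ _ => rfl
  simp only [hf, Bool.false_eq_true, false_and, if_false, true_and, e1, e2, e3, Frame.ev_t, IsConj.refl, if_true] at h0
  by_cases p1 : IsConj t (t * (u * z)) <;> by_cases p2 : IsConj t (t * u) <;>
    by_cases p3 : IsConj t (t * z) <;> simp_all

theorem parity_u (hno : ∀ K : Subgroup G, K.index ≠ 2) :
    (IsConj t u ↔ IsConj t (u * z)) ↔ (IsConj t (t * u) ↔ IsConj t (t * (u * z))) := by
  classical
  have h0 := h.parity hno (fun x => x.c.1) (fun x y => by simp [TEl.mul, zadd]) rfl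
    ⟨TEl.cen false true false, rfl⟩
  rw [card_triples] at h0
  have e1 : (TEl.cen true true true).ev t u z a k = t * (u * z) := by simp [Frame.ev_cen, pz]
  have e2 : (TEl.cen true true false).ev t u z a k = t * u := by simp [Frame.ev_cen, pz]
  have e3 : (TEl.cen false true true).ev t u z a k = u * z := by simp [Frame.ev_cen, pz]
  have hf : ∀ e i j, (TEl.cen e i j).c.1 = i := fun _ _ _ => rfl
  simp only [hf, Bool.false_eq_true, false_and, if_false, true_and, e1, e2, e3, Frame.ev_u] at h0
  by_cases p1 : IsConj t (t * (u * z)) <;> by_cases p2 : IsConj t (t * u) <;>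
    by_cases p3 : IsConj t u <;> by_cases p4 : IsConj t (u * z) <;> simp_all

end Hyp

end Cfsg.Agent.TwoTimesSym
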