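import Cfsg.Agent.TwoTimesSym.Side

/-!
Four translation classes of conjugates of `t` in `Q`, not all fixed, make `N(Q)` large.
-/

set_option autoImplicit false

namespace Cfsg.Agent.TwoTimesSym

open Subgroup

variable {G : Type*} [Group G]

theorem cj_mem_cjS {g x : G} {P : Subgroup G} (hx : x ∈ P) : cj g x ∈ cjS g P :=
  mem_cjS.2 ⟨x, hx, rfl⟩

theorem cjS_cjS (g f : G) (P : Subgroup G) : cjS f (cjS g P) = cjS (g * f) P := by
  ext x
  simp only [mem_cjS]
  constructor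
  · rintro ⟨_, ⟨y, hy, rfl⟩, rfl⟩; exact ⟨y, hy, (cj_cj g f y).symm⟩
  · rintro ⟨y, hy, rfl⟩; exact ⟨cj g y, ⟨y, hy, rfl⟩, cj_cj g f y⟩

theorem cjS_one (P : Subgroup G) : cjS 1 P = P := by
  ext x; simp [mem_cjS]

theorem nrm_cjS [Finite G] (g : G) (K : Subgroup G) : nrm (cjS g K) = cjS g (nrm K) := by
  ext n
  constructor
  · intro hn
    refine mem_cjS.2 ⟨g * n * g⁻¹, nrm_iff.2 fun x hx => ?_, by simp [cj, mul_assoc]⟩
    obtain ⟨y, hy, he⟩ := mem_cjS.1 (nrm_iff.1 hn _ (cj_mem_cjS (g := g) hx))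
    have : cj (g * n * g⁻¹) x = y := by
      rw [← cj_cj, ← cj_cj, ← he, cj_cj, mul_inv_cancel, cj_by_one]
    rw [this]; exact hy
  · intro hn
    obtain ⟨m, hm, rfl⟩ := mem_cjS.1 hn
    refine nrm_iff.2 fun x hx => ?_
    obtain ⟨y, hy, rfl⟩ := mem_cjS.1 hx
    refine mem_cjS.2 ⟨cj m y, nrm_iff.1 hm y hy, ?_⟩
    rw [cj_cj, cj_cj, show g * cj g m = m * g by simp [cj, mul_assoc]]

theorem cent_cjS (g x : G) :
    centralizer ({cj g x} : Set G) = cjS g (centralizer ({x} : Set G)) := by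
  ext n
  rw [mem_cent, mem_cjS]
  constructor
  · intro hn
    refine ⟨g * n * g⁻¹, mem_cent.2 (cj_injective g ?_), by simp [cj, mul_assoc]⟩
    have e : cj g (g * n * g⁻¹) = n := by simp [cj, mul_assoc]
    generalize g * n * g⁻¹ = w at e ⊢
    rw [cj_mul, cj_mul, e]
    exact hn
  · rintro ⟨m, hm, rfl⟩
    rw [← cj_mul, ← cj_mul, mem_cent.1 hm]

/-- The orbit of a subgroup under conjugation by `H`. -/
def orbS (H K : Subgroup G) : Set (Subgroup G) := {K' | ∃ g ∈ H, cjS g K = K'}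

theorem card_eq_orbS_mul [Finite G] (H K : Subgroup G) (hK : nrm K ≤ H) :
    Nat.card H = Nat.card (orbS H K) * Nat.card (nrm K) := by
  classical
  choose w hw using fun y : orbS H K => y.2
  let f : orbS H K × nrm K → H := fun p => ⟨(p.2 : G) * w p.1, mul_mem (hK p.2.2) (hw p.1).1⟩
  have hfix : ∀ c : nrm K, cjS (c : G) K = K := fun c => Subgroup.eq_of_le_of_card_ge (fun x hx => by
    obtain ⟨y, hy, rfl⟩ := mem_cjS.1 hx
    exact nrm_iff.1 c.2 y hy) (by rw [card_cjS])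
  rw [← Nat.card_prod]
  refine (Nat.card_congr (Equiv.ofBijective f ⟨?_, ?_⟩)).symm
  · rintro ⟨y, c⟩ ⟨y', c'⟩ e
    have e' : (c : G) * w y = (c' : G) * w y' := congrArg Subtype.val e
    have hy : y = y' := by
      apply Subtype.ext
      rw [← (hw y).2, ← (hw y').2]
      conv_lhs => rw [← hfix c, cjS_cjS, e', ← cjS_cjS, hfix c']
    subst hy
    exact Prod.ext rfl (Subtype.ext (mul_right_cancel e'))
  · rintro ⟨g, hg⟩
    let y : orbS H K := ⟨cjS g K, g, hg, rfl⟩
    refine ⟨⟨y, ⟨g * (w y)⁻¹, ?_⟩⟩, Subtype.ext (by simp [f])⟩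
    have he : cjS (g * (w y)⁻¹) K = K := by
      rw [← cjS_cjS, show cjS g K = cjS (w y) K from (hw y).2.symm, cjS_cjS, mul_inv_cancel, cjS_one]
    refine nrm_iff.2 fun x hx => ?_
    exact he ▸ cj_mem_cjS hx

variable {t u z a k : G}

/-- The subgroup `⟨y⟩ × A`. -/
abbrev yG (y u z a : G) : Subgroup G := closure ({y, u, z, a} : Set G)

namespace Hyp

variable [Finite G] (h : Hyp t u z a k) (h4 : Four t u z)
include h h4

theorem card_A : Nat.card (aG u z a) = 8 := by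
  let e : Bool × Bool × Bool ≃ aG u z a :=
    Equiv.ofBijective (fun p => ⟨(⟨false, p.1, false, (p.2.1, p.2.2)⟩ : TEl).ev t u z a k,
      h.mem_A.2 ⟨p.1, p.2.1, p.2.2, rfl⟩⟩)
      ⟨fun p q e => by
        have := h.ev_inj.1 (congrArg Subtype.val e)
        simp only [TEl.mk.injEq, Prod.mk.injEq, true_and] at this
        exact Prod.ext this.1 (Prod.ext this.2.1 this.2.2), fun g => by
        obtain ⟨p, i, j, he⟩ := h.mem_A.1 g.2
        exact ⟨(p, i, j), Subtype.ext he⟩⟩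
  rw [← Nat.card_congr e, Nat.card_eq_fintype_card]
  rfl

theorem A_sq {v : G} (hv : v ∈ aG u z a) : v * v = 1 := h.E1_sq (h.A_le_E1 hv)

theorem QC_mul {y v : G} (hy : y ∈ qG t u z a) (hyc : IsConj t y) (hv : v ∈ aG u z a) :
    y * v ∈ qG t u z a ∧ IsConj t (y * v) := by
  refine ⟨mul_mem hy (h.E1_le_Q (h.A_le_E1 hv)), ?_⟩
  have hy2 : y * y = 1 := by
    obtain ⟨g, rfl⟩ := isConj_iff_cj.1 hyc
    rw [← cj_mul, h.t2, cj_one]
  rw [h.chi_mul h4 hy2 (h.A_sq h4 hv) (h.Q_comm_A h4 hy hv)]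
  simp only [hyc, h.A_not_conj h4 hv, iff_false, not_true_eq_false, not_false_eq_true]

theorem mem_yG {y g : G} (hy : y ∈ qG t u z a) (hy2 : y * y = 1) :
    g ∈ yG y u z a ↔ g ∈ aG u z a ∨ ∃ v ∈ aG u z a, g = y * v := by
  constructor
  · intro hg
    induction hg using closure_induction with
    | mem x hx =>
      rcases hx with rfl | hx
      · exact Or.inr ⟨1, one_mem _, (mul_one _).symm⟩
      · exact Or.inl (subset_closure hx)
    | one => exact Or.inl (one_mem _)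
    | mul x x' _ _ e1 e2 =>
      rcases e1 with e1 | ⟨v, hv, rfl⟩ <;> rcases e2 with e2 | ⟨v', hv', rfl⟩
      · exact Or.inl (mul_mem e1 e2)
      · exact Or.inr ⟨x * v', mul_mem e1 hv', by rw [← mul_assoc, ← h.Q_comm_A h4 hy e1, mul_assoc]⟩
      · exact Or.inr ⟨v * x', mul_mem hv e2, mul_assoc _ _ _⟩
      · refine Or.inl ?_
        rw [show y * v * (y * v') = y * (v * y) * v' by group, ← h.Q_comm_A h4 hy hv, ← mul_assoc y y, hy2,
          one_mul]
        exact mul_mem hv hv'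
    | inv x _ e1 =>
      rcases e1 with e1 | ⟨v, hv, rfl⟩
      · exact Or.inl (inv_mem e1)
      · refine Or.inr ⟨v, hv, ?_⟩
        rw [mul_inv_rev, inv_eq_of_mul_eq_one_right hy2, inv_eq_of_mul_eq_one_right (h.A_sq h4 hv)]
        exact (h.Q_comm_A h4 hy hv).symm
  · rintro (hg | ⟨v, hv, rfl⟩)
    · exact closure_mono (Set.subset_insert _ _) hg
    · exact mul_mem (subset_closure (Set.mem_insert _ _)) (closure_mono (Set.subset_insert _ _) hv)

theorem yG_props {y : G} (hy : y ∈ qG t u z a) (hyc : IsConj t y)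
    (h2 : Nat.card (nrm (eG t u z k)) = Nat.card (nrm (eG t u z a))) :
    Nat.card (nrm (yG y u z a)) = Nat.card (nrm (eG t u z a)) ∧
      nrm (yG y u z a) ≤ nrm (qG t u z a) ∨ Nat.card (orb (qG t u z a) t) ≠
        Nat.card (orb (nrm (eG t u z a)) t) := by
  classical
  refine or_iff_not_imp_right.2 fun ho => ?_
  rw [not_not] at ho
  have hy2 : y * y = 1 := by
    obtain ⟨g, rfl⟩ := isConj_iff_cj.1 hyc
    rw [← cj_mul, h.t2, cj_one]
  have hyA : y ∉ aG u z a := fun hm => h.A_not_conj h4 hm hyc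
  have hsq : ∀ x ∈ yG y u z a, x * x = 1 := by
    intro x hx
    rcases (h.mem_yG h4 hy hy2).1 hx with hx | ⟨v, hv, rfl⟩
    · exact h.A_sq h4 hx
    · rw [show y * v * (y * v) = y * (v * y) * v by group, ← h.Q_comm_A h4 hy hv, ← mul_assoc y y, hy2,
        one_mul, h.A_sq h4 hv]
  have hcard : Nat.card (yG y u z a) = 16 := by
    have hle : aG u z a ≤ yG y u z a := closure_mono (Set.subset_insert _ _)
    have hidx : ((aG u z a).subgroupOf (yG y u z a)).index = 2 := by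
      rw [Subgroup.index_eq_two_iff]
      refine ⟨⟨y, subset_closure (Set.mem_insert _ _)⟩, fun b => ?_⟩
      simp only [mem_subgroupOf, Subgroup.coe_mul]
      rcases (h.mem_yG h4 hy hy2).1 b.2 with hb | ⟨v, hv, hb⟩
      · exact Or.inr ⟨hb, fun hm => hyA ((mul_mem_cancel_left hb).1 hm)⟩
      · refine Or.inl ⟨?_, fun hm => hyA ((mul_mem_cancel_right hv).1 (hb ▸ hm))⟩
        rw [hb, mul_assoc, ← h.Q_comm_A h4 hy hv, ← mul_assoc, hy2, one_mul]
        exact hv
    have := ((aG u z a).subgroupOf (yG y u z a)).card_mul_index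
    rw [hidx, Nat.card_congr (subgroupOfEquivOfLe hle).toEquiv, h.card_A h4] at this
    omega
  have hP : IsPGroup 2 (yG y u z a) := IsPGroup.of_card (n := 4) (by rw [hcard]; norm_num)
  have hPy : yG y u z a ≤ centralizer ({y} : Set G) := by
    intro x hx
    rw [mem_cent]
    rcases (h.mem_yG h4 hy hy2).1 hx with hx | ⟨v, hv, rfl⟩
    · exact (h.Q_comm_A h4 hy hx).symm
    · rw [mul_assoc, ← h.Q_comm_A h4 hy hv]
  obtain ⟨g, hgy, hgP⟩ := h.transport hyc hP hPy
  have hEy : cjS g (yG y u z a) = eG t u z a ∨ cjS g (yG y u z a) = eG t u z k := by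
    refine h.elem_sixteen (fun x hx => ?_) (by rw [card_cjS, hcard]) fun x hx => ?_
    · obtain ⟨w, hw, rfl⟩ := mem_cjS.1 hx
      exact hgP w hw
    · obtain ⟨w, hw, rfl⟩ := mem_cjS.1 hx
      rw [← cj_mul, hsq w hw, cj_one]
  have hnum : Nat.card (nrm (yG y u z a)) = Nat.card (nrm (eG t u z a)) ∧
      Nat.card (nrm (yG y u z a) ⊓ centralizer ({y} : Set G) : Subgroup G) = 96 ∧
      ∀ x : G, x * y = y * x → x * u = u * x → x * z = z * x → x * a = a * x → x ∈ yG y u z a := by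
    have hg' : cjS g (nrm (yG y u z a) ⊓ centralizer ({y} : Set G)) =
        nrm (cjS g (yG y u z a)) ⊓ centralizer ({t} : Set G) := by
      rw [show cjS g (nrm (yG y u z a) ⊓ centralizer ({y} : Set G)) =
        cjS g (nrm (yG y u z a)) ⊓ cjS g (centralizer ({y} : Set G)) from
          Subgroup.map_inf _ _ _ (MulAut.conj g⁻¹).injective, ← nrm_cjS, ← cent_cjS, hgy]
    have hc : ∀ x : G, x * y = y * x → x * u = u * x → x * z = z * x → x * a = a * x →
        ∀ v ∈ cjS g (yG y u z a), cj g x * v = v * cj g x := by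
      intro x e0 e1 e2 e3 v hv
      obtain ⟨w, hw, rfl⟩ := mem_cjS.1 hv
      rw [← cj_mul, ← cj_mul]
      have hxw : x * w = w * x := by
        clear hv
        induction hw using closure_induction with
        | mem b hb => rcases hb with rfl | rfl | rfl | rfl <;> assumption
        | one => rw [mul_one, one_mul]
        | mul b b' _ _ f1 f2 => rw [← mul_assoc, f1, mul_assoc, f2, mul_assoc]
        | inv b _ f1 => exact (Commute.inv_right (a := x) (b := b) f1).eq
      rw [hxw]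
    have hback : ∀ x, cj g x ∈ cjS g (yG y u z a) → x ∈ yG y u z a := fun x hx => by
      obtain ⟨w, hw, e⟩ := mem_cjS.1 hx
      rwa [← cj_injective g e]
    rcases hEy with e | e
    · refine ⟨?_, ?_, fun x e0 e1 e2 e3 => hback x ?_⟩
      · rw [← card_cjS g, ← nrm_cjS, e]
      · rw [← card_cjS g, hg', e, h.card_N1C]
      · have hm := hc x e0 e1 e2 e3
        rw [e] at hm ⊢
        exact h.cent1 _ (hm t (subset_closure (.inl rfl))) (hm u (subset_closure (.inr (.inl rfl))))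
          (hm z (subset_closure (.inr (.inr (.inl rfl))))) (hm a (subset_closure (.inr (.inr (.inr rfl)))))
    · refine ⟨?_, ?_, fun x e0 e1 e2 e3 => hback x ?_⟩
      · rw [← card_cjS g, ← nrm_cjS, e, h2]
      · rw [← card_cjS g, hg', e, ← h.ne2]
        exact Nat.card_congr (Equiv.subtypeEquivRight fun x => by rw [mem_inf, mem_cent, nrm_iff, and_comm])
      · have hm := hc x e0 e1 e2 e3
        rw [e] at hm ⊢
        exact h.cent2 _ (hm t (subset_closure (.inl rfl))) (hm u (subset_closure (.inr (.inl rfl))))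
          (hm z (subset_closure (.inr (.inr (.inl rfl))))) (hm k (subset_closure (.inr (.inr (.inr rfl)))))
  obtain ⟨hN, hS, hself⟩ := hnum
  refine ⟨hN, ?_⟩
  set N := nrm (yG y u z a)
  have hNA : ∀ n ∈ N, ∀ v ∈ aG u z a, cj n v ∈ aG u z a := by
    intro n hn v hv
    rcases (h.mem_yG h4 hy hy2).1 (nrm_iff.1 hn v ((h.mem_yG h4 hy hy2).2 (Or.inl hv))) with e | ⟨v', hv', e⟩
    · exact e
    · exfalso
      have := (h.QC_mul h4 hy hyc hv').2
      rw [← e] at this
      exact h.A_not_conj h4 hv (this.trans (isConj_cj n v).symm)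
  set K := N ⊓ centralizer ({u, z, a} : Set G)
  have hQK : qG t u z a ≤ K := by
    intro x hx
    refine mem_inf.2 ⟨nrm_iff.2 fun b hb => ?_, (mem_inf.1 hx).2⟩
    rcases (h.mem_yG h4 hy hy2).1 hb with hb | ⟨v, hv, rfl⟩
    · rw [h.Q_fix_A hx hb]; exact (h.mem_yG h4 hy hy2).2 (Or.inl hb)
    · obtain ⟨c, hc, hce⟩ := h.Q_comm h4 hy hx
      have : cj x y = y * c := by rw [cj, mul_assoc, hce]; group
      rw [cj_mul, this, h.Q_fix_A hx hv, mul_assoc]
      exact (h.mem_yG h4 hy hy2).2 (Or.inr ⟨c * v, mul_mem hc hv, rfl⟩)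
  have hcK : Nat.card K ≤ Nat.card (qG t u z a) := by
    have hstab : Nat.card (K ⊓ centralizer ({y} : Set G) : Subgroup G) ≤ 16 := by
      rw [← hcard]
      refine Subgroup.card_le_of_le fun x hx => ?_
      obtain ⟨hxK, hxy⟩ := mem_inf.1 hx
      have hxA := (mem_inf.1 hxK).2
      rw [mem_centralizer_iff] at hxA
      exact hself x (mem_cent.1 hxy) (hxA u (by simp)).symm (hxA z (by simp)).symm (hxA a (by simp)).symm
    have horb : Nat.card (orb K y) ≤ Nat.card (orb N y) :=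
      Nat.card_mono (Set.toFinite _) (fun x ⟨m, hm, e⟩ => ⟨m, (mem_inf.1 hm).1, e⟩)
    have e1 := card_eq_orb_mul N y
    rw [hN, hS, h.card_N1] at e1
    have e2 := card_eq_orb_mul K y
    rw [h.card_Q, ho]
    rw [e2]
    calc _ ≤ Nat.card (orb N y) * 16 := Nat.mul_le_mul horb hstab
      _ = _ := by
        have : Nat.card (orb N y) = Nat.card (orb (nrm (eG t u z a)) t) := by omega
        rw [this]
  have hKQ : qG t u z a = K := Subgroup.eq_of_le_of_card_ge hQK hcK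
  intro n hn
  refine nrm_iff.2 fun x hx => ?_
  rw [hKQ] at hx ⊢
  obtain ⟨hxN, hxA⟩ := mem_inf.1 hx
  refine mem_inf.2 ⟨mul_mem (mul_mem (inv_mem hn) hxN) hn, ?_⟩
  rw [mem_centralizer_iff] at hxA ⊢
  have hfix : ∀ v ∈ aG u z a, v * x = x * v := by
    intro v hv
    induction hv using closure_induction with
    | mem b hb => exact hxA b hb
    | one => rw [mul_one, one_mul]
    | mul b b' _ _ f1 f2 => rw [mul_assoc, f2, ← mul_assoc, f1, mul_assoc]
    | inv b _ f1 => exact (Commute.inv_left (a := b) (b := x) f1).eq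
  intro b hb
  have h1 := congrArg (cj n) (hfix _ (hNA n⁻¹ (inv_mem hn) b (subset_closure hb)))
  rwa [cj_mul, cj_mul, cj_cj, inv_mul_cancel, cj_by_one] at h1

/-- The conclusion: `N(Q)` has order divisible by `4 |N(E)|`. -/
theorem psi (h2 : Nat.card (nrm (eG t u z k)) = Nat.card (nrm (eG t u z a)))
    (ho : Nat.card (orb (qG t u z a) t) = Nat.card (orb (nrm (eG t u z a)) t))
    {V : Set G} (hV : ∀ y ∈ qG t u z a, IsConj t y → cj y t ∈ V) (hV4 : Nat.card V ≤ 4)
    {y1 y2 y3 g2 g3 : G} (hy1 : y1 ∈ qG t u z a) (hy1c : IsConj t y1)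
    (hg2 : g2 ∈ nrm (eG t u z a)) (hg3 : g3 ∈ nrm (eG t u z a))
    (e2 : cj g2 y1 = y2) (e3 : cj g3 y1 = y3)
    (d1 : cj y1 t ≠ t) (d2 : cj y2 t ≠ t) (d3 : cj y3 t ≠ t)
    (d12 : cj y1 t ≠ cj y2 t) (d13 : cj y1 t ≠ cj y3 t) (d23 : cj y2 t ≠ cj y3 t) :
    4 * Nat.card (nrm (eG t u z a)) ∣ Nat.card G := by
  classical
  set Q := qG t u z a
  set N := nrm Q
  set 𝔈 := {K : Subgroup G | ∃ y ∈ Q, IsConj t y ∧ K = yG y u z a}
  have htQ : t ∈ Q := h.E1_le_Q (subset_closure (.inl rfl))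
  have hprops : ∀ y ∈ Q, IsConj t y → Nat.card (nrm (yG y u z a)) = Nat.card (nrm (eG t u z a)) ∧
      nrm (yG y u z a) ≤ N := fun y hy hyc => (h.yG_props h4 hy hyc h2).resolve_right (not_not.2 ho)
  have htE : yG t u z a = eG t u z a := rfl
  have hN1 : nrm (eG t u z a) ≤ N := (hprops t htQ (IsConj.refl t)).2
  have hNA : ∀ n ∈ N, ∀ v ∈ aG u z a, cj n v ∈ aG u z a := by
    intro n hn v hv
    have hvQ : cj n v ∈ Q := nrm_iff.1 hn v (h.E1_le_Q (h.A_le_E1 hv))
    refine h.mem_A_of_not_conj h4 ?_ fun hc => h.A_not_conj h4 hv (hc.trans (isConj_cj n v).symm)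
    rw [← h.Q_inf_cent]
    refine mem_inf.2 ⟨hvQ, mem_cent.2 ?_⟩
    have h' := h.Q_comm_A h4 (nrm_iff.1 (inv_mem hn) t htQ) hv
    have := congrArg (cj n) h'
    rw [cj_mul, cj_mul, cj_cj, inv_mul_cancel, cj_by_one] at this
    exact this.symm
  have hmap : ∀ n ∈ N, ∀ y ∈ Q, IsConj t y → cj n y ∈ Q ∧ IsConj t (cj n y) ∧
      cjS n (yG y u z a) = yG (cj n y) u z a := by
    intro n hn y hy hyc
    have hy2 : y * y = 1 := by
      obtain ⟨g, rfl⟩ := isConj_iff_cj.1 hyc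
      rw [← cj_mul, h.t2, cj_one]
    have hyn := nrm_iff.1 hn y hy
    have hyn2 : cj n y * cj n y = 1 := by rw [← cj_mul, hy2, cj_one]
    refine ⟨hyn, hyc.trans (isConj_cj n y), ?_⟩
    ext x
    rw [mem_cjS, h.mem_yG h4 hyn hyn2]
    constructor
    · rintro ⟨w, hw, rfl⟩
      rcases (h.mem_yG h4 hy hy2).1 hw with hw | ⟨v, hv, rfl⟩
      · exact Or.inl (hNA n hn w hw)
      · exact Or.inr ⟨cj n v, hNA n hn v hv, cj_mul n y v⟩
    · rintro (hx | ⟨v, hv, rfl⟩)
      · exact ⟨cj n⁻¹ x, (h.mem_yG h4 hy hy2).2 (Or.inl (hNA _ (inv_mem hn) x hx)),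
          by rw [cj_cj, inv_mul_cancel, cj_by_one]⟩
      · exact ⟨y * cj n⁻¹ v, (h.mem_yG h4 hy hy2).2 (Or.inr ⟨_, hNA _ (inv_mem hn) v hv, rfl⟩),
          by rw [cj_mul, cj_cj, inv_mul_cancel, cj_by_one]⟩
  have horbsub : ∀ y ∈ Q, IsConj t y → orbS N (yG y u z a) ⊆ 𝔈 := by
    rintro y hy hyc K ⟨n, hn, rfl⟩
    obtain ⟨p1, p2, p3⟩ := hmap n hn y hy hyc
    exact ⟨_, p1, p2, p3⟩
  have hsize : ∀ y ∈ Q, IsConj t y →
      Nat.card (orbS N (yG y u z a)) * Nat.card (nrm (eG t u z a)) = Nat.card N := fun y hy hyc => by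
    rw [card_eq_orbS_mul N (yG y u z a) (hprops y hy hyc).2, (hprops y hy hyc).1]
  -- the translation of a member
  have htr : ∀ y ∈ Q, IsConj t y → ∀ y' ∈ Q, IsConj t y' → yG y u z a = yG y' u z a → cj y t = cj y' t := by
    intro y hy hyc y' hy' hyc' e
    have hy2 : y * y = 1 := by
      obtain ⟨g, rfl⟩ := isConj_iff_cj.1 hyc
      rw [← cj_mul, h.t2, cj_one]
    have hm : y' ∈ yG y u z a := by rw [e]; exact subset_closure (Set.mem_insert _ _)
    rcases (h.mem_yG h4 hy hy2).1 hm with hA | ⟨v, hv, rfl⟩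
    · exact absurd hyc' (h.A_not_conj h4 hA)
    · rw [← cj_cj]
      exact (cj_eq_self.2 (h.E1_comm (h.A_le_E1 hv)
        (nrm_iff.1 (mem_qG.1 hy).1 t (subset_closure (.inl rfl))))).symm
  have h𝔈 : Nat.card 𝔈 ≤ 4 := by
    refine le_trans ?_ hV4
    choose f hf1 hf2 hf3 using fun K : 𝔈 => K.2
    refine Nat.card_le_card_of_injective (fun K : 𝔈 => (⟨cj (f K) t, hV _ (hf1 K) (hf2 K)⟩ : V)) ?_
    intro K K' e
    have e' : cj (f K) t = cj (f K') t := congrArg Subtype.val e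
    apply Subtype.ext
    rw [hf3 K, hf3 K']
    obtain ⟨v, hv⟩ : ∃ v, f K' = f K * v := ⟨(f K)⁻¹ * f K', by group⟩
    have hvQ : v ∈ Q := by
      have := mul_mem (inv_mem (hf1 K)) (hf1 K')
      rwa [hv, inv_mul_cancel_left] at this
    have hK2 : f K * f K = 1 := by
      obtain ⟨g, hg⟩ := isConj_iff_cj.1 (hf2 K)
      rw [← hg, ← cj_mul, h.t2, cj_one]
    have hvE : v ∈ eG t u z a := by
      rw [← h.Q_inf_cent]
      refine mem_inf.2 ⟨hvQ, mem_cent.2 ?_⟩
      obtain ⟨c, hc, hce⟩ := h.Q_translation h4 (hf1 K)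
      rw [hv, ← cj_cj, hce, cj_mul, h.Q_fix_A hvQ hc] at e'
      exact cj_eq_self.1 (mul_right_cancel e').symm
    have hvA : v ∈ aG u z a := by
      obtain ⟨⟨e1, p, q, i, j⟩, hX, hXe⟩ := h.toFrame.mem_E1.1 hvE
      obtain rfl : q = false := hX
      cases e1 with
      | false => exact h.mem_A.2 ⟨p, i, j, hXe⟩
      | true =>
        exfalso
        have hA : (⟨false, p, false, (i, j)⟩ : TEl).ev t u z a k ∈ aG u z a := h.mem_A.2 ⟨p, i, j, rfl⟩
        have hte : v = t * (⟨false, p, false, (i, j)⟩ : TEl).ev t u z a k := by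
          rw [← hXe]
          nth_rw 2 [← Frame.ev_t (t := t) (u := u) (z := z) (a := a) (k := k)]
          rw [← h.toFrame.ev_mul]
          congr 1
          clear hXe hA
          revert p i j
          decide
        have hft : IsConj t (f K * t) := by
          have := (h.QC_mul h4 (hf1 K') (hf2 K') hA).2
          rwa [hv, hte, mul_assoc, mul_assoc, h.A_sq h4 hA, mul_one] at this
        have hft2 : f K * t * (f K * t) = 1 := by
          obtain ⟨g, hg⟩ := isConj_iff_cj.1 hft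
          rw [← hg, ← cj_mul, h.t2, cj_one]
        have hcomm : f K * t = t * f K := by
          calc f K * t = (f K * t)⁻¹ := eq_inv_of_mul_eq_one_left hft2
            _ = t * f K := by
              rw [mul_inv_rev, inv_eq_of_mul_eq_one_right h.t2, inv_eq_of_mul_eq_one_right hK2]
        exact ((h.chi_mul h4 hK2 h.t2 hcomm).1 hft) ⟨fun _ => IsConj.refl t, fun _ => hf2 K⟩
    rw [hv]
    ext x
    have h22 : f K * v * (f K * v) = 1 := by
      obtain ⟨g, hg⟩ := isConj_iff_cj.1 (hf2 K')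
      rw [← hv, ← hg, ← cj_mul, h.t2, cj_one]
    rw [h.mem_yG h4 (hf1 K) hK2, h.mem_yG h4 (mul_mem (hf1 K) hvQ) h22]
    constructor
    · rintro (hx | ⟨c, hc, rfl⟩)
      · exact Or.inl hx
      · exact Or.inr ⟨v⁻¹ * c, mul_mem (inv_mem hvA) hc, by group⟩
    · rintro (hx | ⟨c, hc, rfl⟩)
      · exact Or.inl hx
      · exact Or.inr ⟨v * c, mul_mem hvA hc, by group⟩
  have hy2m := hN1 hg2
  have hy3m := hN1 hg3
  obtain ⟨q2, c2, r2⟩ := hmap g2 hy2m y1 hy1 hy1c
  obtain ⟨q3, c3, r3⟩ := hmap g3 hy3m y1 hy1 hy1c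
  rw [e2] at q2 c2 r2
  rw [e3] at q3 c3 r3
  set O := orbS N (yG y1 u z a)
  have htt : cj t t = t := cj_eq_self.2 rfl
  have hne : ∀ y ∈ Q, IsConj t y → cj y t ≠ t → yG y u z a ≠ yG t u z a := fun y hy hyc d e =>
    d ((htr y hy hyc t htQ (IsConj.refl t) e).trans htt)
  have hthree : ({yG y1 u z a, yG y2 u z a, yG y3 u z a} : Set (Subgroup G)) ⊆ O := by
    rintro K (rfl | rfl | rfl)
    exacts [⟨1, one_mem _, cjS_one _⟩, ⟨g2, hy2m, r2⟩, ⟨g3, hy3m, r3⟩]
  have hc3' : ({yG y1 u z a, yG y2 u z a, yG y3 u z a} : Set (Subgroup G)).ncard = 3 := by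
    rw [Set.ncard_insert_of_notMem, Set.ncard_pair]
    · exact fun e => d23 (htr y2 q2 c2 y3 q3 c3 e)
    · simp only [Set.mem_insert_iff, Set.mem_singleton_iff, not_or]
      exact ⟨fun e => d12 (htr y1 hy1 hy1c y2 q2 c2 e), fun e => d13 (htr y1 hy1 hy1c y3 q3 c3 e)⟩
  have ho3 : 3 ≤ Nat.card O := by
    rw [Nat.card_coe_set_eq, ← hc3']
    exact Set.ncard_le_ncard hthree (Set.toFinite _)
  have ho4 : Nat.card O ≤ 4 := le_trans (Nat.card_mono (Set.toFinite _) (horbsub y1 hy1 hy1c)) h𝔈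
  have hsame := (hsize t htQ (IsConj.refl t)).trans (hsize y1 hy1 hy1c).symm
  have hsame' : Nat.card (orbS N (yG t u z a)) = Nat.card O :=
    Nat.eq_of_mul_eq_mul_right Nat.card_pos hsame
  have ho : Nat.card O = 4 := by
    by_contra hne4
    have h3 : Nat.card O = 3 := by omega
    have hO : O = {yG y1 u z a, yG y2 u z a, yG y3 u z a} :=
      (Set.eq_of_subset_of_ncard_le hthree (by rw [← Nat.card_coe_set_eq, h3, hc3']) (Set.toFinite _)).symm
    have hdis : Disjoint (orbS N (yG t u z a)) O := by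
      rw [Set.disjoint_left]
      rintro K ⟨n, hn, rfl⟩ ⟨m, hm, he⟩
      have htO : yG t u z a ∈ O := ⟨m * n⁻¹, mul_mem hm (inv_mem hn), by
        rw [← cjS_cjS, he, cjS_cjS, mul_inv_cancel, cjS_one]⟩
      rw [hO] at htO
      rcases htO with e | e | e
      · exact hne y1 hy1 hy1c d1 e.symm
      · exact hne y2 q2 c2 d2 e.symm
      · exact hne y3 q3 c3 d3 e.symm
    have := Set.ncard_union_eq hdis (Set.toFinite _) (Set.toFinite _)
    have hle := Set.ncard_le_ncard (Set.union_subset (horbsub t htQ (IsConj.refl t)) (horbsub y1 hy1 hy1c))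
      (Set.toFinite _)
    simp only [Nat.card_coe_set_eq] at hsame' h3 h𝔈
    change (orbS N (yG t u z a) ∪ O).ncard ≤ _ at hle
    omega
  have := Subgroup.card_subgroup_dvd_card N
  rwa [← hsize y1 hy1 hy1c, ho] at this

end Hyp

end Cfsg.Agent.TwoTimesSym
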