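import Cfsg.Agent.TwoTimesSym.Four

/-!
The subgroup `Q = N(E) ∩ C(A)` of translations, where `E = ⟨t⟩ × A` and `A = ⟨u, z, a⟩` consists of the
non-conjugates of `t` in `E`.
-/

set_option autoImplicit false

namespace Cfsg.Agent.TwoTimesSym

open Subgroup

variable {G : Type*} [Group G] {t u z a k : G}

/-- The subgroup `⟨u, z, a⟩`. -/
abbrev aG (u z a : G) : Subgroup G := closure ({u, z, a} : Set G)

/-- The subgroup `N(E) ∩ C(A)`. -/
abbrev qG (t u z a : G) : Subgroup G := nrm (eG t u z a) ⊓ centralizer ({u, z, a} : Set G)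

theorem mem_qG [Finite G] {g : G} : g ∈ qG t u z a ↔
    g ∈ nrm (eG t u z a) ∧ cj g u = u ∧ cj g z = z ∧ cj g a = a := by
  rw [mem_inf, mem_centralizer_iff]
  refine and_congr_right fun _ => ?_
  simp only [cj_eq_self, Set.mem_insert_iff, Set.mem_singleton_iff, forall_eq_or_imp, forall_eq]
  exact ⟨fun ⟨p, q, r⟩ => ⟨p.symm, q.symm, r.symm⟩, fun ⟨p, q, r⟩ => ⟨p.symm, q.symm, r.symm⟩⟩

namespace Hyp

variable [Finite G] (h : Hyp t u z a k)
include h

omit [Finite G] in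
theorem mem_A {g : G} : g ∈ aG u z a ↔ ∃ p i j, (⟨false, p, false, (i, j)⟩ : TEl).ev t u z a k = g := by
  constructor
  · intro hg
    have hle : aG u z a ≤ h.toFrame.evSub (fun x => x.e || x.q) rfl (fun x y h1 h2 => by
        simp only [Bool.or_eq_false_iff] at h1 h2 ⊢
        simp [TEl.mul, h1.1, h1.2, h2.1, h2.2]) := by
      rw [closure_le]
      rintro x (rfl | rfl | rfl)
      exacts [⟨_, rfl, Frame.ev_u⟩, ⟨_, rfl, Frame.ev_z⟩, ⟨_, rfl, Frame.ev_a⟩]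
    obtain ⟨X, hX, hXe⟩ := hle hg
    obtain ⟨e, p, q, i, j⟩ := X
    simp only [Bool.or_eq_false_iff] at hX
    obtain ⟨rfl, rfl⟩ := hX
    exact ⟨p, i, j, hXe⟩
  · rintro ⟨p, i, j, rfl⟩
    have H : ∀ y ∈ ({u, z, a} : Set G), ∀ b, pw y b ∈ aG u z a := by
      intro y hy b
      cases b
      · simpa using one_mem _
      · simpa using subset_closure hy
    simp only [TEl.ev, El.ev, pz, pw_false, one_mul, mul_one]
    exact mul_mem (H _ (by simp) _) (mul_mem (H _ (by simp) _) (H _ (by simp) _))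

theorem A_le_E1 : aG u z a ≤ eG t u z a :=
  closure_mono (by intro x hx; simp only [Set.mem_insert_iff, Set.mem_singleton_iff] at hx ⊢; tauto)

theorem E1_le_Q : eG t u z a ≤ qG t u z a := fun g hg =>
  mem_qG.2 ⟨h.T_le_N1 (h.E1_le hg),
    cj_eq_self.2 (h.E1_comm hg (subset_closure (.inr (.inl rfl)))),
    cj_eq_self.2 (h.E1_comm hg (subset_closure (.inr (.inr (.inl rfl))))),
    cj_eq_self.2 (h.E1_comm hg (subset_closure (.inr (.inr (.inr rfl)))))⟩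

theorem Q_inf_cent : qG t u z a ⊓ centralizer ({t} : Set G) = eG t u z a := by
  refine le_antisymm (fun g hg => ?_) (le_inf h.E1_le_Q (le_trans h.E1_le h.T_le_cent))
  obtain ⟨hq, hc⟩ := mem_inf.1 hg
  obtain ⟨-, h1, h2, h3⟩ := mem_qG.1 hq
  exact h.cent1 g (mem_cent.1 hc) (cj_eq_self.1 h1) (cj_eq_self.1 h2) (cj_eq_self.1 h3)

theorem card_Q : Nat.card (qG t u z a) = Nat.card (orb (qG t u z a) t) * 16 := by
  rw [card_eq_orb_mul (qG t u z a) t, h.Q_inf_cent, h.card_E1]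

theorem Q_fix_A {g y : G} (hg : g ∈ qG t u z a) (hy : y ∈ aG u z a) : cj g y = y := by
  obtain ⟨-, hu, hz, ha⟩ := mem_qG.1 hg
  induction hy using closure_induction with
  | mem x hx => rcases hx with rfl | rfl | rfl <;> assumption
  | one => exact cj_one g
  | mul x y _ _ e1 e2 => rw [cj_mul, e1, e2]
  | inv x _ e1 => rw [cj_inv, e1]

variable (h4 : Four t u z)
include h4

theorem E1_conj_iff {X : TEl} (hX : X.q = false) : IsConj t (X.ev t u z a k) ↔ X.e = true :=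
  h.conj_T_iff h4 X (by simp [hX])

theorem A_not_conj {y : G} (hy : y ∈ aG u z a) : ¬ IsConj t y := by
  obtain ⟨p, i, j, rfl⟩ := h.mem_A.1 hy
  rw [h.E1_conj_iff h4 rfl]
  simp

theorem mem_A_of_not_conj {y : G} (hy : y ∈ eG t u z a) (hn : ¬ IsConj t y) : y ∈ aG u z a := by
  obtain ⟨⟨e, p, q, i, j⟩, hX, rfl⟩ := h.toFrame.mem_E1.1 hy
  obtain rfl : q = false := hX
  rw [h.E1_conj_iff h4 rfl] at hn
  obtain rfl : e = false := by simpa using hn
  exact h.mem_A.2 ⟨p, i, j, rfl⟩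

theorem N1_cj_A {g y : G} (hg : g ∈ nrm (eG t u z a)) (hy : y ∈ aG u z a) : cj g y ∈ aG u z a :=
  h.mem_A_of_not_conj h4 (nrm_iff.1 hg _ (h.A_le_E1 hy))
    fun hc => h.A_not_conj h4 hy (hc.trans (isConj_cj g y).symm)

theorem Q_conj {g x : G} (hg : g ∈ nrm (eG t u z a)) (hx : x ∈ qG t u z a) : cj g x ∈ qG t u z a := by
  have hgi := inv_mem hg
  have key : ∀ v, v ∈ aG u z a → cj (cj g x) v = v := by
    intro v hv
    have hv' := h.N1_cj_A h4 hgi hv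
    rw [show cj g x = g⁻¹ * x * g from rfl, ← cj_cj, ← cj_cj, h.Q_fix_A hx hv', cj_cj, inv_mul_cancel,
      cj_by_one]
  refine mem_qG.2 ⟨mul_mem (mul_mem (inv_mem hg) (mem_qG.1 hx).1) hg, key u ?_, key z ?_, key a ?_⟩ <;>
    exact subset_closure (by simp)

/-- The translation of an element of `Q`. -/
theorem Q_translation {x : G} (hx : x ∈ qG t u z a) : ∃ v ∈ aG u z a, cj x t = t * v := by
  have ht : cj x t ∈ eG t u z a := nrm_iff.1 (mem_qG.1 hx).1 t (subset_closure (.inl rfl))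
  obtain ⟨⟨e, p, q, i, j⟩, hX, hXe⟩ := h.toFrame.mem_E1.1 ht
  obtain rfl : q = false := hX
  have hc := (h.E1_conj_iff h4 (X := ⟨e, p, false, (i, j)⟩) rfl).1 (hXe ▸ isConj_cj x t)
  subst hc
  refine ⟨(⟨false, p, false, (i, j)⟩ : TEl).ev t u z a k, h.mem_A.2 ⟨p, i, j, rfl⟩, ?_⟩
  rw [← hXe]
  nth_rw 2 [← Frame.ev_t (t := t) (u := u) (z := z) (a := a) (k := k)]
  rw [← h.toFrame.ev_mul]
  congr 1
  clear hXe
  revert p i j
  decide

theorem Q_sq_fixes {x : G} (hx : x ∈ qG t u z a) : x * x ∈ eG t u z a := by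
  rw [← h.Q_inf_cent]
  obtain ⟨v, hv, hvt⟩ := h.Q_translation h4 hx
  refine mem_inf.2 ⟨mul_mem hx hx, mem_cent.2 (cj_eq_self.1 ?_)⟩
  rw [← cj_cj, hvt, cj_mul, h.Q_fix_A hx hv, hvt, mul_assoc, h.E1_sq (h.A_le_E1 hv), mul_one]

theorem Q_sq_A {x : G} (hx : x ∈ qG t u z a) : x * x ∈ aG u z a := by
  by_cases hxE : x ∈ eG t u z a
  · rw [h.E1_sq hxE]; exact one_mem _
  have hsq := h.Q_sq_fixes h4 hx
  obtain ⟨⟨e, p, q, i, j⟩, hX, hXe⟩ := h.toFrame.mem_E1.1 hsq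
  obtain rfl : q = false := hX
  cases e with
  | false => exact h.mem_A.2 ⟨p, i, j, hXe⟩
  | true =>
    exfalso
    apply hxE
    rw [← h.Q_inf_cent]
    refine mem_inf.2 ⟨hx, mem_cent.2 (cj_eq_self.1 ?_)⟩
    have hA : (⟨false, p, false, (i, j)⟩ : TEl).ev t u z a k ∈ aG u z a := h.mem_A.2 ⟨p, i, j, rfl⟩
    have he : t = x * x * (⟨false, p, false, (i, j)⟩ : TEl).ev t u z a k := by
      rw [← hXe, ← h.toFrame.ev_mul]
      conv_lhs => rw [← Frame.ev_t (t := t) (u := u) (z := z) (a := a) (k := k)]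
      congr 1
      clear hXe hA
      revert p i j
      decide
    rw [he, cj_mul, h.Q_fix_A hx hA, cj_mul, cj_eq_self.2 rfl]

theorem Q_comm {x y : G} (hx : x ∈ qG t u z a) (hy : y ∈ qG t u z a) :
    ∃ c ∈ aG u z a, x * y = y * x * c := by
  refine ⟨x⁻¹ * y⁻¹ * x * y, ?_, by group⟩
  rw [show x⁻¹ * y⁻¹ * x * y = (x⁻¹ * x⁻¹) * ((x * y⁻¹) * (x * y⁻¹)) * (y * y) by group]
  exact mul_mem (mul_mem (h.Q_sq_A h4 (inv_mem hx)) (h.Q_sq_A h4 (mul_mem hx (inv_mem hy))))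
    (h.Q_sq_A h4 hy)

theorem Q_comm_A {x y : G} (hx : x ∈ qG t u z a) (hy : y ∈ aG u z a) : x * y = y * x :=
  cj_eq_self.1 (h.Q_fix_A hx hy)

end Hyp

end Cfsg.Agent.TwoTimesSym
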